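import Cfsg.Agent.Lib.Coprime.Invariant
import Cfsg.Agent.Lib.Transfer.NilpotentHall
import Cfsg.Agent.Lib.Zsigmondy.Basic

/-!
# Group and number theory tools for the recognition of `PSU₃(q)` (owner: helper40)

* `cyclic_two` : a subgroup whose involution centraliser has cyclic Sylow 2-subgroup
* `index_mod` : the index of an invariant subgroup under semiregular coprime action
* `dvd_exponent`, `exists_prime` : the exponent arithmetic
-/

set_option autoImplicit false
set_option linter.unusedSectionVars false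
set_option linter.style.haveILetI false

namespace Cfsg.Agent.U3Recog

open Subgroup

variable {G : Type*} [Group G] [Finite G]

/-- A unique involution in a cyclic group. -/
theorem eq_of_cyclic {R : Subgroup G} (hR : IsCyclic R) {s t : G} (hs : orderOf s = 2)
    (ht : orderOf t = 2) (hsR : s ∈ R) (htR : t ∈ R) : s = t := by
  classical
  haveI := hR
  haveI := Fintype.ofFinite R
  by_contra hne
  have hs2 : s * s = 1 := by rw [← sq, ← hs, pow_orderOf_eq_one]
  have ht2 : t * t = 1 := by rw [← sq, ← ht, pow_orderOf_eq_one]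
  have hs1 : (1 : R) ≠ ⟨s, hsR⟩ := fun h => by
    have h : 1 = s := congrArg Subtype.val h
    simp [← h] at hs
  have ht1 : (1 : R) ≠ ⟨t, htR⟩ := fun h => by
    have h : 1 = t := congrArg Subtype.val h
    simp [← h] at ht
  have hst : (⟨s, hsR⟩ : R) ≠ ⟨t, htR⟩ := fun h => hne (congrArg Subtype.val h)
  have h := IsCyclic.card_pow_eq_one_le (α := R) (n := 2) (by norm_num)
  have hsub : ({1, ⟨s, hsR⟩, ⟨t, htR⟩} : Finset R) ⊆ Finset.univ.filter fun x => x ^ 2 = 1 := by
    intro x hx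
    simp only [Finset.mem_insert, Finset.mem_singleton] at hx
    rcases hx with rfl | rfl | rfl <;> simp [Subtype.ext_iff, sq, hs2, ht2]
  have hc := Finset.card_le_card hsub
  rw [Finset.card_insert_of_notMem (by simp [hs1, ht1]), Finset.card_pair hst] at hc
  omega

/-- A subgroup `X` containing a cyclic 2-subgroup `R ∋ t` which is maximal among the 2-subgroups of
`C_X(t)`: its involutions are conjugate and it has a normal 2-complement. -/
theorem cyclic_two {X R : Subgroup G} {t : G} (ht : orderOf t = 2) (hRX : R ≤ X)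
    (hR : IsPGroup 2 R) (hRc : IsCyclic R) (htR : t ∈ R)
    (hmax : ∀ S : Subgroup G, R ≤ S → S ≤ X ⊓ centralizer ({t} : Set G) → IsPGroup 2 S → S = R) :
    (∀ s ∈ X, orderOf s = 2 → ∃ x ∈ X, x * t * x⁻¹ = s) ∧
      ∃ K : Subgroup G, K ≤ X ∧ X ≤ normalizer (K : Set G) ∧ Odd (Nat.card K) ∧
        Nat.card K * Nat.card R = Nat.card X ∧ ∀ x ∈ X, Odd (orderOf x) → x ∈ K := by
  haveI : Fact (Nat.Prime 2) := ⟨Nat.prime_two⟩
  -- a Sylow 2-subgroup of `X`
  have hRp : IsPGroup 2 (R.subgroupOf X) := hR.of_equiv (subgroupOfEquivOfLe hRX).symm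
  obtain ⟨S, hS⟩ := hRp.exists_le_sylow
  have hSR : (S : Subgroup X) = R.subgroupOf X := by
    by_contra hne
    have hlt : R.subgroupOf X < S := lt_of_le_of_ne hS (Ne.symm hne)
    have := Group.normalizerCondition_of_isNilpotent (G := S) (h := S.2.isNilpotent)
      ((R.subgroupOf X).subgroupOf S) (by
        rw [lt_top_iff_ne_top, Ne, subgroupOf_eq_top]
        exact fun h => hlt.not_ge h)
    obtain ⟨r, hr, hrR⟩ := SetLike.exists_of_lt this
    have hrt : ((r : X) : G) * t * ((r : X) : G)⁻¹ = t := by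
      have h1 := (mem_normalizer_iff.1 hr ⟨⟨t, hRX htR⟩, hS htR⟩).1 htR
      refine eq_of_cyclic hRc ?_ ht h1 htR
      exact (MulEquiv.orderOf_eq (MulAut.conj ((r : X) : G)) t).trans ht
    set T : Subgroup G := (S : Subgroup X).map X.subtype ⊓ centralizer ({t} : Set G)
    have hT : T = R := by
      refine hmax T (fun x hx => ⟨⟨⟨x, hRX hx⟩, hS hx, rfl⟩, ?_⟩)
        (le_inf (inf_le_left.trans (map_subtype_le _)) inf_le_right)
        ((S.2.map _).to_le inf_le_left)
      refine mem_centralizer_singleton_iff.2 ?_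
      haveI := hRc
      letI := IsCyclic.commGroup (α := R)
      exact congrArg Subtype.val (mul_comm (⟨x, hx⟩ : R) ⟨t, htR⟩)
    refine hrR (show ((r : X) : G) ∈ R from hT ▸ ⟨⟨_, r.2, rfl⟩, ?_⟩)
    exact mem_centralizer_singleton_iff.2 (mul_inv_eq_iff_eq_mul.1 hrt)
  have hcyc : IsCyclic (S : Subgroup X) := by
    rw [hSR]
    exact (subgroupOfEquivOfLe hRX).isCyclic.2 hRc
  constructor
  · intro s hs hs2
    have hsp : IsPGroup 2 (zpowers (⟨s, hs⟩ : X)) := by
      refine IsPGroup.of_card (n := 1) ?_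
      rw [Nat.card_zpowers, Subgroup.orderOf_mk, hs2, pow_one]
    obtain ⟨S', hS'⟩ := hsp.exists_le_sylow
    obtain ⟨x, hx⟩ := MulAction.exists_smul_eq X S S'
    have hsm : (⟨s, hs⟩ : X) ∈ ((x • S : Sylow 2 X) : Subgroup X) :=
      hx ▸ hS' (mem_zpowers _)
    obtain ⟨y, hy, hxy⟩ := hsm
    refine ⟨x, x.2, ?_⟩
    have hy' : ((y : X) : G) ∈ R := by
      have := hy
      rw [SetLike.mem_coe, hSR] at this
      exact this
    have hsy : (x : G) * (y : G) * (x : G)⁻¹ = s := congrArg Subtype.val hxy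
    have : (y : G) = t := by
      refine eq_of_cyclic hRc ?_ ht hy' htR
      rw [← hs2, ← hsy]
      exact (MulEquiv.orderOf_eq (MulAut.conj (x : G)) _).symm
    rw [← this, hsy]
  · have hmin : (Nat.card X).minFac = 2 := by
      rw [Nat.minFac_eq_two_iff]
      have := orderOf_dvd_natCard (⟨t, hRX htR⟩ : X)
      rwa [Subgroup.orderOf_mk, ht] at this
    obtain ⟨N, hN, hNn⟩ : ∃ N : Subgroup X, IsComplement' N (S : Subgroup X) ∧ N.Normal :=
      ⟨_, IsCyclic.isComplement' hmin hcyc, MonoidHom.normal_ker _⟩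
    have hodd : Odd (Nat.card N) := by
      rw [← Nat.not_even_iff_odd, even_iff_two_dvd]
      intro hd
      have hidx := S.not_dvd_index
      rw [hN.index_eq_card] at hidx
      exact hidx hd
    refine ⟨N.map X.subtype, map_subtype_le _, ?_, ?_, ?_, ?_⟩
    · intro x hx
      rw [mem_normalizer_iff]
      intro y
      constructor
      · rintro ⟨z, hz, rfl⟩
        exact ⟨⟨x, hx⟩ * z * ⟨x, hx⟩⁻¹, hNn.conj_mem z hz _, rfl⟩
      · rintro ⟨z, hz, h⟩
        refine ⟨⟨x, hx⟩⁻¹ * z * ⟨x, hx⟩, ?_, ?_⟩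
        · simpa using hNn.conj_mem z hz (⟨x, hx⟩⁻¹)
        · simp only [coe_subtype] at h
          simp [h, mul_assoc]
    · rwa [card_map_of_injective X.subtype_injective]
    · rw [card_map_of_injective X.subtype_injective, ← hN.card_mul_card, hSR,
        Nat.card_congr (subgroupOfEquivOfLe hRX).toEquiv]
    · intro x hx hxo
      refine ⟨⟨x, hx⟩, ?_, rfl⟩
      rw [SetLike.mem_coe, ← QuotientGroup.eq_one_iff, ← orderOf_eq_one_iff]
      haveI := hNn
      refine Nat.eq_one_of_dvd_coprimes (a := orderOf x) (b := Nat.card (X ⧸ N)) ?_ ?_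
        (orderOf_dvd_natCard (G := X ⧸ N) _)
      · obtain ⟨k, hk⟩ := S.2.exists_card_eq
        rw [← index_eq_card N, hN.symm.index_eq_card, hk]
        exact Nat.Coprime.pow_right k (Nat.coprime_two_right.2 hxo)
      · rw [← Subgroup.orderOf_mk x hx]
        exact orderOf_map_dvd (QuotientGroup.mk' N) _

omit [Finite G] in
theorem smul_coset_aux {A Q : Subgroup G} (hAQ : A ≤ normalizer (Q : Set G)) (a : A) (x : Q) :
    (a : G) * x * (a : G)⁻¹ ∈ Q :=
  (mem_normalizer_iff.1 (hAQ a.2) x).1 x.2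

/-- The index of an invariant subgroup containing the fixed points of every non-trivial element. -/
theorem index_mod {Q Q0 A : Subgroup G} (hle : Q0 ≤ Q) (hAQ : A ≤ normalizer (Q : Set G))
    (hA0 : A ≤ normalizer (Q0 : Set G)) (hcop : (Nat.card A).Coprime (Nat.card Q))
    (hfree : ∀ a ∈ A, a ≠ 1 → Q ⊓ centralizer ({a} : Set G) ≤ Q0) :
    Nat.card A ∣ Q0.relIndex Q - 1 := by
  classical
  let f : A → (Q ⧸ Q0.subgroupOf Q) → (Q ⧸ Q0.subgroupOf Q) := fun a =>
    Quotient.map' (fun x => ⟨(a : G) * x * (a : G)⁻¹, smul_coset_aux hAQ a x⟩) (by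
      intro x y h
      rw [QuotientGroup.leftRel_apply, mem_subgroupOf] at h ⊢
      have := (mem_normalizer_iff.1 (hA0 a.2) _).1 h
      simpa [mul_assoc] using this)
  letI act : MulAction A (Q ⧸ Q0.subgroupOf Q) :=
    { smul := f
      one_smul := by
        rintro ⟨x⟩
        exact congrArg (Quotient.mk'') (Subtype.ext (by simp))
      mul_smul := by
        rintro a b ⟨x⟩
        exact congrArg (Quotient.mk'') (Subtype.ext (by simp [mul_assoc])) }
  let base : Q ⧸ Q0.subgroupOf Q := ((1 : Q) : Q ⧸ Q0.subgroupOf Q)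
  have hbase : ∀ a : A, a • base = base := fun a =>
    congrArg (Quotient.mk'') (Subtype.ext (by simp))
  have hstab : ∀ y : Q ⧸ Q0.subgroupOf Q, y ≠ base → ∀ a : A, a • y = y → a = 1 := by
    intro y hy a ha
    obtain ⟨x, rfl⟩ := QuotientGroup.mk_surjective y
    by_contra ha1
    have hmem : (x : G)⁻¹ * ((a : G) * x * (a : G)⁻¹) ∈ Q0 :=
      mem_subgroupOf.1 (QuotientGroup.eq.1 ha.symm)
    have hz : zpowers (a : G) ≤ A := zpowers_le.2 a.2
    obtain ⟨c, hc, hcx⟩ := Coprime.exists_mem_centralizer_of_coset' (A := zpowers (a : G)) (K := Q)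
      (hz.trans hAQ) (hcop.coprime_dvd_left (Subgroup.card_dvd_of_le hz))
      (Or.inl (Group.isSolvable_of_comm fun u v => (IsCyclic.isMulCommutative (α := zpowers (a : G))).is_comm.comm u v)) hle (hz.trans hA0) x.2 (fun b hb => by
        obtain ⟨k, rfl⟩ := mem_zpowers_iff.1 hb
        have hfix : (a ^ k : A) • ((x : Q) : Q ⧸ Q0.subgroupOf Q) = x := by
          have : a ∈ MulAction.stabilizer A ((x : Q) : Q ⧸ Q0.subgroupOf Q) := ha
          exact zpow_mem this k
        have := mem_subgroupOf.1 (QuotientGroup.eq.1 hfix.symm)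
        simpa [mul_assoc] using this)
    refine hy (QuotientGroup.eq.2 ?_)
    rw [mem_subgroupOf]
    have hc0 : c ∈ Q0 := hfree a a.2 (fun h => ha1 (Subtype.ext h)) ⟨hc.1,
      mem_centralizer_singleton_iff.2 (mem_centralizer_iff.1 hc.2 a (mem_zpowers _)).symm⟩
    have : ((x : G))⁻¹ * 1 ∈ Q0 := by
      simpa using Q0.mul_mem hcx (Q0.inv_mem hc0)
    simpa using this
  -- count the other cosets
  let Y := {y : Q ⧸ Q0.subgroupOf Q // y ≠ base}
  letI : MulAction A Y :=
    { smul := fun a y => ⟨a • y.1, fun h => y.2 (by rw [← inv_smul_smul a y.1, h, hbase])⟩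
      one_smul := fun y => Subtype.ext (one_smul A y.1)
      mul_smul := fun a b y => Subtype.ext (mul_smul a b y.1) }
  have hY : Nat.card Y = Q0.relIndex Q - 1 := by
    haveI := Fintype.ofFinite (Q ⧸ Q0.subgroupOf Q)
    rw [Subgroup.relIndex, index_eq_card, Nat.card_eq_fintype_card, Nat.card_eq_fintype_card,
      Fintype.card_subtype_compl, Fintype.card_subtype_eq]
  haveI := Fintype.ofFinite (Quotient (MulAction.orbitRel A Y))
  rw [← hY, Nat.card_congr (MulAction.selfEquivSigmaOrbitsQuotientStabilizer A Y), Nat.card_sigma]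
  refine Finset.dvd_sum fun ω _ => ?_
  have : MulAction.stabilizer A ω.out = ⊥ :=
    (eq_bot_iff_forall _).2 fun a ha => hstab ω.out.1 ω.out.2 a (congrArg Subtype.val ha)
  rw [← index_eq_card, this, index_bot]

/-- The two-part of `p ^ (2 n) - 1` forces even multiples of `n`. -/
theorem dvd_exponent {p n i a : ℕ} (hodd : Odd p) (hn : 1 ≤ n)
    (ha : 2 ^ a ∣ p ^ (2 * n) - 1) (hmax : ¬ 2 ^ (a + 1) ∣ p ^ (2 * n) - 1)
    (hi : 2 ^ a ∣ p ^ i - 1) (hni : n ≤ 2 ∨ n ∣ i) : 2 * n ∣ i := by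
  have key : ¬ Nat.gcd i (2 * n) ∣ n := by
    intro hg
    have h1 : 2 ^ a ∣ p ^ Nat.gcd i (2 * n) - 1 := by
      rw [← Nat.pow_sub_one_gcd_pow_sub_one]
      exact Nat.dvd_gcd hi ha
    have h2 : 2 ^ a ∣ p ^ n - 1 := h1.trans (Nat.pow_sub_one_dvd_pow_sub_one _ hg)
    refine hmax ?_
    have he : 2 ∣ p ^ n + 1 := by
      have : Odd (p ^ n) := hodd.pow
      exact even_iff_two_dvd.1 this.add_one
    rw [show p ^ (2 * n) - 1 = (p ^ n + 1) * (p ^ n - 1) by
      rw [mul_comm 2 n, pow_mul]; simpa using Nat.sq_sub_sq (p ^ n) 1, pow_succ, mul_comm]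
    exact Nat.mul_dvd_mul he h2
  have hg2 : Nat.gcd i (2 * n) ∣ 2 * n := Nat.gcd_dvd_right _ _
  suffices h : Nat.gcd i (2 * n) = 2 * n from h ▸ Nat.gcd_dvd_left _ _
  rcases hni with h | h
  · interval_cases n
    · rcases (Nat.dvd_prime Nat.prime_two).1 (by simpa using hg2) with h1 | h1
      · exact absurd (by rw [h1]) key
      · simpa using h1
    · have h4 := Nat.le_of_dvd (by norm_num) hg2
      norm_num at h4 hg2 key ⊢
      interval_cases (Nat.gcd i 4) <;> omega
  · obtain ⟨c, hc⟩ := Nat.dvd_gcd h (dvd_mul_left n 2)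
    rw [hc] at hg2 key ⊢
    have hc2 : c ∣ 2 := by
      rw [mul_comm 2 n] at hg2
      exact Nat.dvd_of_mul_dvd_mul_left (by omega) hg2
    rcases (Nat.dvd_prime Nat.prime_two).1 hc2 with rfl | rfl
    · exact absurd (by rw [mul_one]) key
    · rw [mul_comm]

/-- A prime of multiplicative order `n` modulo an odd prime power. -/
theorem exists_prime {p n : ℕ} (hp : p.Prime) (hodd : Odd p) (hn : 3 ≤ n) :
    ∃ r : ℕ, r.Prime ∧ r ≠ 2 ∧ r ≠ p ∧ r ∣ p ^ n - 1 ∧ ¬ r ∣ p ^ n + 1 ∧
      ¬ r ∣ p ^ n * p ^ n - p ^ n + 1 ∧ ∀ i, r ∣ p ^ i - 1 → n ∣ i := by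
  obtain ⟨r, hr, hrd, hmin⟩ := Zsigmondy.exists_primitive hp.one_lt (n := n) (by omega)
    (fun h => by rw [h.1] at hodd; exact absurd hodd (by decide)) (fun h => by omega)
  have hr2 : r ≠ 2 := by
    rintro rfl
    refine hmin 1 one_pos (by omega) ?_
    rw [pow_one]
    obtain ⟨k, rfl⟩ := hodd
    omega
  have h1 : 1 ≤ p ^ n := Nat.one_le_pow _ _ hp.pos
  have hmod : (p ^ n : ZMod r) = 1 := by
    have : ((p ^ n - 1 : ℕ) : ZMod r) = 0 := (CharP.cast_eq_zero_iff (ZMod r) r _).2 hrd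
    rw [Nat.cast_sub h1] at this
    push_cast at this
    exact sub_eq_zero.1 this
  haveI := Fact.mk hr
  refine ⟨r, hr, hr2, ?_, hrd, ?_, ?_, ?_⟩
  · rintro rfl
    rw [ZMod.natCast_self, zero_pow (by omega)] at hmod
    exact zero_ne_one hmod
  · intro h
    have h' : ((p ^ n + 1 : ℕ) : ZMod r) = 0 := (CharP.cast_eq_zero_iff (ZMod r) r _).2 h
    push_cast at h'
    rw [hmod, one_add_one_eq_two] at h'
    have h2 : ((2 : ℕ) : ZMod r) = 0 := by exact_mod_cast h'
    exact hr2 ((Nat.prime_dvd_prime_iff_eq hr Nat.prime_two).1 ((CharP.cast_eq_zero_iff (ZMod r) r _).1 h2))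
  · intro h
    have h' : ((p ^ n * p ^ n - p ^ n + 1 : ℕ) : ZMod r) = 0 :=
      (CharP.cast_eq_zero_iff (ZMod r) r _).2 h
    push_cast [Nat.cast_sub (Nat.le_mul_of_pos_right _ h1)] at h'
    rw [hmod] at h'
    simp at h'
  · intro i hi
    by_contra hni
    have hg : Nat.gcd i n < n := lt_of_le_of_ne (Nat.le_of_dvd (by omega) (Nat.gcd_dvd_right _ _))
      (fun h => hni (h ▸ Nat.gcd_dvd_left _ _))
    refine hmin _ (Nat.gcd_pos_of_pos_right _ (by omega)) hg ?_
    rw [← Nat.pow_sub_one_gcd_pow_sub_one]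
    exact Nat.dvd_gcd hi hrd

end Cfsg.Agent.U3Recog
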