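import Cfsg.Agent.Lib.U3Recog.Centre

/-!
# Elements of `GU₂(q)/Z` (owner: helper40)

* `cc_root`, `nc_root`, `cc_torus` : centralisers and the normaliser of the root group in `C(t)`
* `exists_involution_conj` : the involutions of `C(t)` other than `t` are conjugate to `w`
* `root_conj`, `t_mem_of_two_roots` : root groups and subgroups containing two of them
* `fusion` : in a simple group `w` is conjugate to `t`
-/

set_option autoImplicit false
set_option linter.unusedSectionVars false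
set_option linter.style.haveILetI false

namespace Cfsg.Agent.U3Recog

open Subgroup Cfsg.Agent.Unitary
open scoped Pointwise

variable {G : Type*} [Group G] [Finite G] {F : Type*} [Field F] [Fintype F] {q : ℕ}

namespace PreData

variable (D : PreData G F q)
include D

theorem exists_skew_ne : ∃ c : F, c + c ^ q = 0 ∧ c ≠ 0 := by
  obtain ⟨d, hd0, hd⟩ := exists_skew D.hF
  exact ⟨d, by rw [hd, add_neg_cancel], hd0⟩

/-- An element centralising a non-trivial root element. -/
theorem cc_root {g : U2 F q} {c : F} (hc : c + c ^ q = 0) (hc0 : c ≠ 0)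
    (h : Commute (D.π g) (D.π (uu D.hF c hc))) :
    ∃ (c' : F) (hc' : c' + c' ^ q = 0) (α : Fˣ), α ^ (q + 1) = 1 ∧
      g = uu D.hF c' hc' * dd D.hF α := by
  obtain ⟨h10, h00⟩ := of_comm_uu D.hF g hc hc0 (D.comm_lift h)
  obtain ⟨c', hc', α, rfl⟩ := upper D.hF g h10
  refine ⟨c', hc', α, ?_, rfl⟩
  simp at h00
  have h0 : (α : F) ^ q ≠ 0 := pow_ne_zero _ α.ne_zero
  ext
  rw [Units.val_pow_eq_pow_val, pow_succ', Units.val_one]
  nth_rw 1 [h00]
  exact inv_mul_cancel₀ h0

/-- An element commuting with a torus element outside the scalars lies in the torus. -/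
theorem cc_torus {g : U2 F q} {β : Fˣ} (hβ : β ^ (q + 1) ≠ 1)
    (h : Commute (D.π g) (D.π (dd D.hF β))) : D.π g ∈ D.H := by
  have hm := D.comm_lift h
  have a := congrArg e01 hm
  have b := congrArg e10 hm
  simp at a b
  have h0 : ((β : F) ^ q)⁻¹ - (β : F) ≠ 0 := by
    intro e
    refine hβ (Units.ext ?_)
    rw [Units.val_pow_eq_pow_val, pow_succ', Units.val_one]
    have e' := sub_eq_zero.1 e
    nth_rw 1 [← e']
    exact inv_mul_cancel₀ (pow_ne_zero _ β.ne_zero)
  have r0 : e01 g = 0 :=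
    (mul_eq_zero.1 (show (((β : F) ^ q)⁻¹ - (β : F)) * e01 g = 0 by
      linear_combination a)).resolve_left h0
  have s0 : e10 g = 0 :=
    (mul_eq_zero.1 (show (((β : F) ^ q)⁻¹ - (β : F)) * e10 g = 0 by
      linear_combination -b)).resolve_left h0
  obtain ⟨c, hc, α, rfl⟩ := upper D.hF g s0
  simp at r0
  refine ⟨α, ?_⟩
  subst r0
  simp [uu_zero]

theorem dd_scalar {α : Fˣ} (h : α ^ (q + 1) = 1) (g : U2 F q) :
    g * dd D.hF α = dd D.hF α * g := by
  have h0 : (α : F) ^ q ≠ 0 := pow_ne_zero _ α.ne_zero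
  have h1 : ((α : F) ^ q)⁻¹ = α := by
    refine inv_eq_of_mul_eq_one_left ?_
    rw [← pow_succ', ← Units.val_pow_eq_pow_val, h, Units.val_one]
  apply ext4 <;> simp [h1, mul_comm]

/-- The scalars are central in the centraliser. -/
theorem scalar_comm {α : Fˣ} (h : α ^ (q + 1) = 1) {x : G}
    (hx : x ∈ centralizer ({D.t} : Set G)) : Commute x (D.π (dd D.hF α)) := by
  obtain ⟨g, rfl⟩ := D.exists_of_comm (mem_centralizer_singleton_iff.1 hx)
  show _ * _ = _
  rw [← map_mul, ← map_mul, D.dd_scalar h]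

theorem uu_dd_inj {c c' : F} {hc : c + c ^ q = 0} {hc' : c' + c' ^ q = 0} {α α' : Fˣ}
    (h : D.π (uu D.hF c hc) * D.π (dd D.hF α) = D.π (uu D.hF c' hc') * D.π (dd D.hF α')) :
    c = c' ∧ D.π (dd D.hF α) = D.π (dd D.hF α') := by
  have hk : (uu D.hF c' hc' * dd D.hF α')⁻¹ * (uu D.hF c hc * dd D.hF α) ∈ D.π.ker := by
    rw [MonoidHom.mem_ker, map_mul, map_inv, map_mul, map_mul, h, inv_mul_cancel]
  obtain ⟨β, hβ, he⟩ := D.ker_eq_dd hk
  have he' : uu D.hF c hc * dd D.hF α = uu D.hF c' hc' * dd D.hF (α' * β) := by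
    rw [map_mul, ← mul_assoc, ← he]; group
  have a := congrArg e00 he'
  have b := congrArg e01 he'
  have b' := congrArg e11 he'
  simp at a b b'
  have hcc : c = c' := by
    rw [← b'] at b
    exact mul_right_cancel₀ (inv_ne_zero (pow_ne_zero _ α.ne_zero)) b
  subst hcc
  exact ⟨rfl, mul_left_cancel h⟩

theorem P0_inter_H {x : G} (hx : x ∈ D.P0) (hx' : x ∈ D.H) : x = 1 := by
  obtain ⟨c, hc, rfl⟩ := D.mem_P0.1 hx
  obtain ⟨α, hα⟩ := D.mem_H.1 hx'
  have h : D.π (uu D.hF c hc) * D.π (dd D.hF 1) =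
      D.π (uu D.hF 0 (skew_zero D.hF)) * D.π (dd D.hF α) := by
    rw [uu_zero D.hF, map_one (dd D.hF), map_one D.π, mul_one, one_mul, hα]
  obtain ⟨rfl, -⟩ := D.uu_dd_inj h
  rw [uu_zero, map_one]

theorem card_NB : Nat.card D.NB = q * Nat.card D.H := by
  refine Eq.trans ?_ (congrArg (· * Nat.card D.H) D.card_P0)
  rw [← Nat.card_prod]
  refine (Nat.card_congr (Equiv.ofBijective
    (fun x : D.P0 × D.H => (⟨x.1 * x.2, D.NB.mul_mem (D.P0_le_NB x.1.2) (D.H_le_NB x.2.2)⟩ : D.NB))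
    ⟨fun a b h => ?_, fun x => ?_⟩)).symm
  · have h' : (a.1 : G) * a.2 = b.1 * b.2 := congrArg Subtype.val h
    have h2 : (b.1 : G)⁻¹ * a.1 = b.2 * (a.2 : G)⁻¹ := by
      rw [eq_mul_inv_iff_mul_eq, mul_assoc, h', inv_mul_cancel_left]
    have h3 := D.P0_inter_H (D.P0.mul_mem (D.P0.inv_mem b.1.2) a.1.2)
      (h2 ▸ D.H.mul_mem b.2.2 (D.H.inv_mem a.2.2))
    have e1 : (a.1 : G) = b.1 := (inv_mul_eq_one.1 h3).symm
    rw [e1] at h'
    exact Prod.ext (Subtype.ext e1) (Subtype.ext (mul_left_cancel h'))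
  · obtain ⟨c, hc, α, h⟩ := D.mem_NB.1 x.2
    exact ⟨(⟨_, D.uu_mem c hc⟩, ⟨_, D.dd_mem α⟩), Subtype.ext h⟩

theorem mem_NB_normalizes {x y : G} (hx : x ∈ D.NB) (hy : y ∈ D.P0) : x * y * x⁻¹ ∈ D.P0 := by
  obtain ⟨c, hc, α, rfl⟩ := D.mem_NB.1 hx
  have h := D.dd_normalizes α hy
  have := D.P0.mul_mem (D.P0.mul_mem (D.uu_mem c hc) h) (D.P0.inv_mem (D.uu_mem c hc))
  simpa [mul_assoc] using this

/-- An element of the centraliser normalising the root group is upper triangular. -/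
theorem nc_root {x : G} (hx : x ∈ centralizer ({D.t} : Set G))
    (hn : ∀ y ∈ D.P0, x * y * x⁻¹ ∈ D.P0) : x ∈ D.NB := by
  obtain ⟨g, rfl⟩ := D.exists_of_comm (mem_centralizer_singleton_iff.1 hx)
  obtain ⟨c, hc, hc0⟩ := D.exists_skew_ne
  obtain ⟨c', hc', h⟩ := D.mem_P0.1 (hn _ (D.uu_mem c hc))
  have h' : uu D.hF c' hc' = g * uu D.hF c hc * g⁻¹ := by
    refine D.eq_of_det (by rw [map_mul, map_mul, map_inv]; exact h) ?_
    rw [det2_mul, det2_mul, det2_inv D.hF, det2_uu, det2_uu, mul_one,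
      mul_inv_cancel₀ (det2_ne_zero D.hF g)]
  have hm : uu D.hF c' hc' * g = g * uu D.hF c hc := by rw [h']; group
  have b := congrArg e00 hm
  have a := congrArg e10 hm
  have c1 := congrArg e11 hm
  simp at a b c1
  refine ⟨g, ?_, rfl⟩
  show e10 g = 0
  rcases c1 with c1 | c1
  · exact c1
  · exact absurd c1 hc0

theorem orderOf_w : orderOf D.w = 2 := by
  refine orderOf_eq_prime ?_ fun h => ?_
  · rw [sq, w, ← map_mul, wn_mul_self, map_one]
  · obtain ⟨-, h01, -⟩ := D.ker_scalar (wn D.hF) h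
    simp at h01

theorem w_mul_w : D.w * D.w = 1 := by rw [← sq, ← D.orderOf_w, pow_orderOf_eq_one]

theorem w_inv : D.w⁻¹ = D.w := inv_eq_of_mul_eq_one_right D.w_mul_w

theorem w_ne_t : D.w ≠ D.t := by
  intro h
  have : (negOne D.hF)⁻¹ * wn D.hF ∈ D.π.ker := by
    rw [MonoidHom.mem_ker, map_mul, map_inv, D.π_negOne]
    exact inv_mul_eq_one.2 h.symm
  obtain ⟨-, h01, -⟩ := D.ker_scalar _ this
  simp [negOne, ← map_inv] at h01

theorem w_dd (α : Fˣ) : D.w * D.π (dd D.hF α) * D.w = D.π (dd D.hF (α ^ q)⁻¹) := by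
  rw [w, ← map_mul, ← map_mul, wn_conj_dd]

/-- The involutions of the centraliser other than `t`. -/
theorem exists_involution_conj {s : G} (hs : s ∈ centralizer ({D.t} : Set G))
    (ho : orderOf s = 2) (hne : s ≠ D.t) :
    ∃ (z : F × F) (hz : h2 q z z = 2),
      s = D.π (sA D.hF D.two_ne z hz) * D.w * (D.π (sA D.hF D.two_ne z hz))⁻¹ := by
  obtain ⟨g, rfl⟩ := D.exists_of_comm (mem_centralizer_singleton_iff.1 hs)
  have hk : g * g ∈ D.π.ker := by
    rw [MonoidHom.mem_ker, map_mul, ← sq]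
    exact orderOf_dvd_iff_pow_eq_one.1 (dvd_of_eq ho)
  -- an odd power of `g` is an involution with the same image
  obtain ⟨m, hm⟩ := D.ker_odd
  set g' := g * (g * g) ^ m
  have hg' : g' * g' = 1 := by
    have hc : Commute g ((g * g) ^ m) := ((Commute.refl g).mul_right (Commute.refl g)).pow_right m
    calc g' * g' = g * g * ((g * g) ^ m * (g * g) ^ m) := by
          simp only [g']
          rw [mul_assoc, ← mul_assoc ((g * g) ^ m), ← hc.eq]
          simp [mul_assoc]
      _ = 1 := by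
          rw [← pow_add, ← pow_succ', show m + m + 1 = 2 * m + 1 by ring, ← hm]
          exact congrArg Subtype.val (pow_card_eq_one' (x := (⟨g * g, hk⟩ : D.π.ker)))
  have hπ : D.π g' = D.π g := by
    rw [map_mul, map_pow, MonoidHom.mem_ker.1 hk, one_pow, mul_one]
  obtain ⟨z, hz, h⟩ := exists_involution D.hF D.two_ne hg'
    (fun e => by rw [e, map_one] at hπ; rw [← hπ, orderOf_one] at ho; simp at ho)
    (fun e => hne (by rw [← hπ, e, D.π_negOne]))
  exact ⟨z, hz, by rw [← hπ, h, map_mul, map_mul, map_inv]; rfl⟩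

theorem card_P0_pow {p n : ℕ} (hp : p.Prime) (hqp : q = p ^ n) (hn : 1 ≤ n) :
    (Nat.card (centralizer ({D.t} : Set G))).factorization p = n := by
  have h := D.card_C
  have hC : Nat.card (centralizer ({D.t} : Set G)) ≠ 0 := Nat.card_pos.ne'
  have hd : Nat.card D.π.ker ≠ 0 := Nat.card_pos.ne'
  have hq := D.q_ge
  have hpq : p ∣ q := hqp ▸ dvd_pow_self p (by omega)
  have hp1 : ¬ p ∣ q + 1 := fun hd => hp.not_dvd_one ((Nat.dvd_add_right hpq).1 hd)
  have hp2 : ¬ p ∣ q ^ 2 - 1 := fun hd => by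
    have h1 := Nat.dvd_sub (dvd_pow hpq two_ne_zero) hd
    rw [Nat.sub_sub_self (Nat.one_le_pow _ _ (by omega))] at h1
    exact hp.not_dvd_one h1
  have hker : ¬ p ∣ Nat.card D.π.ker := fun hd => hp1 (hd.trans D.d_dvd)
  have h' := congrArg (fun x => x.factorization p) h
  have hb : q ^ 2 - 1 ≠ 0 := by
    have : 3 * 3 ≤ q ^ 2 := by nlinarith
    omega
  simp only [Nat.factorization_mul hC hd, Nat.factorization_mul (by omega : q ≠ 0)
      (mul_ne_zero (Nat.succ_ne_zero q) hb), Nat.factorization_mul (Nat.succ_ne_zero q) hb,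
    Finsupp.coe_add, Pi.add_apply, Nat.factorization_eq_zero_of_not_dvd hker,
    Nat.factorization_eq_zero_of_not_dvd hp1, Nat.factorization_eq_zero_of_not_dvd hp2] at h'
  have e : ∀ m, m = p ^ n → m.factorization p = n := fun m hm => by
    rw [hm, hp.factorization_pow, Finsupp.single_eq_same]
  simpa [e q hqp] using h'

/-- A subgroup of the centraliser of order `q` is a conjugate of the root group. -/
theorem root_conj {X : Subgroup G} (hX : X ≤ centralizer ({D.t} : Set G)) (hc : Nat.card X = q) :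
    ∃ g : U2 F q, X = MulAut.conj (D.π g) • D.P0 := by
  obtain ⟨p, n, hp, hchar, hqp, hn⟩ := exists_prime_pow D.hF
  haveI := Fact.mk hp
  set C := centralizer ({D.t} : Set G)
  have hsyl : ∀ Y : Subgroup G, Y ≤ C → Nat.card Y = q →
      ∃ S : Sylow p C, (S : Subgroup C) = Y.subgroupOf C := fun Y hY hcY =>
    ⟨Sylow.ofCard (Y.subgroupOf C) (by
      rw [Nat.card_congr (subgroupOfEquivOfLe hY).toEquiv, hcY, D.card_P0_pow hp hqp hn]
      exact hqp), rfl⟩
  obtain ⟨S, hS⟩ := hsyl X hX hc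
  obtain ⟨S', hS'⟩ := hsyl D.P0 D.P0_le_C D.card_P0
  obtain ⟨c, hcS⟩ := MulAction.exists_smul_eq C S' S
  obtain ⟨g, hg⟩ := D.exists_of_comm (mem_centralizer_singleton_iff.1 c.2)
  refine ⟨g, ?_⟩
  have h : (S : Subgroup C).map C.subtype = X := by
    rw [hS, subgroupOf_map_subtype, inf_eq_left.2 hX]
  have h' : (S' : Subgroup C).map C.subtype = D.P0 := by
    rw [hS', subgroupOf_map_subtype, inf_eq_left.2 D.P0_le_C]
  rw [← h, ← hcS, Coprime.map_subtype_smul, h', hg]

/-- A subgroup containing two root groups of the centraliser contains `t`. -/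
theorem t_mem_of_two_roots {M : Subgroup G} {g : U2 F q} (h1 : D.P0 ≤ M)
    (h2 : MulAut.conj (D.π g) • D.P0 ≤ M) (hg : e10 g ≠ 0) : D.t ∈ M := by
  obtain ⟨hc, c', hc', α, hgb⟩ := bruhat D.hF g hg
  set c := e00 g / e10 g
  have hw : ∀ y ∈ D.P0, D.w * y * D.w ∈ M := by
    intro y hy
    -- pull `y` back through the upper triangular factor
    set b := D.π (uu D.hF c' hc') * D.π (dd D.hF α)
    have hb : b ∈ D.NB := D.mem_NB.2 ⟨c', hc', α, rfl⟩
    have hy' : b⁻¹ * y * b ∈ D.P0 := by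
      simpa using D.mem_NB_normalizes (D.NB.inv_mem hb) hy
    have hm := h2 (Subgroup.smul_mem_pointwise_smul _ (MulAut.conj (D.π g)) _ hy')
    have e : D.π g = D.π (uu D.hF c hc) * D.w * b := by
      rw [hgb, map_mul, map_mul, map_mul, mul_assoc]; rfl
    rw [MulAut.smul_def, MulAut.conj_apply, e] at hm
    have := M.mul_mem (M.mul_mem (M.inv_mem (h1 (D.uu_mem c hc))) hm) (h1 (D.uu_mem c hc))
    simpa [mul_assoc, D.w_inv] using this
  obtain ⟨e, he, he0⟩ := D.exists_skew_ne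
  have hx := M.mul_mem (M.mul_mem (h1 (D.uu_mem e he))
    (hw _ (D.uu_mem (-e⁻¹) (skew_neg D.hF (skew_inv D.hF he))))) (h1 (D.uu_mem e he))
  rw [← D.π_negOne, ← sq_neg_one D.hF he he0, map_mul]
  simp only [map_mul]
  exact M.mul_mem hx hx

/-- In a simple group `w` is a conjugate of `t`. -/
theorem fusion [IsSimpleGroup G] : ∃ g : G, g * D.t * g⁻¹ = D.w := by
  by_contra hno
  simp only [not_exists] at hno
  have hiso : Cfsg.IsIsolatedInvolution D.t := by
    refine ⟨D.orderOf_t, fun g hc => ?_⟩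
    by_contra hne
    obtain ⟨z, hz, h⟩ := D.exists_involution_conj (s := g * D.t * g⁻¹)
      (mem_centralizer_singleton_iff.2 (by first | exact hc | exact hc.symm))
      (by rw [Involution.orderOf_conj, D.orderOf_t]) hne
    refine hno ((D.π (sA D.hF D.two_ne z hz))⁻¹ * g) ?_
    rw [mul_inv_rev, inv_inv]
    calc _ = (D.π (sA D.hF D.two_ne z hz))⁻¹ * (g * D.t * g⁻¹) * D.π (sA D.hF D.two_ne z hz) := by
          group
      _ = D.w := by rw [h]; group
  obtain ⟨N, hN, hodd, hcen⟩ := Transfer.exists_odd_normal_of_isolated hiso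
  rcases IsSimpleGroup.eq_bot_or_eq_top_of_normal N hN with rfl | rfl
  · have ht : D.t ∈ center G := mem_center_iff.2 fun g => by
      exact (mul_inv_eq_iff_eq_mul.1 (mul_inv_eq_one.1 (mem_bot.1 (hcen g)))).symm
    have hbot : center G = ⊤ := ((IsSimpleGroup.eq_bot_or_eq_top_of_normal (center G)
      inferInstance).resolve_left fun h => Involution.ne_one D.orderOf_t (by rwa [h, mem_bot] at ht))
    have hcomm : ∀ a b : G, Commute a b := fun a b =>
      ((mem_center_iff.1 (hbot ▸ mem_top b : b ∈ center G)) a)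
    obtain ⟨c, hc, hc0⟩ := D.exists_skew_ne
    obtain ⟨h10, -⟩ := of_comm_uu D.hF (wn D.hF) hc hc0 (D.comm_lift (hcomm _ _))
    simp at h10
  · rw [Subgroup.card_top] at hodd
    exact Nat.not_even_iff_odd.2 hodd
      (even_iff_two_dvd.2 (D.orderOf_t ▸ orderOf_dvd_natCard D.t))

end PreData

end Cfsg.Agent.U3Recog
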