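import Cfsg.Agent.Lib.U3Recog.Target

/-!
# Recognition of `PSU₃(q)` by the centraliser of an involution (owner: helper40)

* `iso_PSU` : a simple group with the data is isomorphic to `PSU₃(q)`
* `exists_data` : the data from an isomorphism of `C(t)` with `GU₂(q) / Z` and the group order
* `iso_of_card` : both together
-/

set_option autoImplicit false
set_option linter.unusedSectionVars false
set_option linter.style.haveILetI false

namespace Cfsg.Agent.U3Recog

open Subgroup Cfsg.Agent.Unitary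
open scoped Matrix

variable {G : Type*} [Group G] [Finite G] {F : Type*} [Field F] [Fintype F] {q : ℕ}

namespace Chart

variable (C : Chart G F q) [IsSimpleGroup G]
include C

/-- The regular subgroup and `w` generate. -/
theorem closure_eq_top : Subgroup.closure ((C.P : Set G) ∪ {C.w}) = ⊤ := by
  set K := Subgroup.closure ((C.P : Set G) ∪ {C.w})
  have hP : C.P ≤ K := fun x hx => Subgroup.subset_closure (Or.inl hx)
  have hw : C.w ∈ K := Subgroup.subset_closure (Or.inr rfl)
  obtain ⟨d, hd, hd0⟩ := C.exists_skew_ne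
  have hx : ∀ (e : F) (he : e + e ^ q = 0), C.π (uu C.hF e he * (wn C.hF *
      uu C.hF (-e⁻¹) (skew_neg C.hF (skew_inv C.hF he)) * wn C.hF) * uu C.hF e he) ∈ K := by
    intro e he
    have h1 := hP (C.P0_le (C.uu_mem e he))
    have h2 := hP (C.P0_le (C.uu_mem (-e⁻¹) (skew_neg C.hF (skew_inv C.hF he))))
    simp only [map_mul]
    exact K.mul_mem (K.mul_mem h1 (K.mul_mem (K.mul_mem hw h2) hw)) h1
  -- the real torus
  have hreal : ∀ β : Fˣ, (β : F) ^ q = β → C.π (dd C.hF β) ∈ K := by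
    intro β hβ
    have hc : -((β : F) * d) + (-((β : F) * d)) ^ q = 0 := by
      rw [neg_pow_q C.hF, mul_pow, hβ]; linear_combination -(β : F) * hd
    have hβ0 : (β : F) ≠ 0 := β.ne_zero
    have h := K.mul_mem (hx _ hc) (hx d hd)
    rw [← map_mul] at h
    convert h using 2
    obtain ⟨d0, d1, d2, d3⟩ := dd_entries C.hF (q := q) β
    apply ext4 <;> simp [d0, d1, d2, d3, hβ] <;> field_simp <;> ring
  have hK : ∀ η ∈ C.H, ∀ x ∈ K, η * x * η⁻¹ ∈ K := by
    intro η hη x hx
    suffices h : K ≤ K.comap (MulAut.conj η).toMonoidHom from h hx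
    rw [Subgroup.closure_le]
    rintro y (hy | rfl)
    · exact hP (C.P_conj (C.NB_le_B (C.H_le_NB hη)) hy)
    · obtain ⟨α, rfl⟩ := C.mem_H.1 hη
      show C.π (dd C.hF α) * C.w * (C.π (dd C.hF α))⁻¹ ∈ K
      have e : C.π (dd C.hF α) * C.w * (C.π (dd C.hF α))⁻¹ =
          C.w * C.π (dd C.hF ((α ^ q)⁻¹ * α⁻¹)) := by
        rw [map_mul, map_mul, ← C.w_dd α, map_inv, map_inv]
        simp only [← mul_assoc]
        rw [C.w_mul_w, one_mul]
      rw [e]
      refine K.mul_mem hw (hreal _ ?_)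
      simp [mul_pow, inv_pow, pow_q_pow_q C.hF, mul_comm]
  have hall : ∀ g : G, ∃ k ∈ K, ∃ η ∈ C.H, g = k * η := by
    intro g
    obtain ⟨k, hk, hkg⟩ : ∃ k ∈ K, k • C.oo = g • C.oo := by
      by_cases h : g • C.oo = C.oo
      · exact ⟨1, K.one_mem, by rw [one_smul, h]⟩
      · obtain ⟨x, hx, e⟩ := C.exists_pt h
        exact ⟨x * C.w, K.mul_mem (hP hx) hw, by rw [mul_smul, ← e]; rfl⟩
    have h1 : (k⁻¹ * g) • C.oo = C.oo := by rw [mul_smul, ← hkg, inv_smul_smul]
    have h0 : (k⁻¹ * g) • C.zero ≠ C.oo := fun e =>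
      C.zero_ne_oo (MulAction.injective _ (e.trans h1.symm))
    obtain ⟨x, hx, e⟩ := C.exists_pt h0
    refine ⟨k * x, K.mul_mem hk (hP hx), x⁻¹ * (k⁻¹ * g), C.stab_two ?_ ?_, by group⟩
    · rw [mul_smul, h1, C.P_oo (C.P.inv_mem hx)]
    · rw [mul_smul, ← e, inv_smul_smul]
  have hN : K.Normal := ⟨fun x hx g => by
    obtain ⟨k, hk, η, hη, rfl⟩ := hall g
    have := K.mul_mem (K.mul_mem hk (hK η hη x hx)) (K.inv_mem hk)
    simpa [mul_assoc] using this⟩
  refine (IsSimpleGroup.eq_bot_or_eq_top_of_normal K hN).resolve_left fun h => ?_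
  exact Involution.ne_one C.orderOf_w (by rwa [h, mem_bot] at hw)

end Chart

/-- A simple group with the data is `PSU₃(q)`. -/
theorem iso_PSU (D : Data G F q) [IsSimpleGroup G] : Nonempty (G ≃* Cfsg.PSU 3 F q) := by
  obtain ⟨C, -⟩ := exists_chart D
  have hF := C.hF
  have h2 := C.two_ne
  obtain ⟨ε, hε⟩ := exists_norm_eq hF (c := (-1 : F)) (by rw [neg_pow_q hF, one_pow])
  obtain ⟨κ, hκ⟩ := exists_norm_eq hF (c := (-2 : F)) (by rw [neg_pow_q hF, two_pow_q hF])
  rw [pow_succ] at hε hκ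
  let L := line hF h2 hε hκ C
  -- the two permutation representations
  let γ : G →* Equiv.Perm C.Pt := MulAction.toPermHom G C.Pt
  let ρ : Cfsg.SU 3 F q →* Equiv.Perm C.Pt :=
    (L.symm.permCongrHom.toMonoidHom).comp (MulAction.toPermHom (Cfsg.SU 3 F q) (IsoLine 3 F q))
  have hρ : ∀ (A : Cfsg.SU 3 F q) (g : G), (∀ y, A • L y = L (g • y)) → ρ A = γ g := by
    intro A g h
    ext y
    show L.symm (A • L y) = g • y
    rw [h, L.symm_apply_apply]
  have hγ : Function.Injective γ := by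
    rw [← MonoidHom.ker_eq_bot_iff, eq_bot_iff]
    intro g hg
    rw [mem_bot]
    exact C.faithful fun y => congrArg (fun σ : Equiv.Perm C.Pt => σ y) hg
  have hker : ρ.ker = center (Cfsg.SU 3 F q) := by
    ext A
    rw [MonoidHom.mem_ker, mem_center_SU_iff hF (by norm_num)]
    constructor
    · intro h
      refine scalar_of_fixes_iso hF (by norm_num) _ fun v hv hv0 => ?_
      have e := congrArg (fun σ : Equiv.Perm C.Pt => σ (L.symm (IsoLine.mk v hv hv0))) h
      change L.symm (A • L (L.symm _)) = L.symm _ at e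
      rw [L.apply_symm_apply] at e
      have e' := L.symm.injective e
      rw [IsoLine.smul_mk, IsoLine.mk_eq_iff] at e'
      obtain ⟨c, hc⟩ := e'
      exact ⟨c, hc.symm⟩
    · rintro ⟨z, hz⟩
      ext y
      show L.symm (A • L y) = y
      obtain ⟨v, hv, hv0, e⟩ := (L y).exists_mk
      rw [L.symm_apply_eq, e, IsoLine.smul_mk, IsoLine.mk_eq_iff]
      refine ⟨z, ?_⟩
      show z • v = _ *ᵥ v
      rw [hz]
      funext i
      simp [Matrix.mulVec_diagonal]
  -- the image of `G` is contained in that of `SU₃`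
  have hle : γ.range ≤ ρ.range := by
    rw [MonoidHom.range_eq_map, ← C.closure_eq_top, Subgroup.map_le_iff_le_comap,
      Subgroup.closure_le]
    rintro g (hg | rfl)
    · obtain ⟨a, b, h, rfl⟩ := C.exists_el hg
      obtain ⟨A, -, hA⟩ := exists_translation hF h2 hε hκ C h
      exact ⟨A, hρ A _ hA⟩
    · obtain ⟨A, hA⟩ := exists_swap hF h2 hε hκ C
      exact ⟨A, hρ A _ hA⟩
  have hge : ρ.range ≤ γ.range := by
    rw [MonoidHom.range_eq_map, ← transvectionGroup_eq_top (n := 3) hF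
      (Or.inr (Or.inl ⟨rfl, C.q_ge⟩)), Subgroup.map_le_iff_le_comap, transvectionGroup,
      Subgroup.closure_le]
    rintro A ⟨v, c, hv0, hA⟩
    show ρ A ∈ γ.range
    have hA1 : v = 0 → A = 1 := fun h =>
      Subtype.ext (Subtype.ext (by simp [hA, h, Cfsg.unitaryTransvection]))
    by_cases hv : v = 0
    · rw [hA1 hv, map_one]; exact one_mem _
    have hc : c + c ^ q = 0 :=
      (transvection_isometry_iff hF v hv hv0 c).1 (hA ▸ (A.2 : IsUnitary q _))
    -- carry the centre to the base line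
    set y := L.symm (IsoLine.mk v hv hv0)
    obtain ⟨g, hg⟩ := C.exists_rep y
    obtain ⟨Ag, hAg⟩ := hle ⟨g, rfl⟩
    set R : Fin 3 → F := pm ε *ᵥ ![1, 0, 0]
    have hR0 : R ≠ 0 := ne_of hF h2 hε inf_ne
    have hR : Cfsg.hermForm 3 F q R R = 0 := iso_of hF h2 hε (iso_inf hF h2 hε)
    have hline : Ag • IsoLine.mk R hR0 hR = IsoLine.mk v hv hv0 := by
      have e := congrArg (fun σ : Equiv.Perm C.Pt => σ C.oo) hAg
      change L.symm (Ag • L C.oo) = g • C.oo at e
      rw [← hg, line_oo] at e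
      exact L.symm.injective e
    rw [IsoLine.smul_mk, IsoLine.mk_eq_iff] at hline
    obtain ⟨l, hl⟩ := hline
    have hl0 : l ≠ 0 := fun h => suAct_ne_zero Ag hR0 (by rw [← hl, h, zero_smul])
    set c' := c * (l⁻¹) ^ (q + 1) with hc'
    have hc'' : c' + c' ^ q = 0 := by
      rw [hc', mul_pow, pow_q_succ_fixed hF, ← add_mul, hc, zero_mul]
    have hAeq : A = Ag * suTransvection hF R hR c' hc'' * Ag⁻¹ := by
      refine suAct_ext fun x => ?_
      rw [suAct_mul, suAct_mul, suAct_suTransvection, suAct_add, suAct_suAct_inv, suAct_smul,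
        ← suAct_herm Ag (suAct Ag⁻¹ x) R, suAct_suAct_inv, ← hl]
      show _ *ᵥ x = _
      rw [hA, transvection_mulVec, (hermForm_isHerm hF 3).smul_right, smul_smul, hc', inv_pow,
        pow_succ]
      congr 2
      field_simp
    have hok : Ok q (0 : F) c' := (ok_zero hF).2 hc''
    obtain ⟨A', hA', hA'y⟩ := exists_translation hF h2 hε hκ C hok
    have hT : A' = suTransvection hF R hR c' hc'' := by
      refine suAct_ext fun x => ?_
      obtain ⟨z, rfl⟩ : ∃ z, x = pm ε *ᵥ z := ⟨_, (pm_pmi hF h2 hε x).symm⟩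
      rw [hA', suAct_suTransvection, herm_pm hF h2 hε, ← Matrix.mulVec_smul, ← Matrix.mulVec_add]
      congr 1
      funext i
      fin_cases i <;>
        simp [iso3, Matrix.mulVec, dotProduct, Fin.sum_univ_three, zero_pow_q hF]
    refine ⟨g * C.el 0 c' * g⁻¹, ?_⟩
    rw [hAeq, ← hT, map_mul, map_mul, map_inv, map_mul, map_mul, map_inv, hρ A' _ hA'y, hAg]
  have hrange : γ.range = ρ.range := le_antisymm hle hge
  exact ⟨(MonoidHom.ofInjective hγ).trans ((MulEquiv.subgroupCongr hrange).trans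
    ((QuotientGroup.quotientKerEquivRange ρ).symm.trans
      (QuotientGroup.quotientMulEquivOfEq hker)))⟩

/-- An element commuting with all of `GU₂` is scalar. -/
theorem scalar_of_central (hF : Fintype.card F = q ^ 2) {g : U2 F q}
    (h : ∀ x : U2 F q, g * x = x * g) : e01 g = 0 ∧ e10 g = 0 ∧ e00 g = e11 g := by
  obtain ⟨d, hd0, hd⟩ := exists_skew hF
  have hd' : d + d ^ q = 0 := by rw [hd, add_neg_cancel]
  obtain ⟨a, b⟩ := of_comm_uu hF g hd' hd0 (h _)
  have c := congrArg e00 (h (wn hF))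
  simp [a] at c
  exact ⟨c, a, b⟩

/-- The data from the isomorphism of the centraliser. -/
theorem exists_preData (hq : Odd q) (hF : Fintype.card F = q ^ 2) (Z : Subgroup (Cfsg.GU 2 F q))
    [Z.Normal] (hZc : Z ≤ center (Cfsg.GU 2 F q)) (hZo : Odd (Nat.card Z)) (t : G)
    (ht : orderOf t = 2) (hC : Nonempty (centralizer ({t} : Set G) ≃* (Cfsg.GU 2 F q ⧸ Z))) :
    ∃ D : PreData G F q, D.t = t ∧ Nat.card D.π.ker = Nat.card Z := by
  obtain ⟨p, m, hp, hchar, hqp, hm⟩ := exists_prime_pow hF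
  have h2 : (2 : F) ≠ 0 := by
    intro h
    have h' : ((2 : ℕ) : F) = 0 := by exact_mod_cast h
    have hp2 : p = 2 :=
      (Nat.prime_dvd_prime_iff_eq hp Nat.prime_two).1 ((CharP.cast_eq_zero_iff F p 2).1 h')
    rw [hqp, hp2, Nat.odd_pow_iff (by omega)] at hq
    exact absurd hq (by decide)
  obtain ⟨φ⟩ := exists_equiv_GU hF h2
  obtain ⟨e⟩ := hC
  let ψ : U2 F q →* centralizer ({t} : Set G) :=
    (e.symm.toMonoidHom.comp (QuotientGroup.mk' Z)).comp φ.symm.toMonoidHom
  have hψ : Function.Surjective ψ :=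
    (e.symm.surjective.comp (QuotientGroup.mk'_surjective Z)).comp φ.symm.surjective
  set π : U2 F q →* G := (centralizer ({t} : Set G)).subtype.comp ψ
  have hmem : ∀ g, g ∈ π.ker ↔ φ.symm g ∈ Z := fun g => by
    rw [MonoidHom.mem_ker, show π g = (ψ g : G) from rfl, OneMemClass.coe_eq_one,
      show ψ g = e.symm (QuotientGroup.mk' Z (φ.symm g)) from rfl, MulEquiv.map_eq_one_iff]
    exact QuotientGroup.eq_one_iff _
  have hkc : Nat.card π.ker = Nat.card Z := Nat.card_congr
    { toFun := fun g => ⟨φ.symm g, (hmem g).1 g.2⟩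
      invFun := fun z => ⟨φ z, (hmem _).2 (by rw [φ.symm_apply_apply]; exact z.2)⟩
      left_inv := fun g => Subtype.ext (φ.apply_symm_apply _)
      right_inv := fun z => Subtype.ext (φ.symm_apply_apply _) }
  have hodd : Odd (Nat.card π.ker) := hkc ▸ hZo
  have hscal : ∀ g ∈ π.ker, e01 g = 0 ∧ e10 g = 0 ∧ e00 g = e11 g := fun g hg =>
    scalar_of_central hF fun x => φ.symm.injective (by
      rw [map_mul, map_mul, mem_center_iff.1 (hZc ((hmem g).1 hg))])
  have hrange : π.range = centralizer ({t} : Set G) := by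
    rw [MonoidHom.range_comp, MonoidHom.range_eq_top.2 hψ, ← MonoidHom.range_eq_map,
      Subgroup.range_subtype]
  obtain ⟨n0, n1, n2, n3⟩ := negOne_entries hF (q := q)
  have hneg : negOne hF ∉ π.ker := fun h => by
    have hne : (⟨_, h⟩ : π.ker) ≠ 1 := fun e => by
      have := congrArg e00 (congrArg Subtype.val e)
      simp [n0] at this
      exact h2 (by linear_combination -this)
    have ho : orderOf (⟨_, h⟩ : π.ker) = 2 := orderOf_eq_prime (by
      rw [sq]; refine Subtype.ext ?_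
      show negOne hF * negOne hF = 1
      rw [negOne, ← map_mul]; norm_num) hne
    exact Nat.not_even_iff_odd.2 hodd
      (even_iff_two_dvd.2 ((dvd_of_eq ho.symm).trans
        (_root_.orderOf_dvd_natCard (⟨_, h⟩ : π.ker))))
  -- a preimage of `t`
  obtain ⟨g, hg⟩ : ∃ g, π g = t :=
    MonoidHom.mem_range.1 (hrange ▸ mem_centralizer_singleton_iff.2 rfl)
  have hgc : ∀ x, g * x = x * g := by
    intro x
    have hk : (x * g)⁻¹ * (g * x) ∈ π.ker := by
      rw [MonoidHom.mem_ker, map_mul, map_inv, map_mul, map_mul, hg,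
        mem_centralizer_singleton_iff.1 (hrange ▸ ⟨x, rfl⟩ : π x ∈ centralizer ({t} : Set G)),
        inv_mul_cancel]
    obtain ⟨a, b, c⟩ := hscal _ hk
    have hd : det2 ((x * g)⁻¹ * (g * x)) = 1 := by
      rw [det2_mul, det2_inv hF, det2_mul, det2_mul, mul_comm (det2 g)]
      exact inv_mul_cancel₀ (mul_ne_zero (det2_ne_zero hF x) (det2_ne_zero hF g))
    rw [det2, a, zero_mul, sub_zero, ← c] at hd
    have hl : (e00 ((x * g)⁻¹ * (g * x)) - 1) * (e00 ((x * g)⁻¹ * (g * x)) + 1) = 0 := by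
      linear_combination hd
    rcases mul_eq_zero.1 hl with h | h
    · have h1 := sub_eq_zero.1 h
      exact (inv_mul_eq_one.1 (ext4 (by rw [h1, e00_one]) (by rw [a, e01_one]) (by rw [b, e10_one])
        (by rw [← c, h1, e11_one]))).symm
    · have h1 := eq_neg_of_add_eq_zero_left h
      exact absurd ((ext4 (by rw [h1, n0]) (by rw [a, n1]) (by rw [b, n2]) (by rw [← c, h1, n3]) :
        (x * g)⁻¹ * (g * x) = negOne hF) ▸ hk) hneg
  obtain ⟨a, b, c⟩ := scalar_of_central hF hgc
  have hgg : g * g ∈ π.ker := by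
    rw [MonoidHom.mem_ker, map_mul, hg, ← sq, ← ht, pow_orderOf_eq_one]
  obtain ⟨j, hj⟩ := hodd
  set g' := g * (g * g) ^ j
  have hπ' : π g' = t := by rw [map_mul, map_pow, MonoidHom.mem_ker.1 hgg, one_pow, mul_one, hg]
  have hg' : g' * g' = 1 := by
    have hc : Commute g ((g * g) ^ j) := ((Commute.refl g).mul_right (Commute.refl g)).pow_right j
    calc g' * g' = g * g * ((g * g) ^ j * (g * g) ^ j) := by
          simp only [g']
          rw [mul_assoc, ← mul_assoc ((g * g) ^ j), ← hc.eq]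
          simp [mul_assoc]
      _ = 1 := by
          rw [← pow_add, ← pow_succ', show j + j + 1 = 2 * j + 1 by ring, ← hj]
          exact congrArg Subtype.val (pow_card_eq_one' (x := (⟨g * g, hgg⟩ : π.ker)))
  have hc' : ∀ x, g' * x = x * g' := fun x =>
    ((Commute.mul_left (hgc x) (((Commute.mul_left (hgc x) (hgc x))).pow_left j)) : Commute g' x).eq
  obtain ⟨a', b', c'⟩ := scalar_of_central hF hc'
  have e0 := congrArg e00 hg'
  simp [a', b'] at e0
  refine ⟨⟨hF, hq, π, t, ?_, hrange, hscal, hkc ▸ hZo⟩, rfl, hkc⟩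
  rcases mul_self_eq_one_iff.1 e0 with h | h
  · exfalso
    have h1 : g' = 1 := ext4 (by rw [h, e00_one]) (by rw [a', e01_one]) (by rw [b', e10_one])
      (by rw [← c', h, e11_one])
    rw [h1, map_one] at hπ'
    rw [← hπ', orderOf_one] at ht
    exact absurd ht (by norm_num)
  · rw [← hπ']
    exact congrArg π (ext4 (by rw [n0, h]) (by rw [n1, a']) (by rw [n2, b'])
      (by rw [n3, ← c', h]))

/-- The data from the isomorphism of the centraliser and the order. -/
theorem exists_data (hq : Odd q) (hF : Fintype.card F = q ^ 2) (Z : Subgroup (Cfsg.GU 2 F q))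
    [Z.Normal] (hZc : Z ≤ center (Cfsg.GU 2 F q)) (hZo : Odd (Nat.card Z)) (t : G)
    (ht : orderOf t = 2) (hC : Nonempty (centralizer ({t} : Set G) ≃* (Cfsg.GU 2 F q ⧸ Z)))
    (hcard : Nat.card G * Nat.card Z = q ^ 3 * (q ^ 3 + 1) * (q ^ 2 - 1)) :
    ∃ D : Data G F q, D.t = t := by
  obtain ⟨D, hDt, hker⟩ := exists_preData hq hF Z hZc hZo t ht hC
  exact ⟨⟨D, hker ▸ hcard⟩, hDt⟩

/-- Recognition from the centraliser and the order. -/
theorem iso_of_card [IsSimpleGroup G] (hq : Odd q) (hF : Fintype.card F = q ^ 2)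
    (Z : Subgroup (Cfsg.GU 2 F q)) [Z.Normal] (hZc : Z ≤ center (Cfsg.GU 2 F q))
    (hZo : Odd (Nat.card Z)) (t : G) (ht : orderOf t = 2)
    (hC : Nonempty (centralizer ({t} : Set G) ≃* (Cfsg.GU 2 F q ⧸ Z)))
    (hcard : Nat.card G * Nat.card Z = q ^ 3 * (q ^ 3 + 1) * (q ^ 2 - 1)) :
    Nonempty (G ≃* Cfsg.PSU 3 F q) := by
  obtain ⟨D, -⟩ := exists_data hq hF Z hZc hZo t ht hC hcard
  exact iso_PSU D

end Cfsg.Agent.U3Recog
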