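import Cfsg.Agent.Lib.U3Recog.Elements

/-!
# The normaliser of the root group (owner: helper40)

* `B`, `CP` : normaliser and centraliser of `P0`
* `B_two`, `CP_two` : both have cyclic Sylow 2-subgroups
* `J`, `card_B` : the involutions of `B` form one class centralising `P0`
* `exists_K` : the odd part of `CP`
-/

set_option autoImplicit false
set_option linter.unusedSectionVars false
set_option linter.style.haveILetI false

namespace Cfsg.Agent.U3Recog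

open Subgroup Cfsg.Agent.Unitary
open scoped Pointwise

variable {G : Type*} [Group G] [Finite G] {F : Type*} [Field F] [Fintype F] {q : ℕ}

theorem card_cycPart_of_dvd {H : Subgroup G} {hH : IsCyclic H} {m : ℕ} (h : m ∣ Nat.card H) :
    Nat.card (cycPart H hH m) = m := by rw [card_cycPart, Nat.gcd_eq_right h]

namespace PreData

variable (D : PreData G F q)

/-- The normaliser of the root group. -/
noncomputable def B : Subgroup G := normalizer (D.P0 : Set G)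

/-- The centraliser of the root group. -/
noncomputable def CP : Subgroup G := centralizer (D.P0 : Set G)

/-- The Sylow 2-subgroup of the torus. -/
noncomputable def R : Subgroup G :=
  cycPart D.H (isCyclic_of_surjective _ (D.π.comp (dd D.hF)).rangeRestrict_surjective)
    (2 ^ (q ^ 2 - 1).factorization 2)

include D

theorem sq_sub_pos : q ^ 2 - 1 ≠ 0 := by
  have := D.q_ge
  have : 3 * 3 ≤ q ^ 2 := by nlinarith
  omega

theorem R_le_H : D.R ≤ D.H := cycPart_le _ _ _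

theorem card_R : Nat.card D.R = 2 ^ (q ^ 2 - 1).factorization 2 := by
  refine card_cycPart_of_dvd ?_
  refine Nat.Coprime.dvd_of_dvd_mul_right (Nat.Coprime.pow_left _
    (Nat.coprime_two_left.2 D.ker_odd)) ?_
  rw [D.card_H]
  exact Nat.ordProj_dvd _ _

theorem R_isPGroup : IsPGroup 2 D.R := IsPGroup.of_card D.card_R

theorem R_cyclic : IsCyclic D.R := cycPart_cyclic _ _ _

theorem even_sq : 2 ∣ q ^ 2 - 1 := by
  have h1 : Odd (q ^ 2) := D.hodd.pow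
  obtain ⟨k, hk⟩ := h1
  exact ⟨k, by omega⟩

theorem t_mem_R : D.t ∈ D.R := by
  refine ⟨D.t_mem_H, orderOf_dvd_iff_pow_eq_one.1 ?_⟩
  rw [D.orderOf_t]
  exact dvd_pow_self 2 (Nat.prime_two.factorization_pos_of_dvd D.sq_sub_pos D.even_sq).ne'

theorem coprime_q_two : Nat.Coprime 2 q := Nat.coprime_two_left.2 D.hodd

/-- A 2-subgroup of the Borel subgroup containing `R` is `R`. -/
theorem max_two {S : Subgroup G} (hR : D.R ≤ S) (hS : S ≤ D.NB) (hp : IsPGroup 2 S) : S = D.R := by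
  haveI : Fact (Nat.Prime 2) := ⟨Nat.prime_two⟩
  refine (Subgroup.eq_of_le_of_card_ge hR ?_).symm
  obtain ⟨k, hk⟩ := hp.exists_card_eq
  have h1 : 2 ^ k ∣ q * Nat.card D.H := by
    rw [← hk, ← D.card_NB]; exact Subgroup.card_dvd_of_le hS
  have h2 : 2 ^ k ∣ q ^ 2 - 1 := by
    rw [← D.card_H]
    exact Dvd.dvd.mul_right ((Nat.Coprime.pow_left k D.coprime_q_two).dvd_of_dvd_mul_left h1) _
  rw [hk, D.card_R]
  exact Nat.pow_le_pow_right (by norm_num)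
    ((Nat.Prime.pow_dvd_iff_le_factorization Nat.prime_two D.sq_sub_pos).1 h2)

theorem conj_mem_of_mem_B {x y : G} (hx : x ∈ D.B) (hy : y ∈ D.P0) : x * y * x⁻¹ ∈ D.P0 :=
  (mem_normalizer_iff.1 hx y).1 hy

theorem mem_B_of_conj {x : G} (h : ∀ y ∈ D.P0, x * y * x⁻¹ ∈ D.P0) : x ∈ D.B := by
  haveI : Finite ((D.P0 : Set G)) := inferInstanceAs (Finite D.P0)
  exact mem_normalizer_fintype h

theorem NB_le_B : D.NB ≤ D.B := fun _ hx => D.mem_B_of_conj fun _ hy => D.mem_NB_normalizes hx hy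

theorem B_inf_C : D.B ⊓ centralizer ({D.t} : Set G) = D.NB :=
  le_antisymm (fun _ hx => D.nc_root hx.2 fun _ hy => D.conj_mem_of_mem_B hx.1 hy)
    (le_inf D.NB_le_B D.NB_le_C)

theorem R_le_B : D.R ≤ D.B := D.R_le_H.trans (D.H_le_NB.trans D.NB_le_B)

theorem t_mem_B : D.t ∈ D.B := D.R_le_B D.t_mem_R

theorem B_two :
    (∀ s ∈ D.B, orderOf s = 2 → ∃ x ∈ D.B, x * D.t * x⁻¹ = s) ∧
      ∃ K : Subgroup G, K ≤ D.B ∧ D.B ≤ normalizer (K : Set G) ∧ Odd (Nat.card K) ∧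
        Nat.card K * Nat.card D.R = Nat.card D.B ∧ ∀ x ∈ D.B, Odd (orderOf x) → x ∈ K :=
  cyclic_two D.orderOf_t D.R_le_B D.R_isPGroup D.R_cyclic D.t_mem_R
    fun _ hR hS hp => D.max_two hR (D.B_inf_C ▸ hS) hp

theorem mem_CP {x : G} : x ∈ D.CP ↔ ∀ y ∈ D.P0, x * y = y * x :=
  ⟨fun h y hy => (mem_centralizer_iff.1 h y hy).symm,
    fun h => mem_centralizer_iff.2 fun y hy => (h y hy).symm⟩

theorem CP_le_B : D.CP ≤ D.B := fun x hx => D.mem_B_of_conj fun y hy => by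
  rwa [D.mem_CP.1 hx y hy, mul_inv_cancel_right]

theorem t_mem_CP : D.t ∈ D.CP :=
  D.mem_CP.2 fun _ hy => (mem_centralizer_singleton_iff.1 (D.P0_le_C hy)).symm

theorem P0_le_CP : D.P0 ≤ D.CP := fun _ hx => D.mem_CP.2 fun _ hy => (D.P0_comm hx hy).eq

theorem ZC_le_H : D.ZC ≤ D.H := by
  rintro _ ⟨_, ⟨α, -, rfl⟩, rfl⟩
  exact D.dd_mem α

theorem mem_ZC {x : G} : x ∈ D.ZC ↔ ∃ α : Fˣ, α ^ (q + 1) = 1 ∧ D.π (dd D.hF α) = x := by
  constructor
  · rintro ⟨_, ⟨α, hα, rfl⟩, rfl⟩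
    exact ⟨α, hα, rfl⟩
  · rintro ⟨α, hα, rfl⟩
    exact ⟨_, ⟨α, hα, rfl⟩, rfl⟩

theorem ZC_le_CP : D.ZC ≤ D.CP := by
  rintro _ hx
  obtain ⟨α, hα, rfl⟩ := D.mem_ZC.1 hx
  exact D.mem_CP.2 fun y hy => (D.scalar_comm hα (D.P0_le_C hy)).eq.symm

theorem CP_inf_C {x : G} (hx : x ∈ D.CP) (hx' : x ∈ centralizer ({D.t} : Set G)) :
    ∃ u ∈ D.P0, ∃ z ∈ D.ZC, x = u * z := by
  obtain ⟨g, rfl⟩ := D.exists_of_comm (mem_centralizer_singleton_iff.1 hx')
  obtain ⟨c, hc, hc0⟩ := D.exists_skew_ne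
  obtain ⟨c', hc', α, hα, rfl⟩ := D.cc_root hc hc0 (D.mem_CP.1 hx _ (D.uu_mem c hc))
  exact ⟨_, D.uu_mem c' hc', _, D.mem_ZC.2 ⟨α, hα, rfl⟩, map_mul _ _ _⟩

/-- The Sylow 2-subgroup of the scalars. -/
noncomputable def R0 : Subgroup G := D.R ⊓ D.ZC

theorem t_mem_ZC : D.t ∈ D.ZC := by
  refine D.mem_ZC.2 ⟨-1, ?_, D.π_negOne⟩
  exact (Even.neg_one_pow (D.hodd.add_one))

theorem CP_two : ∀ s ∈ D.CP, orderOf s = 2 → ∃ x ∈ D.CP, x * D.t * x⁻¹ = s := by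
  haveI : Fact (Nat.Prime 2) := ⟨Nat.prime_two⟩
  haveI := D.R_cyclic
  refine (cyclic_two D.orderOf_t (R := D.R0) (inf_le_right.trans D.ZC_le_CP)
    (D.R_isPGroup.to_le inf_le_left) ?_ ⟨D.t_mem_R, D.t_mem_ZC⟩ ?_).1
  · exact (subgroupOfEquivOfLe (inf_le_left : D.R0 ≤ D.R)).isCyclic.1 inferInstance
  · intro S hR hS hp
    refine le_antisymm (fun x hx => ?_) hR
    obtain ⟨u, hu, z, hz, rfl⟩ := D.CP_inf_C (hS hx).1 (hS hx).2
    -- the root part of a 2-element is trivial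
    obtain ⟨k, hk⟩ := IsPGroup.iff_orderOf.1 hp ⟨u * z, hx⟩
    rw [Subgroup.orderOf_mk] at hk
    have hc : Commute u z := (D.mem_CP.1 (D.ZC_le_CP hz) u hu).symm
    have h1 : u ^ 2 ^ k * z ^ 2 ^ k = 1 := by
      rw [← hc.mul_pow, ← hk, pow_orderOf_eq_one]
    have h2 : u ^ 2 ^ k = 1 := D.P0_inter_H (D.P0.pow_mem hu _)
      (by rw [eq_inv_of_mul_eq_one_left h1]; exact D.H.inv_mem (D.H.pow_mem (D.ZC_le_H hz) _))
    have hu1 : u = 1 := by
      rw [← orderOf_eq_one_iff]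
      refine Nat.eq_one_of_dvd_coprimes (Nat.Coprime.pow_left k D.coprime_q_two)
        (orderOf_dvd_of_pow_eq_one h2) ?_
      rw [← D.card_P0, ← Subgroup.orderOf_mk u hu]
      exact orderOf_dvd_natCard _
    subst hu1
    rw [one_mul] at hk hx ⊢
    refine ⟨⟨D.ZC_le_H hz, orderOf_dvd_iff_pow_eq_one.1 ?_⟩, hz⟩
    rw [hk]
    refine Nat.pow_dvd_pow 2 ((Nat.Prime.pow_dvd_iff_le_factorization Nat.prime_two D.sq_sub_pos).1 ?_)
    rw [← D.card_H, ← hk]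
    refine Dvd.dvd.mul_right ?_ _
    rw [← Subgroup.orderOf_mk z (D.ZC_le_H hz)]
    exact orderOf_dvd_natCard _

/-- `B = CP NB`. -/
theorem B_decomp {b : G} (hb : b ∈ D.B) : ∃ x ∈ D.CP, ∃ c ∈ D.NB, b = x * c := by
  have hs : b * D.t * b⁻¹ ∈ D.CP := by
    refine D.mem_CP.2 fun y hy => ?_
    have h1 : b⁻¹ * y * b ∈ D.P0 := by
      simpa using D.conj_mem_of_mem_B (D.B.inv_mem hb) hy
    have h2 := D.mem_CP.1 D.t_mem_CP _ h1
    calc b * D.t * b⁻¹ * y = b * (D.t * (b⁻¹ * y * b)) * b⁻¹ := by group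
      _ = b * (b⁻¹ * y * b * D.t) * b⁻¹ := by rw [h2]
      _ = y * (b * D.t * b⁻¹) := by group
  obtain ⟨x, hx, hxe⟩ := D.CP_two _ hs (by rw [Involution.orderOf_conj, D.orderOf_t])
  refine ⟨x, hx, x⁻¹ * b, ?_, by group⟩
  rw [← D.B_inf_C]
  refine ⟨D.B.mul_mem (D.B.inv_mem (D.CP_le_B hx)) hb, mem_centralizer_singleton_iff.2 ?_⟩
  calc x⁻¹ * b * D.t = x⁻¹ * (b * D.t * b⁻¹) * b := by group
    _ = D.t * (x⁻¹ * b) := by rw [← hxe]; group

/-- An element of `B` acts on the root group as an element of the torus. -/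
theorem B_acts {b : G} (hb : b ∈ D.B) :
    ∃ h ∈ D.H, ∀ y ∈ D.P0, b * y * b⁻¹ = h * y * h⁻¹ := by
  obtain ⟨x, hx, c, hc, rfl⟩ := D.B_decomp hb
  obtain ⟨e, he, α, rfl⟩ := D.mem_NB.1 hc
  refine ⟨_, D.dd_mem α, fun y hy => ?_⟩
  have h1 := D.dd_normalizes α hy
  have h2 := D.mem_CP.1 (D.CP.mul_mem hx (D.P0_le_CP (D.uu_mem e he))) _ h1
  calc _ = x * D.π (uu D.hF e he) * (D.π (dd D.hF α) * y * (D.π (dd D.hF α))⁻¹) *
        (x * D.π (uu D.hF e he))⁻¹ := by group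
    _ = _ := by rw [h2, mul_inv_cancel_right]

/-- Elements of order prime to the torus centralise the root group. -/
theorem mem_CP_of_coprime {b : G} (hb : b ∈ D.B)
    (hc : (orderOf b).Coprime (Nat.card D.H)) : b ∈ D.CP := by
  obtain ⟨h, hh, hact⟩ := D.B_acts hb
  have hpow : ∀ j : ℕ, ∀ y ∈ D.P0, b ^ j * y * (b ^ j)⁻¹ = h ^ j * y * (h ^ j)⁻¹ := by
    intro j
    induction j with
    | zero => simp
    | succ j ih =>
      intro y hy
      have h1 : h ^ j * y * (h ^ j)⁻¹ ∈ D.P0 :=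
        D.conj_mem_of_mem_B (D.B.pow_mem (D.NB_le_B (D.H_le_NB hh)) j) hy
      rw [pow_succ', pow_succ',
        show b * b ^ j * y * (b * b ^ j)⁻¹ = b * (b ^ j * y * (b ^ j)⁻¹) * b⁻¹ by group,
        ih y hy, hact _ h1]
      group
  have hN : b ^ Nat.card D.H ∈ D.CP := D.mem_CP.2 fun y hy => by
    have h1 : h ^ Nat.card D.H = 1 := congrArg Subtype.val (pow_card_eq_one' (x := (⟨h, hh⟩ : D.H)))
    have := hpow (Nat.card D.H) y hy
    rw [h1, inv_one, one_mul, mul_one] at this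
    exact mul_inv_eq_iff_eq_mul.1 this
  obtain ⟨j, hj⟩ := (exists_pow_eq_self_of_coprime hc.symm : ∃ j : ℕ, (b ^ Nat.card D.H) ^ j = b)
  rw [← hj]
  exact D.CP.pow_mem hN j

/-- The involutions of `B`. -/
abbrev J : Type _ := {s : G // s ∈ D.B ∧ orderOf s = 2}

theorem J_comm {s : G} (hs : s ∈ D.B) (ho : orderOf s = 2) : s ∈ D.CP := by
  obtain ⟨x, hx, rfl⟩ := D.B_two.1 s hs ho
  refine D.mem_CP.2 fun y hy => ?_
  have h1 : x⁻¹ * y * x ∈ D.P0 := by simpa using D.conj_mem_of_mem_B (D.B.inv_mem hx) hy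
  have h2 := D.mem_CP.1 D.t_mem_CP _ h1
  calc x * D.t * x⁻¹ * y = x * (D.t * (x⁻¹ * y * x)) * x⁻¹ := by group
    _ = x * (x⁻¹ * y * x * D.t) * x⁻¹ := by rw [h2]
    _ = y * (x * D.t * x⁻¹) := by group

theorem card_B : Nat.card D.B = Nat.card D.J * (q * Nat.card D.H) := by
  let f : D.B → D.J := fun b => ⟨b * D.t * (b : G)⁻¹,
    D.B.mul_mem (D.B.mul_mem b.2 D.t_mem_B) (D.B.inv_mem b.2),
    by rw [Involution.orderOf_conj, D.orderOf_t]⟩
  have hf : ∀ b b' : D.B, f b = f b' ↔ (b : G)⁻¹ * b' ∈ D.NB := by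
    intro b b'
    constructor
    · intro h
      have h : (b : G) * D.t * (b : G)⁻¹ = b' * D.t * (b' : G)⁻¹ := congrArg Subtype.val h
      rw [← D.B_inf_C]
      refine ⟨D.B.mul_mem (D.B.inv_mem b.2) b'.2, mem_centralizer_singleton_iff.2 ?_⟩
      calc (b : G)⁻¹ * b' * D.t = (b : G)⁻¹ * (b' * D.t * (b' : G)⁻¹) * b' := by group
        _ = D.t * ((b : G)⁻¹ * b') := by rw [← h]; group
    · intro h
      have h2 := mem_centralizer_singleton_iff.1 (D.NB_le_C h)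
      refine Subtype.ext ?_
      show (b : G) * D.t * (b : G)⁻¹ = b' * D.t * (b' : G)⁻¹
      calc (b : G) * D.t * (b : G)⁻¹
          = b * (D.t * ((b : G)⁻¹ * b')) * ((b : G)⁻¹ * b')⁻¹ * (b : G)⁻¹ := by group
        _ = _ := by rw [← h2]; group
  let g : D.B ⧸ D.NB.subgroupOf D.B → D.J := Quotient.lift f fun b b' h => (hf b b').2
    (mem_subgroupOf.1 (QuotientGroup.leftRel_apply.1 h))
  have hg : Function.Bijective g := by
    constructor
    · rintro ⟨b⟩ ⟨b'⟩ h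
      exact QuotientGroup.eq.2 (mem_subgroupOf.2 ((hf b b').1 h))
    · intro s
      obtain ⟨x, hx, h⟩ := D.B_two.1 s.1 s.2.1 s.2.2
      exact ⟨QuotientGroup.mk (⟨x, hx⟩ : D.B), Subtype.ext h⟩
  rw [← (D.NB.subgroupOf D.B).index_mul_card, index_eq_card, Nat.card_congr (Equiv.ofBijective g hg),
    Nat.card_congr (subgroupOfEquivOfLe D.NB_le_B).toEquiv, D.card_NB]

/-- The odd part of the centraliser of the root group. -/
theorem exists_K : ∃ K : Subgroup G, K ≤ D.CP ∧ D.B ≤ normalizer (K : Set G) ∧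
    Odd (Nat.card K) ∧ ∀ x ∈ D.CP, Odd (orderOf x) → x ∈ K := by
  obtain ⟨-, K, -, hn, hodd, -, hmem⟩ := D.B_two
  refine ⟨D.CP ⊓ K, inf_le_left, fun b hb => ?_, ?_, fun x hx ho => ⟨hx, hmem x (D.CP_le_B hx) ho⟩⟩
  · have hCP : ∀ g ∈ D.B, ∀ x ∈ D.CP, g * x * g⁻¹ ∈ D.CP := by
      intro g hg x hx
      refine D.mem_CP.2 fun y hy => ?_
      have h1 : g⁻¹ * y * g ∈ D.P0 := by simpa using D.conj_mem_of_mem_B (D.B.inv_mem hg) hy
      calc g * x * g⁻¹ * y = g * (x * (g⁻¹ * y * g)) * g⁻¹ := by group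
        _ = g * (g⁻¹ * y * g * x) * g⁻¹ := by rw [D.mem_CP.1 hx _ h1]
        _ = y * (g * x * g⁻¹) := by group
    refine mem_normalizer_iff.2 fun x => ⟨fun hx => ⟨hCP b hb x hx.1,
      (mem_normalizer_iff.1 (hn hb) x).1 hx.2⟩, fun hx => ⟨?_, (mem_normalizer_iff.1 (hn hb) x).2 hx.2⟩⟩
    simpa [mul_assoc] using hCP b⁻¹ (D.B.inv_mem hb) _ hx.1
  · exact hodd.of_dvd_nat (Subgroup.card_dvd_of_le inf_le_right)

end PreData

end Cfsg.Agent.U3Recog
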