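import Cfsg.Agent.Lib.U3Recog.Frame

/-!
# Coordinates on the points (owner: helper40)

* `Chart` : a frame with a point `x0` fixed by `w` and moved by `t`
* `psi` : the points moved by `t` correspond to the vectors of norm two
* `pp a b` : the point with coordinates `(a, b)`, `b + b ^ q = 2 * (a ^ q * a)`
* `el a b` : the element of `P` carrying `zero` to it
* `dlt a` : the defect in `(el a b)⁻¹ = el (-a) (b ^ q + dlt a)`
-/

set_option autoImplicit false
set_option linter.unusedSectionVars false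
set_option linter.style.haveILetI false

namespace Cfsg.Agent.U3Recog

open Subgroup Cfsg.Agent.Unitary
open scoped Pointwise

variable {G : Type*} [Group G] [Finite G] {F : Type*} [Field F] [Fintype F] {q : ℕ}

/-- Coordinates of a point other than `oo`. -/
def Ok (q : ℕ) (a b : F) : Prop := b + b ^ q = 2 * (a ^ q * a)

/-- The norm. -/
def nm (q : ℕ) (a : F) : F := a ^ q * a

/-- A frame with a point fixed by `w` and moved by `t`. -/
structure Chart (G : Type*) [Group G] [Finite G] (F : Type*) [Field F] [Fintype F] (q : ℕ)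
    extends Frame G F q where
  x0 : G ⧸ toFrame.toData.B
  w_x0 : toFrame.toData.w • x0 = x0
  t_x0 : toFrame.toData.t • x0 ≠ x0

theorem exists_chart [IsSimpleGroup G] (D : Data G F q) :
    ∃ C : Chart G F q, C.toData = D := by
  obtain ⟨W, rfl⟩ := exists_frame D
  obtain ⟨g, hg⟩ := W.toData.fusion
  have key : ∀ x : W.toData.Pt, W.toData.t • x = x → W.toData.w • g • x = g • x := fun x hx => by
    rw [← hg, mul_smul, mul_smul, inv_smul_smul, hx]
  by_cases h1 : W.toData.t • g • W.toData.oo = g • W.toData.oo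
  · refine ⟨⟨W, g • W.toData.zero, key _ (W.toData.H_zero W.toData.t_mem_H), fun h2 => ?_⟩, rfl⟩
    refine W.toData.w_ne_t (W.toData.two_fix ?_ W.toData.orderOf_t W.toData.orderOf_w h1 h2
      (key _ W.toData.t_fix_oo) (key _ (W.toData.H_zero W.toData.t_mem_H)))
    exact fun e => W.toData.zero_ne_oo (MulAction.injective g e).symm
  · exact ⟨⟨W, g • W.toData.oo, key _ W.toData.t_fix_oo, h1⟩, rfl⟩

theorem nm_fixed (hF : Fintype.card F = q ^ 2) (a : F) : (a ^ q * a) ^ q = a ^ q * a := by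
  rw [mul_pow, pow_q_pow_q hF, mul_comm]

theorem nm_ne_zero {a : F} (ha : a ≠ 0) : a ^ q * a ≠ 0 := mul_ne_zero (pow_ne_zero _ ha) ha

theorem ok_zero (hF : Fintype.card F = q ^ 2) {b : F} : Ok q 0 b ↔ b + b ^ q = 0 := by
  simp [Ok]

theorem ok_self (hF : Fintype.card F = q ^ 2) (a : F) : Ok q a (a ^ q * a) := by
  rw [Ok, nm_fixed hF, two_mul]

theorem Ok.add_ne_zero (hF : Fintype.card F = q ^ 2) (h2 : (2 : F) ≠ 0) {a b c : F} (h : Ok q a b)
    (ha : a ≠ 0) (hc : c + c ^ q = 0) : b + c ≠ 0 := fun e => by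
  refine mul_ne_zero h2 (nm_ne_zero (q := q) ha) ?_
  rw [← h]
  have e' : b = -c := eq_neg_of_add_eq_zero_left e
  rw [e', neg_pow_q hF]
  linear_combination -hc

theorem Ok.ne_zero (hF : Fintype.card F = q ^ 2) (h2 : (2 : F) ≠ 0) {a b : F} (h : Ok q a b)
    (ha : a ≠ 0) : b ≠ 0 := by
  simpa using h.add_ne_zero hF h2 ha (skew_zero hF)

theorem Ok.shift (hF : Fintype.card F = q ^ 2) {a b c : F} (h : Ok q a b) (hc : c + c ^ q = 0) :
    Ok q a (b + c) := by
  rw [Ok, add_pow_q hF, ← h]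
  linear_combination hc

theorem Ok.inv (hF : Fintype.card F = q ^ 2) (h2 : (2 : F) ≠ 0) {a b : F} (h : Ok q a b)
    (ha : a ≠ 0) : Ok q (a / b) b⁻¹ := by
  have hb := h.ne_zero hF h2 ha
  rw [Ok, div_pow, inv_pow]
  rw [Ok] at h
  have hb' := pow_ne_zero q hb
  field_simp
  linear_combination h

theorem Ok.neg (hF : Fintype.card F = q ^ 2) {a b : F} (h : Ok q a b) : Ok q (-a) b := by
  rw [Ok, neg_pow_q hF, neg_mul_neg]; exact h

theorem Ok.conj (hF : Fintype.card F = q ^ 2) {a b : F} (h : Ok q a b) : Ok q a (b ^ q) := by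
  rw [Ok, pow_q_pow_q hF, add_comm]; exact h

theorem Ok.sub_skew (hF : Fintype.card F = q ^ 2) {a b b' : F} (h : Ok q a b) (h' : Ok q a b') :
    (b' - b) + (b' - b) ^ q = 0 := by
  rw [sub_pow_q hF]
  rw [Ok] at h h'
  linear_combination h' - h

namespace Chart

variable (C : Chart G F q)
include C

theorem t_conj_pi (g : U2 F q) {y : C.Pt} : C.t • C.π g • y = C.π g • C.t • y := by
  rw [← mul_smul, ← mul_smul, (C.comm_t g).eq]

/-- Commuting with the swap. -/
theorem swap_form {g : U2 F q} (h : Commute (C.π g) C.w) : e00 g = e11 g ∧ e01 g = e10 g := by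
  have hm := C.comm_lift (g := g) (g' := wn C.hF) h
  have a := congrArg e00 hm
  have b := congrArg e01 hm
  simp at a b
  exact ⟨b, a⟩

theorem comm_w_of_fix {g : U2 F q} (hg : C.π g • C.x0 = C.x0) : Commute (C.π g) C.w := by
  have hne : C.x0 ≠ C.t • C.x0 := fun h => C.t_x0 h.symm
  have hw' : C.w • C.t • C.x0 = C.t • C.x0 := by
    rw [← mul_smul, show C.w * C.t = C.t * C.w from (C.comm_t (wn C.hF)).eq, mul_smul, C.w_x0]
  have hfix : (C.π g * C.w * (C.π g)⁻¹) • C.x0 = C.x0 := by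
    rw [mul_smul, mul_smul, inv_smul_eq_iff.2 hg.symm, C.w_x0, hg]
  have hfix' : (C.π g * C.w * (C.π g)⁻¹) • C.t • C.x0 = C.t • C.x0 := by
    rw [mul_smul, mul_smul, ← map_inv, ← C.t_conj_pi, map_inv, inv_smul_eq_iff.2 hg.symm, hw',
      ← C.t_conj_pi, hg]
  exact mul_inv_eq_iff_eq_mul.1 (C.two_fix hne C.orderOf_w
    (by rw [Involution.orderOf_conj, C.orderOf_w]) C.w_x0 hw' hfix hfix')

variable [IsSimpleGroup G]

/-- An element of determinant one fixing `x0` is trivial. -/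
theorem eq_one_of_fix_x0 {g : U2 F q} (hd : det2 g = 1) (hg : C.π g • C.x0 = C.x0) : g = 1 := by
  obtain ⟨hpu, hrs⟩ := C.swap_form (C.comm_w_of_fix hg)
  obtain ⟨a, ha⟩ := exists_norm_eq C.hF (c := (-1 : F)) (by rw [neg_pow_q C.hF, one_pow])
  have hne : a ≠ 0 := fun h => by simp [h] at ha
  set s := dd C.hF (Units.mk0 a hne) with hs
  rw [pow_succ] at ha
  have ha' : (a ^ q)⁻¹ = -a := inv_eq_of_mul_eq_one_right (by linear_combination -ha)
  have h1 : s * g * s⁻¹ = g⁻¹ := by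
    rw [mul_inv_eq_iff_eq_mul, eq_inv_mul_iff_mul_eq]
    simp only [det2] at hd
    rw [← hrs, ← hpu] at hd
    apply ext4 <;> simp [hs, ← hrs, ← hpu, ha']
    · linear_combination a * hd
    · ring
    · ring
    · linear_combination -a * hd
  have hwn : s * wn C.hF * s⁻¹ = negOne C.hF * wn C.hF := by
    rw [mul_inv_eq_iff_eq_mul]
    obtain ⟨n0, n1, n2, n3⟩ := negOne_entries C.hF (q := q)
    apply ext4 <;> simp [hs, n0, n1, n2, n3, ha']
  set y := C.π s • C.x0 with hy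
  have hgy : C.π g • y = y := by
    have hgi : C.π g⁻¹ • y = y := by
      rw [hy, ← h1, ← mul_smul, ← map_mul, inv_mul_cancel_right, map_mul, mul_smul, hg]
    rw [map_inv] at hgi
    exact (inv_smul_eq_iff.1 hgi).symm
  have hwy : C.w • y ≠ y := by
    intro h
    refine C.t_x0 ?_
    have h2 : C.π (s * wn C.hF * s⁻¹) • y = C.t • y := by
      rw [hwn, map_mul, C.π_negOne, mul_smul]
      exact congrArg _ h
    rw [hy, ← mul_smul, ← map_mul, inv_mul_cancel_right, map_mul, mul_smul] at h2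
    rw [show C.π (wn C.hF) • C.x0 = C.x0 from C.w_x0, C.t_conj_pi] at h2
    exact (MulAction.injective _ h2).symm
  -- move to the base frame
  obtain ⟨k, hk⟩ := C.exists_rep C.x0
  have hwk : k⁻¹ * C.w * k ∈ C.B := by
    rw [← C.smul_oo_iff, mul_smul, mul_smul, ← hk, C.w_x0, hk, inv_smul_smul]
  have hne0 : k⁻¹ • C.t • C.x0 ≠ C.oo := fun h => C.t_x0 (by
    rw [inv_smul_eq_iff] at h; rw [h, hk])
  have hwt : C.w • C.t • C.x0 = C.t • C.x0 := by
    rw [← mul_smul, show C.w * C.t = C.t * C.w from (C.comm_t (wn C.hF)).eq, mul_smul, C.w_x0]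
  obtain ⟨h, hh, hz, hht⟩ := C.frame hwk (by
      rw [show k⁻¹ * C.w * k = k⁻¹ * C.w * k⁻¹⁻¹ by rw [inv_inv], Involution.orderOf_conj,
        C.orderOf_w]) hne0
    (by rw [mul_smul, mul_smul, smul_inv_smul, hwt])
  set K := k * h
  have K1 : K • C.oo = C.x0 := by rw [mul_smul, C.smul_oo_iff.2 hh, hk]
  have K2 : K • C.zero = C.t • C.x0 := by rw [mul_smul, hz, smul_inv_smul]
  have K3 : K * C.t * K⁻¹ = C.w := by
    calc K * C.t * K⁻¹ = k * (h * C.t * h⁻¹) * k⁻¹ := by simp only [K]; group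
      _ = C.w := by rw [hht]; group
  set η := K⁻¹ * C.π g * K
  have hη : η ∈ C.H := C.stab_two (by rw [mul_smul, mul_smul, K1, hg, ← K1, inv_smul_smul])
    (by rw [mul_smul, mul_smul, K2, ← C.t_conj_pi, hg, ← K2, inv_smul_smul])
  have hy0 : K⁻¹ • y ≠ C.oo := fun e => hwy (by
    rw [inv_smul_eq_iff, K1] at e
    rw [e, C.w_x0])
  obtain ⟨p, hp, hpy⟩ := C.exists_pt hy0
  have hηy : η • K⁻¹ • y = K⁻¹ • y := by
    rw [mul_smul, mul_smul, smul_inv_smul, hgy]
  have hp0 : p ∉ C.P0 := fun hp0 => hwy (by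
    have ht : C.t • K⁻¹ • y = K⁻¹ • y := by
      rw [← hpy, ← mul_smul, ← mem_centralizer_singleton_iff.1 (C.P0_le_C hp0), mul_smul,
        C.H_zero C.t_mem_H]
    rw [← K3, mul_smul, mul_smul, ht, smul_inv_smul])
  have hcomm : Commute p η := by
    have hp' := C.P_conj (C.NB_le_B (C.H_le_NB hη)) hp
    have e : η * p * η⁻¹ = p := C.inj_zero hp' hp (by
      rw [mul_smul, mul_smul, C.H_zero (C.H.inv_mem hη), hpy, hηy])
    exact (mul_inv_eq_iff_eq_mul.1 e).symm
  have h1' := C.semiregular hη hp hp0 hcomm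
  have : C.π g = 1 := by
    calc C.π g = K * η * K⁻¹ := by simp only [η]; group
      _ = 1 := by rw [h1']; group
  exact C.ker_eq_one (MonoidHom.mem_ker.2 this) hd

/-- The point of a vector of norm two. -/
noncomputable def psi (z : {z : F × F // h2 q z z = 2}) : C.Pt :=
  C.π (sA C.hF C.two_ne z.1 z.2) • C.x0

theorem psi_free (z : {z : F × F // h2 q z z = 2}) : C.t • C.psi z ≠ C.psi z := fun h => by
  rw [psi, C.t_conj_pi] at h
  exact C.t_x0 (MulAction.injective _ h)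

theorem psi_injective : Function.Injective C.psi := fun z z' h => by
  have hfix : C.π ((sA C.hF C.two_ne z'.1 z'.2)⁻¹ * sA C.hF C.two_ne z.1 z.2) • C.x0 = C.x0 := by
    rw [map_mul, map_inv, mul_smul, inv_smul_eq_iff]; exact h
  have e := C.eq_one_of_fix_x0 (by rw [det2_mul, det2_inv C.hF, det2_sA, det2_sA, inv_one, mul_one])
    hfix
  have e' := inv_mul_eq_one.1 e
  refine Subtype.ext ?_
  rw [← act_sA C.hF C.two_ne z.1 z.2, ← act_sA C.hF C.two_ne z'.1 z'.2, e']

theorem card_fix : Nat.card {y : C.Pt // C.t • y = y} = q + 1 := by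
  classical
  haveI := Fintype.ofFinite {c : F // c + c ^ q = 0}
  let f : Option {c : F // c + c ^ q = 0} → {y : C.Pt // C.t • y = y} := fun o => match o with
    | none => ⟨C.oo, C.t_fix_oo⟩
    | some c => ⟨C.π (uu C.hF c.1 c.2) • C.zero, C.fix_t.2 (Or.inr ⟨c.1, c.2, rfl⟩)⟩
  have hf : Function.Bijective f := by
    refine ⟨?_, ?_⟩
    · rintro (_ | c) (_ | c') h <;> have h := congrArg Subtype.val h
      · rfl
      · exact absurd h.symm C.uu_zero_ne_oo
      · exact absurd h C.uu_zero_ne_oo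
      · exact congrArg some (Subtype.ext (C.uu_zero_inj h))
    · rintro ⟨y, hy⟩
      rcases C.fix_t.1 hy with rfl | ⟨c, hc, rfl⟩
      · exact ⟨none, rfl⟩
      · exact ⟨some ⟨c, hc⟩, rfl⟩
  rw [← Nat.card_congr (Equiv.ofBijective f hf), Nat.card_eq_fintype_card, Fintype.card_option,
    ← Nat.card_eq_fintype_card, card_trace_zero C.hF]

theorem psi_surjective {y : C.Pt} (hy : C.t • y ≠ y) : ∃ z, C.psi z = y := by
  classical
  haveI := Fintype.ofFinite C.Pt
  have hb : Function.Bijective (fun z => (⟨C.psi z, C.psi_free z⟩ : {x : C.Pt // C.t • x ≠ x})) := by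
    refine (Nat.bijective_iff_injective_and_card _).2
      ⟨fun a b h => C.psi_injective (congrArg Subtype.val h), ?_⟩
    have h1 := C.card_fix
    rw [card_norm_two C.hF C.two_ne, Nat.card_eq_fintype_card, Fintype.card_subtype_compl,
      ← Nat.card_eq_fintype_card, C.card_points]
    rw [Nat.card_eq_fintype_card] at h1
    rw [h1]
    have hq := C.q_ge
    have : 1 ≤ q ^ 2 := Nat.one_le_pow _ _ (by omega)
    zify [this, show q + 1 ≤ q ^ 3 + 1 from Nat.succ_le_succ (Nat.le_self_pow three_ne_zero q)]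
    ring
  obtain ⟨z, hz⟩ := hb.2 ⟨y, hy⟩
  exact ⟨z, congrArg Subtype.val hz⟩

theorem psi_det_one {g : U2 F q} (hd : det2 g = 1) (z : {z : F × F // h2 q z z = 2}) :
    C.π g • C.psi z = C.psi ⟨act g z.1, by rw [h2_act]; exact z.2⟩ := by
  have e : g * sA C.hF C.two_ne z.1 z.2 =
      sA C.hF C.two_ne (act g z.1) (by rw [h2_act]; exact z.2) := by
    rw [eq_sA C.hF C.two_ne (g := g * sA C.hF C.two_ne z.1 z.2)
      (by rw [det2_mul, det2_sA, hd, one_mul])]
    congr 1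
    rw [act_mul, act_sA]
  show C.π g • C.π _ • C.x0 = C.π _ • C.x0
  rw [← mul_smul, ← map_mul, e]

/-- An element of the centraliser acts linearly on the vectors, up to a norm one scalar. -/
theorem exists_eps (g : U2 F q) : ∃ ε : F, ε ≠ 0 ∧ ε ^ q * ε = 1 ∧
    ∀ (z : {z : F × F // h2 q z z = 2}) (h : h2 q (ε * (act g z.1).1, ε * (act g z.1).2)
      (ε * (act g z.1).1, ε * (act g z.1).2) = 2),
    C.π g • C.psi z = C.psi ⟨_, h⟩ := by
  have key : ∀ z, ∃ z' : {z : F × F // h2 q z z = 2},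
      C.π g • C.psi z = C.psi z' ∧
        C.π ((sA C.hF C.two_ne z'.1 z'.2)⁻¹ * g * sA C.hF C.two_ne z.1 z.2) • C.x0 = C.x0 := by
    intro z
    obtain ⟨z', hz'⟩ := C.psi_surjective (y := C.π g • C.psi z) fun h => by
      rw [C.t_conj_pi] at h
      exact C.psi_free z (MulAction.injective _ h)
    refine ⟨z', hz'.symm, ?_⟩
    rw [map_mul, map_mul, map_inv, mul_smul, mul_smul, inv_smul_eq_iff]
    exact hz'.symm
  have h11 : h2 q ((1 : F), (1 : F)) (1, 1) = 2 := by rw [h2]; norm_num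
  obtain ⟨z0, -, hz0⟩ := key ⟨(1, 1), h11⟩
  set g0 := (sA C.hF C.two_ne z0.1 z0.2)⁻¹ * g * sA C.hF C.two_ne (1, 1) h11 with hg0
  obtain ⟨hpu, hrs⟩ := C.swap_form (C.comm_w_of_fix hz0)
  have hg1 : act g0 (1, 1) = (e00 g0 + e01 g0, e00 g0 + e01 g0) := by
    simp only [act, mul_one]
    rw [← hpu, ← hrs, add_comm (e01 g0)]
  have hξ : (e00 g0 + e01 g0) ^ q * (e00 g0 + e01 g0) = 1 := by
    have h := h2_act_one C.hF g0
    rw [hg1] at h
    simp only [h2] at h
    exact mul_left_cancel₀ C.two_ne (by linear_combination h)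
  have hξ0 : e00 g0 + e01 g0 ≠ 0 := fun h => by simp [h, zero_pow_q C.hF] at hξ
  refine ⟨(e00 g0 + e01 g0)⁻¹, inv_ne_zero hξ0, by rw [inv_pow, ← mul_inv, hξ, inv_one],
    fun z h => ?_⟩
  obtain ⟨z', hz', hfix⟩ := key z
  have e : (sA C.hF C.two_ne z'.1 z'.2)⁻¹ * g * sA C.hF C.two_ne z.1 z.2 = g0 := by
    refine mul_inv_eq_one.1 (C.eq_one_of_fix_x0 ?_ ?_)
    · simp only [hg0, det2_mul, det2_inv C.hF, det2_sA, inv_one, one_mul, mul_one]
      exact mul_inv_cancel₀ (det2_ne_zero C.hF g)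
    · rw [map_mul, map_inv, mul_smul, inv_smul_eq_iff.2 hz0.symm, hfix]
  rw [hz']
  congr 1
  refine Subtype.ext ?_
  have h1 : act g z.1 = act (sA C.hF C.two_ne z'.1 z'.2) (act g0 (1, 1)) := by
    rw [← e, ← act_mul]
    simp only [mul_assoc, mul_inv_cancel_left]
    rw [act_mul, act_sA]
  have h2' : act g z.1 = ((e00 g0 + e01 g0) * z'.1.1, (e00 g0 + e01 g0) * z'.1.2) := by
    conv_rhs => rw [← act_sA C.hF C.two_ne z'.1 z'.2]
    rw [h1, hg1]
    simp only [act, mul_one]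
    ext <;> ring
  show z'.1 = ((e00 g0 + e01 g0)⁻¹ * (act g z.1).1, (e00 g0 + e01 g0)⁻¹ * (act g z.1).2)
  simp only [h2']
  ext <;> field_simp

open scoped Classical in
/-- The point with coordinates `(a, b)`. -/
noncomputable def pp (a b : F) : C.Pt :=
  if ha : a = 0 then
    if hb : b + b ^ q = 0 then C.π (uu C.hF b hb) • C.zero else C.oo
  else if h : h2 q (b / a, 1 / a) (b / a, 1 / a) = 2 then C.psi ⟨_, h⟩ else C.oo

theorem vec_norm {a b : F} (ha : a ≠ 0) (h : Ok q a b) :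
    h2 q (b / a, 1 / a) (b / a, 1 / a) = 2 := by
  have h' := pow_ne_zero q ha
  simp only [h2, div_pow, one_pow]
  rw [Ok] at h
  field_simp
  linear_combination h

theorem pp_line {c : F} (hc : c + c ^ q = 0) : C.pp 0 c = C.π (uu C.hF c hc) • C.zero := by
  rw [pp, dif_pos rfl, dif_pos hc]

theorem pp_zero : C.pp 0 0 = C.zero := by
  rw [C.pp_line (skew_zero C.hF), uu_zero, map_one, one_smul]

theorem pp_free {a b : F} (ha : a ≠ 0) (h : Ok q a b) :
    C.pp a b = C.psi ⟨(b / a, 1 / a), C.vec_norm ha h⟩ := by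
  rw [pp, dif_neg ha, dif_pos (C.vec_norm ha h)]

theorem psi_eq_pp {z : F × F} (hz : h2 q z z = 2) {a b : F} (h : Ok q a b) (ha : a ≠ 0)
    (e1 : z.1 = b / a) (e2 : z.2 = 1 / a) : C.psi ⟨z, hz⟩ = C.pp a b := by
  rw [C.pp_free ha h]
  congr 1
  exact Subtype.ext (Prod.ext e1 e2)

theorem pp_t {a b : F} (h : Ok q a b) : C.t • C.pp a b = C.pp (-a) b := by
  rcases eq_or_ne a 0 with rfl | ha
  · have hb := (ok_zero C.hF).1 h
    rw [neg_zero, C.pp_line hb, C.t_conj_pi, C.H_zero C.t_mem_H]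
  · rw [C.pp_free ha h, ← C.π_negOne, C.psi_det_one (by
      obtain ⟨n0, n1, n2, n3⟩ := negOne_entries C.hF (q := q)
      simp [det2, n0, n1, n2, n3])]
    obtain ⟨n0, n1, n2, n3⟩ := negOne_entries C.hF (q := q)
    refine C.psi_eq_pp _ (h.neg C.hF) (neg_ne_zero.2 ha) ?_ ?_ <;>
      simp [act, n0, n1, n2, n3] <;> ring

theorem pp_ne_oo {a b : F} (h : Ok q a b) : C.pp a b ≠ C.oo := by
  rcases eq_or_ne a 0 with rfl | ha
  · rw [C.pp_line ((ok_zero C.hF).1 h)]; exact C.uu_zero_ne_oo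
  · intro e
    rw [C.pp_free ha h] at e
    exact C.psi_free _ (by rw [e]; exact C.t_fix_oo)

theorem pp_inj {a b a' b' : F} (h : Ok q a b) (h' : Ok q a' b') (e : C.pp a b = C.pp a' b') :
    a = a' ∧ b = b' := by
  rcases eq_or_ne a 0 with rfl | ha <;> rcases eq_or_ne a' 0 with rfl | ha'
  · rw [C.pp_line ((ok_zero C.hF).1 h), C.pp_line ((ok_zero C.hF).1 h')] at e
    exact ⟨rfl, C.uu_zero_inj e⟩
  · exfalso
    rw [C.pp_line ((ok_zero C.hF).1 h), C.pp_free ha' h'] at e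
    exact C.psi_free _ (e ▸ C.fix_t.2 (Or.inr ⟨b, (ok_zero C.hF).1 h, rfl⟩))
  · exfalso
    rw [C.pp_line ((ok_zero C.hF).1 h'), C.pp_free ha h] at e
    exact C.psi_free _ (e.symm ▸ C.fix_t.2 (Or.inr ⟨b', (ok_zero C.hF).1 h', rfl⟩))
  · rw [C.pp_free ha h, C.pp_free ha' h'] at e
    have e := congrArg Subtype.val (C.psi_injective e)
    simp only [Prod.mk.injEq] at e
    have haa : a = a' := by
      have := e.2
      rwa [one_div, one_div, inv_inj] at this
    refine ⟨haa, ?_⟩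
    subst haa
    exact (div_left_inj' ha).1 e.1

theorem pp_surj {y : C.Pt} (hy : y ≠ C.oo) : ∃ a b, Ok q a b ∧ C.pp a b = y := by
  by_cases ht : C.t • y = y
  · rcases C.fix_t.1 ht with h | ⟨c, hc, h⟩
    · exact absurd h hy
    · exact ⟨0, c, (ok_zero C.hF).2 hc, by rw [C.pp_line hc, h]⟩
  · obtain ⟨⟨z, hz⟩, rfl⟩ := C.psi_surjective ht
    have hz' := hz
    simp only [h2] at hz'
    have hz0 : z.2 ≠ 0 := fun h0 => by
      simp [h0, zero_pow_q C.hF] at hz'
      exact C.two_ne hz'.symm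
    have hok : Ok q (1 / z.2) (z.1 / z.2) := by
      have := pow_ne_zero q hz0
      rw [Ok, div_pow, div_pow, one_pow]
      field_simp
      linear_combination hz'
    refine ⟨_, _, hok, (C.psi_eq_pp hz hok (one_div_ne_zero hz0) ?_ ?_).symm⟩ <;> field_simp

theorem pp_uu {a b c : F} (h : Ok q a b) (hc : c + c ^ q = 0) :
    C.π (uu C.hF c hc) • C.pp a b = C.pp a (b + c) := by
  rcases eq_or_ne a 0 with rfl | ha
  · have hb := (ok_zero C.hF).1 h
    rw [C.pp_line hb, C.pp_line (skew_add C.hF hb hc), ← mul_smul, ← map_mul, uu_mul]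
    simp only [add_comm c b]
  · rw [C.pp_free ha h, C.psi_det_one (det2_uu C.hF hc)]
    refine C.psi_eq_pp _ (h.shift C.hF hc) ha ?_ ?_ <;> simp [act]
    ring

theorem pp_w_line {c : F} (hc : c + c ^ q = 0) (hc0 : c ≠ 0) :
    C.w • C.pp 0 c = C.pp 0 c⁻¹ := by
  rw [C.pp_line hc, C.pp_line (skew_inv C.hF hc), Data.zero_eq, ← mul_smul, ← mul_smul, ← mul_smul,
    C.smul_oo_eq, PreData.w, ← map_mul, ← map_mul, ← map_mul, ← map_inv, ← map_mul, C.pi_mem_B]
  simp [mul_inv_rev, wn_inv, uu_inv, hc0]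

theorem pp_w {a b : F} (ha : a ≠ 0) (h : Ok q a b) : C.w • C.pp a b = C.pp (a / b) b⁻¹ := by
  have hb := h.ne_zero C.hF C.two_ne ha
  set z : F × F := (b / a, 1 / a)
  set A := sA C.hF C.two_ne z (C.vec_norm ha h)
  have e : C.w • C.pp a b = C.π (wn C.hF * A * wn C.hF) • C.x0 := by
    rw [C.pp_free ha h, map_mul, map_mul, mul_smul, mul_smul]
    show C.w • C.π A • C.x0 = C.w • C.π A • C.w • C.x0
    rw [C.w_x0]
  have hd : det2 (wn C.hF * A * wn C.hF) = 1 := by
    simp only [A, det2_mul, det2_wn, det2_sA]; ring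
  rw [e, eq_sA C.hF C.two_ne hd]
  refine C.psi_eq_pp (h2_act_one C.hF _) (h.inv C.hF C.two_ne ha) (div_ne_zero ha hb) ?_ ?_
  all_goals
    obtain ⟨a0, b0, c0, d0⟩ := sA_entries C.hF C.two_ne z (C.vec_norm ha h)
    simp [act, A, a0, b0, c0, d0]
    simp only [z]
    have := C.two_ne
    field_simp
    ring

/-- The torus scales the coordinates. -/
theorem exists_scale {η : G} (hη : η ∈ C.H) : ∃ s ν : F, s ≠ 0 ∧ s ^ q * s = ν ∧
    ∀ a b, Ok q a b → Ok q (s * a) (ν * b) ∧ η • C.pp a b = C.pp (s * a) (ν * b) := by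
  obtain ⟨α, rfl⟩ := C.mem_H.1 hη
  obtain ⟨ε, hε0, hε, hact⟩ := C.exists_eps (dd C.hF α)
  obtain ⟨d0, d1, d2, d3⟩ := dd_entries C.hF (q := q) α
  have h0 : (α : F) ^ q ≠ 0 := pow_ne_zero _ α.ne_zero
  have hs : ((α : F) ^ q / ε) ^ q * ((α : F) ^ q / ε) = (α : F) ^ q * α := by
    rw [div_pow, pow_q_pow_q C.hF, div_mul_div_comm, hε, div_one, mul_comm]
  refine ⟨(α : F) ^ q / ε, (α : F) ^ q * α, div_ne_zero h0 hε0, hs, fun a b h => ?_⟩
  have hν := nm_fixed C.hF (α : F)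
  have hok : Ok q ((α : F) ^ q / ε * a) ((α : F) ^ q * α * b) := by
    rw [Ok] at h ⊢
    rw [mul_pow ((α : F) ^ q * α), hν, mul_pow ((α : F) ^ q / ε)]
    linear_combination ((α : F) ^ q * α) * h - 2 * (a ^ q * a) * hs
  refine ⟨hok, ?_⟩
  rcases eq_or_ne a 0 with rfl | ha
  · have hb := (ok_zero C.hF).1 h
    rw [mul_zero, C.pp_line hb, C.pp_line ((ok_zero C.hF).1 (by simpa using hok))]
    have e : dd C.hF α * uu C.hF b hb = uu C.hF ((α : F) ^ (q + 1) * b) (by
        rw [mul_pow, pow_q_succ_fixed C.hF, ← mul_add, hb, mul_zero]) * dd C.hF α := by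
      rw [← dd_conj_uu C.hF α hb, inv_mul_cancel_right]
    rw [← mul_smul, ← map_mul, e, map_mul, mul_smul, C.dd_zero]
    simp only [pow_succ]
  · have hn : h2 q (ε * (act (dd C.hF α) (b / a, 1 / a)).1, ε * (act (dd C.hF α) (b / a, 1 / a)).2)
        (ε * (act (dd C.hF α) (b / a, 1 / a)).1, ε * (act (dd C.hF α) (b / a, 1 / a)).2) = 2 := by
      have := h2_act (dd C.hF α) (b / a, 1 / a) (b / a, 1 / a)
      rw [C.vec_norm ha h] at this
      simp only [h2, mul_pow] at this ⊢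
      linear_combination (ε ^ q * ε) * this + 2 * hε
    rw [C.pp_free ha h, hact _ hn]
    refine C.psi_eq_pp _ hok (mul_ne_zero (div_ne_zero h0 hε0) ha) ?_ ?_ <;>
      simp [act, d0, d1, d2, d3] <;> field_simp

open scoped Classical in
/-- The element of `P` with coordinates `(a, b)`. -/
noncomputable def el (a b : F) : G :=
  if h : C.pp a b = C.oo then 1 else (C.exists_pt h).choose

theorem el_mem {a b : F} (h : Ok q a b) : C.el a b ∈ C.P := by
  rw [el, dif_neg (C.pp_ne_oo h)]; exact (C.exists_pt (C.pp_ne_oo h)).choose_spec.1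

theorem el_zero {a b : F} (h : Ok q a b) : C.el a b • C.zero = C.pp a b := by
  rw [el, dif_neg (C.pp_ne_oo h)]; exact (C.exists_pt (C.pp_ne_oo h)).choose_spec.2

theorem eq_el {a b : F} (h : Ok q a b) {x : G} (hx : x ∈ C.P) (e : x • C.zero = C.pp a b) :
    x = C.el a b := C.inj_zero hx (C.el_mem h) (e.trans (C.el_zero h).symm)

theorem el_inj {a b a' b' : F} (h : Ok q a b) (h' : Ok q a' b') (e : C.el a b = C.el a' b') :
    a = a' ∧ b = b' := C.pp_inj h h' (by rw [← C.el_zero h, e, C.el_zero h'])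

theorem exists_el {x : G} (hx : x ∈ C.P) : ∃ a b, Ok q a b ∧ x = C.el a b := by
  obtain ⟨a, b, h, e⟩ := C.pp_surj (C.zero_ne hx)
  exact ⟨a, b, h, C.eq_el h hx e.symm⟩

theorem el_line {c : F} (hc : c + c ^ q = 0) : C.el 0 c = C.π (uu C.hF c hc) :=
  (C.eq_el ((ok_zero C.hF).2 hc) (C.P0_le (C.uu_mem c hc)) (C.pp_line hc).symm).symm

theorem el_one : C.el 0 0 = 1 := by
  rw [C.el_line (skew_zero C.hF), uu_zero, map_one]

theorem el_shift {a b c : F} (h : Ok q a b) (hc : c + c ^ q = 0) :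
    C.el a (b + c) = C.el a b * C.el 0 c := by
  rw [C.el_line hc, ← (C.P0_central (C.uu_mem c hc) (C.el_mem h)).eq]
  exact (C.eq_el (h.shift C.hF hc) (C.P.mul_mem (C.P0_le (C.uu_mem c hc)) (C.el_mem h))
    (by rw [mul_smul, C.el_zero h, C.pp_uu h hc])).symm

theorem el_conj {η : G} (hη : η ∈ C.H) {a b a' b' : F} (h : Ok q a b) (h' : Ok q a' b')
    (e : η • C.pp a b = C.pp a' b') : η * C.el a b * η⁻¹ = C.el a' b' :=
  C.eq_el h' (C.P_conj (C.NB_le_B (C.H_le_NB hη)) (C.el_mem h)) (by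
    rw [mul_smul, mul_smul, C.H_zero (C.H.inv_mem hη), C.el_zero h, e])

theorem el_t {a b : F} (h : Ok q a b) : C.t * C.el a b * C.t = C.el (-a) b := by
  have := C.el_conj C.t_mem_H h (h.neg C.hF) (C.pp_t h)
  rwa [Involution.inv_eq C.orderOf_t] at this

theorem exists_el_inv (a : F) : ∃ d : F, d + d ^ q = 0 ∧
    ∀ b, Ok q a b → (C.el a b)⁻¹ = C.el (-a) (b ^ q + d) := by
  have h0 := ok_self C.hF a
  obtain ⟨a', b', h', e⟩ := C.exists_el (C.P.inv_mem (C.el_mem h0))
  have hP : C.t * C.el a (a ^ q * a) * C.t * C.el a (a ^ q * a) ∈ C.P0 := C.invert (C.el_mem h0)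
  rw [C.el_t h0] at hP
  obtain ⟨k, hk, hkk⟩ := C.mem_P0.1 hP
  rw [← C.el_line hk] at hkk
  have e2 : (C.el a (a ^ q * a))⁻¹ = C.el (-a) (a ^ q * a + -k) := by
    have hc : Commute (C.el 0 k) (C.el (-a) (a ^ q * a)) := by
      rw [C.el_line hk]; exact C.P0_central (C.uu_mem k hk) (C.el_mem (h0.neg C.hF))
    rw [C.el_shift (h0.neg C.hF) (skew_neg C.hF hk)]
    refine inv_eq_of_mul_eq_one_left ?_
    have hk' : C.el 0 (-k) * C.el 0 k = 1 := by
      rw [C.el_line hk, C.el_line (skew_neg C.hF hk), ← map_mul, uu_mul]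
      simp [uu_zero]
    have hc' : Commute (C.el 0 (-k)) (C.el (-a) (a ^ q * a)) := by
      rw [C.el_line (skew_neg C.hF hk)]
      exact C.P0_central (C.uu_mem _ _) (C.el_mem (h0.neg C.hF))
    rw [← hc'.eq, mul_assoc, ← hkk, hk']
  refine ⟨-k, skew_neg C.hF hk, fun b hb => ?_⟩
  have hd := h0.sub_skew C.hF hb
  have hd' := skew_neg C.hF hd
  have e3 : (C.el a b)⁻¹ = C.el (-a) (a ^ q * a + -k) * C.el 0 (-(b - a ^ q * a)) := by
    rw [← e2]
    conv_lhs => rw [show b = a ^ q * a + (b - a ^ q * a) by ring, C.el_shift h0 hd]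
    have hc : Commute (C.el a (a ^ q * a)) (C.el 0 (b - a ^ q * a)) := by
      rw [C.el_line hd]; exact (C.P0_central (C.uu_mem _ hd) (C.el_mem h0)).symm
    rw [hc.eq, mul_inv_rev, C.el_line hd, C.el_line hd', ← map_inv, uu_inv]
  rw [e3, ← C.el_shift ((h0.neg C.hF).shift C.hF (skew_neg C.hF hk)) hd']
  congr 1
  rw [Ok] at hb
  linear_combination -hb

/-- The defect of inversion. -/
noncomputable def dlt (a : F) : F := (C.exists_el_inv a).choose

theorem dlt_skew (a : F) : C.dlt a + C.dlt a ^ q = 0 := (C.exists_el_inv a).choose_spec.1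

theorem el_inv {a b : F} (h : Ok q a b) : (C.el a b)⁻¹ = C.el (-a) (b ^ q + C.dlt a) :=
  (C.exists_el_inv a).choose_spec.2 b h

theorem inv_ok {a b : F} (h : Ok q a b) : Ok q (-a) (b ^ q + C.dlt a) :=
  ((h.conj C.hF).neg C.hF).shift C.hF (C.dlt_skew a)

theorem dlt_neg (a : F) : C.dlt (-a) = C.dlt a := by
  have h0 := ok_self C.hF a
  have h1 := C.inv_ok h0
  have h2 := C.inv_ok h1
  have e := C.el_inv h1
  rw [← C.el_inv h0, inv_inv] at e
  have := (C.el_inj h0 h2 e).2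
  rw [add_pow_q C.hF, pow_q_pow_q C.hF] at this
  have hd := C.dlt_skew a
  linear_combination -this - hd

theorem dlt_scale {η : G} (hη : η ∈ C.H) {s ν : F}
    (h : ∀ a b, Ok q a b → Ok q (s * a) (ν * b) ∧ η • C.pp a b = C.pp (s * a) (ν * b))
    (hν : ν ^ q = ν) (a : F) : C.dlt (s * a) = ν * C.dlt a := by
  have h0 := ok_self C.hF a
  obtain ⟨ha, he⟩ := h _ _ h0
  obtain ⟨hi, hie⟩ := h _ _ (C.inv_ok h0)
  have e1 := C.el_conj hη h0 ha he
  have e2 := C.el_conj hη (C.inv_ok h0) hi hie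
  rw [← C.el_inv h0] at e2
  have e3 : C.el (s * -a) (ν * ((a ^ q * a) ^ q + C.dlt a)) =
      C.el (-(s * a)) ((ν * (a ^ q * a)) ^ q + C.dlt (s * a)) := by
    rw [← C.el_inv ha, ← e1, ← e2]; group
  have := (C.el_inj hi (C.inv_ok ha) e3).2
  rw [mul_pow ν, hν] at this
  linear_combination -this

end Chart

end Cfsg.Agent.U3Recog
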