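import Cfsg.Agent.Lib.U3Recog.Borel

/-!
# `B` contains a full Sylow subgroup of the characteristic (owner: helper40)

* `exists_large` : a `p`-subgroup of `CP` of order at least `q ^ 3`
* `sq_dvd_J` : `q ^ 2` divides the number of involutions of `B`
-/

set_option autoImplicit false
set_option linter.unusedSectionVars false
set_option linter.style.haveILetI false

namespace Cfsg.Agent.U3Recog

open Subgroup Cfsg.Agent.Unitary
open scoped Pointwise

variable {G : Type*} [Group G] [Finite G] {F : Type*} [Field F] [Fintype F] {q p n : ℕ}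

theorem normalizer_sup {X Y A : Subgroup G} (hX : A ≤ normalizer (X : Set G))
    (hY : A ≤ normalizer (Y : Set G)) : A ≤ normalizer ((X ⊔ Y : Subgroup G) : Set G) := by
  intro a ha
  refine Coprime.mem_normalizer_of_conj_eq ?_
  rw [Subgroup.smul_sup, Coprime.conj_eq_of_mem_normalizer (hX ha),
    Coprime.conj_eq_of_mem_normalizer (hY ha)]

namespace Data

variable (D : Data G F q)
include D

theorem factor_G {l : ℕ} (hl : l.Prime) (h1 : ¬ l ∣ q + 1) :
    (Nat.card G).factorization l = 3 * q.factorization l +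
      (q * q - q + 1).factorization l + (q - 1).factorization l := by
  have hq := D.q_ge
  have hd : ¬ l ∣ Nat.card D.π.ker := fun h => h1 (h.trans D.d_dvd)
  have e1 : q ^ 3 + 1 = (q + 1) * (q * q - q + 1) := by
    have h := Nat.le_mul_self q
    zify [h]
    ring
  have e2 : q ^ 2 - 1 = (q + 1) * (q - 1) := by simpa using Nat.sq_sub_sq q 1
  have h := congrArg (fun x => x.factorization l) D.hcard
  rw [e1, e2] at h
  simp only [Nat.factorization_mul Nat.card_pos.ne' Nat.card_pos.ne',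
    Nat.factorization_mul (mul_ne_zero (pow_ne_zero 3 (by omega : q ≠ 0))
      (mul_ne_zero (Nat.succ_ne_zero q) (by omega : q * q - q + 1 ≠ 0)))
      (mul_ne_zero (Nat.succ_ne_zero q) (by omega : q - 1 ≠ 0)),
    Nat.factorization_mul (pow_ne_zero 3 (by omega : q ≠ 0))
      (mul_ne_zero (Nat.succ_ne_zero q) (by omega : q * q - q + 1 ≠ 0)),
    Nat.factorization_mul (Nat.succ_ne_zero q) (by omega : q * q - q + 1 ≠ 0),
    Nat.factorization_mul (Nat.succ_ne_zero q) (by omega : q - 1 ≠ 0),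
    Nat.factorization_pow, Finsupp.coe_add, Pi.add_apply, Finsupp.coe_smul, Pi.smul_apply,
    smul_eq_mul, Nat.factorization_eq_zero_of_not_dvd hd,
    Nat.factorization_eq_zero_of_not_dvd h1, zero_add, add_zero] at h
  exact h

theorem card_sylow (hp : p.Prime) (hqp : q = p ^ n) (hn : 1 ≤ n) :
    (Nat.card G).factorization p = 3 * n := by
  have hq := D.q_ge
  have hpq : p ∣ q := hqp ▸ dvd_pow_self p (by omega)
  have h1 : ¬ p ∣ q + 1 := fun h => hp.not_dvd_one ((Nat.dvd_add_right hpq).1 h)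
  have h2 : ¬ p ∣ q * q - q + 1 := fun h => hp.not_dvd_one
    ((Nat.dvd_add_right (Nat.dvd_sub (dvd_mul_of_dvd_left hpq q) hpq)).1 h)
  have h3 : ¬ p ∣ q - 1 := fun h => by
    have h' := Nat.dvd_sub hpq h
    rw [Nat.sub_sub_self (by omega)] at h'
    exact hp.not_dvd_one h'
  have e : ∀ m, m = p ^ n → m.factorization p = n := fun m hm => by
    rw [hm, hp.factorization_pow, Finsupp.single_eq_same]
  rw [D.factor_G hp h1, e q hqp, Nat.factorization_eq_zero_of_not_dvd h2,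
    Nat.factorization_eq_zero_of_not_dvd h3, add_zero, add_zero]

theorem card_le_cube (hp : p.Prime) (hqp : q = p ^ n) (hn : 1 ≤ n) {Q : Subgroup G}
    (hQ : IsPGroup p Q) : Nat.card Q ≤ q ^ 3 := by
  haveI := Fact.mk hp
  obtain ⟨k, hk⟩ := hQ.exists_card_eq
  have h := Subgroup.card_subgroup_dvd_card Q
  rw [hk, Nat.Prime.pow_dvd_iff_le_factorization hp Nat.card_pos.ne', D.card_sylow hp hqp hn] at h
  have hpow : p ^ (3 * n) = q ^ 3 := by
    have e : ∀ m, m = p ^ n → p ^ (3 * n) = m ^ 3 := fun m hm => by rw [hm, ← pow_mul, mul_comm]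
    exact e q hqp
  rw [hk, ← hpow]
  exact Nat.pow_le_pow_right hp.pos h

end Data

namespace PreData

variable (D : PreData G F q)
include D

theorem coprime_p_H (hp : p.Prime) (hqp : q = p ^ n) (hn : 1 ≤ n) :
    p.Coprime (Nat.card D.H) := by
  have hq := D.q_ge
  have hpq : p ∣ q := hqp ▸ dvd_pow_self p (by omega)
  refine hp.coprime_iff_not_dvd.2 fun hd => hp.not_dvd_one ?_
  have h1 : p ∣ q ^ 2 - 1 := D.card_H ▸ hd.mul_right _
  have h2 := Nat.dvd_sub (dvd_pow hpq two_ne_zero) h1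
  rwa [Nat.sub_sub_self (Nat.one_le_pow _ _ (by omega))] at h2

theorem pGroup_le_CP (hp : p.Prime) (hqp : q = p ^ n) (hn : 1 ≤ n) {Q : Subgroup G}
    (hQ : IsPGroup p Q) (hB : Q ≤ D.B) : Q ≤ D.CP := fun x hx => by
  haveI := Fact.mk hp
  obtain ⟨k, hk⟩ := IsPGroup.iff_orderOf.1 hQ ⟨x, hx⟩
  rw [Subgroup.orderOf_mk] at hk
  exact D.mem_CP_of_coprime (hB hx) (hk ▸ (D.coprime_p_H hp hqp hn).pow_left k)

theorem Q_inf_C (hp : p.Prime) (hqp : q = p ^ n) (hn : 1 ≤ n) {Q : Subgroup G}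
    (hQ : IsPGroup p Q) (hB : Q ≤ D.B) : Q ⊓ centralizer ({D.t} : Set G) ≤ D.P0 := by
  rintro x ⟨hx, hx'⟩
  haveI := Fact.mk hp
  obtain ⟨u, hu, z, hz, rfl⟩ := D.CP_inf_C (D.pGroup_le_CP hp hqp hn hQ hB hx) hx'
  obtain ⟨k, hk⟩ := IsPGroup.iff_orderOf.1 hQ ⟨u * z, hx⟩
  rw [Subgroup.orderOf_mk] at hk
  have hc : Commute u z := (D.mem_CP.1 (D.ZC_le_CP hz) u hu).symm
  have h1 : u ^ p ^ k * z ^ p ^ k = 1 := by rw [← hc.mul_pow, ← hk, pow_orderOf_eq_one]
  have hzz : z ^ p ^ k = 1 := D.P0_inter_H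
    (by rw [eq_inv_of_mul_eq_one_right h1]; exact D.P0.inv_mem (D.P0.pow_mem hu _))
    (D.H.pow_mem (D.ZC_le_H hz) _)
  have hz1 : z = 1 := by
    rw [← orderOf_eq_one_iff]
    refine Nat.eq_one_of_dvd_coprimes ((D.coprime_p_H hp hqp hn).pow_left k)
      (orderOf_dvd_of_pow_eq_one hzz) ?_
    rw [← Subgroup.orderOf_mk z (D.ZC_le_H hz)]
    exact orderOf_dvd_natCard _
  rwa [hz1, mul_one]

theorem centralizer_le_t {a : G} (ha : a ∈ D.R) (ha1 : a ≠ 1) :
    centralizer ({a} : Set G) ≤ centralizer ({D.t} : Set G) := by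
  haveI : Fact (Nat.Prime 2) := ⟨Nat.prime_two⟩
  obtain ⟨k, hk⟩ := IsPGroup.iff_orderOf.1 D.R_isPGroup ⟨a, ha⟩
  rw [Subgroup.orderOf_mk] at hk
  rcases k with _ | k
  · exact absurd (orderOf_eq_one_iff.1 (by simpa using hk)) ha1
  have ho : orderOf (a ^ 2 ^ k) = 2 := by
    rw [orderOf_pow' _ (pow_ne_zero _ two_ne_zero), hk,
      Nat.gcd_eq_right (pow_dvd_pow 2 k.le_succ), pow_succ,
      Nat.mul_div_cancel_left _ (pow_pos two_pos k)]
  have ht : a ^ 2 ^ k = D.t :=
    eq_of_cyclic D.R_cyclic ho D.orderOf_t (D.R.pow_mem ha _) D.t_mem_R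
  intro x hx
  refine mem_centralizer_singleton_iff.2 ?_
  have hxa : Commute x a := mem_centralizer_singleton_iff.1 hx
  rw [← ht]
  exact hxa.pow_right _

/-- The size of the index of an invariant subgroup. -/
theorem size (hp : p.Prime) (hqp : q = p ^ n) (hn : 1 ≤ n) {Q Q0 : Subgroup G}
    (hQ : IsPGroup p Q) (hle : Q0 ≤ Q) (hne : Q0 ≠ Q) (hRQ : D.R ≤ normalizer (Q : Set G))
    (hR0 : D.R ≤ normalizer (Q0 : Set G))
    (hfree : Q ⊓ centralizer ({D.t} : Set G) ≤ Q0)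
    (hr : n ≤ 2 ∨ ∃ (A : Subgroup G) (r : ℕ), r.Prime ∧ Nat.card A = r ∧ r ≠ p ∧
      (∀ i, r ∣ p ^ i - 1 → n ∣ i) ∧ A ≤ normalizer (Q : Set G) ∧ A ≤ normalizer (Q0 : Set G) ∧
        Q ⊓ centralizer (A : Set G) ≤ Q0) :
    q ^ 2 * Nat.card Q0 ≤ Nat.card Q := by
  haveI := Fact.mk hp
  obtain ⟨k, hk⟩ := hQ.exists_card_eq
  have hrel : Q0.relIndex Q * Nat.card Q0 = Nat.card Q := by
    rw [Subgroup.relIndex, ← Nat.card_congr (subgroupOfEquivOfLe hle).toEquiv]
    exact (Q0.subgroupOf Q).index_mul_card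
  obtain ⟨i, -, hi⟩ := (Nat.dvd_prime_pow hp).1 (hk ▸ Dvd.intro _ hrel)
  have hi0 : i ≠ 0 := by
    rintro rfl
    refine hne (le_antisymm hle ?_)
    rw [← Subgroup.relIndex_eq_one, hi, pow_zero]
  have hodd : Odd p := by
    rcases hp.eq_two_or_odd' with h2 | h2
    · have h3 := D.hodd
      rw [hqp, h2, Nat.odd_pow_iff (by omega)] at h3
      exact absurd h3 (by decide)
    · exact h2
  have hq2 : p ^ (2 * n) = q ^ 2 := by
    have e : ∀ m, m = p ^ n → p ^ (2 * n) = m ^ 2 := fun m hm => by rw [hm, ← pow_mul, mul_comm]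
    exact e q hqp
  have h2 : 2 ^ (q ^ 2 - 1).factorization 2 ∣ p ^ i - 1 := by
    rw [← D.card_R, ← hi]
    refine index_mod hle hRQ hR0 ?_ fun a ha ha1 x hx => hfree ⟨hx.1, D.centralizer_le_t ha ha1 hx.2⟩
    rw [D.card_R, hk]
    exact Nat.Coprime.pow _ _ (Nat.coprime_two_left.2 hodd)
  have hni : n ≤ 2 ∨ n ∣ i := by
    rcases hr with h | ⟨A, r, hr, hA, hrp, hord, hAQ, hA0, hfr⟩
    · exact Or.inl h
    refine Or.inr (hord i ?_)
    haveI := Fact.mk hr
    rw [← hA, ← hi]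
    refine index_mod hle hAQ hA0 (hA ▸ hk ▸ Nat.Coprime.pow_right _
      ((Nat.coprime_primes hr hp).2 hrp)) fun a ha ha1 x hx => hfr ⟨hx.1, ?_⟩
    have hz : zpowers a = A :=
      Subgroup.eq_of_le_of_card_ge (zpowers_le.2 ha) (le_of_eq (by
        rw [hA, Nat.card_zpowers]
        refine ((Nat.dvd_prime hr).1 ?_).resolve_left (fun h => ha1 (orderOf_eq_one_iff.1 h)) |>.symm
        rw [← hA, ← Subgroup.orderOf_mk a ha]
        exact orderOf_dvd_natCard _))
    rw [← hz]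
    refine mem_centralizer_iff.2 fun b hb => ?_
    obtain ⟨j, rfl⟩ := mem_zpowers_iff.1 hb
    exact ((Commute.symm (mem_centralizer_singleton_iff.1 hx.2 : Commute x a)).zpow_left j).eq
  have hdiv : 2 * n ∣ i := by
    refine dvd_exponent hodd hn ?_ ?_ h2 hni <;> rw [hq2]
    · exact Nat.ordProj_dvd _ _
    · exact Nat.pow_succ_factorization_not_dvd D.sq_sub_pos Nat.prime_two
  rw [← hrel, hi, ← hq2]
  exact Nat.mul_le_mul_right _ (Nat.pow_le_pow_right hp.pos (Nat.le_of_dvd (by omega) hdiv))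

theorem card_cube (hqp : q = p ^ n) : p ^ (3 * n) = q ^ 3 := by
  have e : ∀ m, m = p ^ n → p ^ (3 * n) = m ^ 3 := fun m hm => by rw [hm, ← pow_mul, mul_comm]
  exact e q hqp

/-- `p` divides the index of the root group in its centraliser. -/
theorem exists_root_lt (hp : p.Prime) (hqp : q = p ^ n) (hn : 1 ≤ n)
    (hv : n < (Nat.card G).factorization p) :
    ∃ T : Subgroup G, IsPGroup p T ∧ T ≤ D.CP ∧ q < Nat.card T := by
  haveI := Fact.mk hp
  have hP0 : IsPGroup p D.P0 := IsPGroup.of_card (n := n) (D.card_P0.trans hqp)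
  obtain ⟨S, hS⟩ := hP0.exists_le_sylow
  have hlt : D.P0.subgroupOf S < ⊤ := by
    rw [lt_top_iff_ne_top, Ne, subgroupOf_eq_top]
    intro h
    have e : (D.P0 : Subgroup G) = S := le_antisymm hS h
    have h1 := D.card_P0
    rw [e, S.card_eq_multiplicity] at h1
    have := Nat.pow_right_injective hp.two_le (h1.trans hqp)
    omega
  obtain ⟨x, hx, hxn⟩ := SetLike.exists_of_lt
    (Group.normalizerCondition_of_isNilpotent (G := S) (h := S.2.isNilpotent) _ hlt)
  set T : Subgroup G := (S : Subgroup G) ⊓ D.B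
  have hxB : (x : G) ∈ D.B := D.mem_B_of_conj fun y hy => by
    have := (mem_normalizer_iff.1 hx ⟨y, hS hy⟩).1 hy
    exact this
  have hT : IsPGroup p T := S.2.to_le inf_le_left
  refine ⟨T, hT, D.pGroup_le_CP hp hqp hn hT inf_le_right, ?_⟩
  by_contra hle
  push Not at hle
  have hP0T : D.P0 ≤ T := le_inf hS (D.P0_le_NB.trans D.NB_le_B)
  have e : D.P0 = T := Subgroup.eq_of_le_of_card_ge hP0T (hle.trans D.card_P0.symm.le)
  exact hxn (show (x : G) ∈ D.P0 from e ▸ ⟨x.2, hxB⟩)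

/-- An element of the centraliser carrying a non-scalar torus element into the torus. -/
theorem torus_sq {g : U2 F q} {β γ : Fˣ} (hβ : β ^ (q + 1) ≠ 1)
    (h : D.π g * D.π (dd D.hF β) * (D.π g)⁻¹ = D.π (dd D.hF γ)) :
    Commute (D.π g * D.π g) (D.π (dd D.hF β)) := by
  obtain ⟨δ, hδ, he⟩ := D.ker_eq_dd (g := (dd D.hF γ)⁻¹ * (g * dd D.hF β * g⁻¹)) (by
    rw [MonoidHom.mem_ker, map_mul, map_mul, map_mul, map_inv, map_inv, h, inv_mul_cancel])
  have hm : g * dd D.hF β = dd D.hF (γ * δ) * g := by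
    rw [map_mul, ← he]; group
  set μ := γ * δ
  have h0 : ((β : F) ^ q)⁻¹ ≠ (β : F) := by
    intro e
    refine hβ (Units.ext ?_)
    rw [Units.val_pow_eq_pow_val, pow_succ', Units.val_one]
    nth_rw 1 [← e]
    exact inv_mul_cancel₀ (pow_ne_zero _ β.ne_zero)
  have a := congrArg e00 hm
  have b := congrArg e01 hm
  have c := congrArg e10 hm
  have d := congrArg e11 hm
  simp only [e00_mul, e01_mul, e10_mul, e11_mul, (dd_entries D.hF β).1, (dd_entries D.hF β).2.1,
    (dd_entries D.hF β).2.2.1, (dd_entries D.hF β).2.2.2, (dd_entries D.hF μ).1,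
    (dd_entries D.hF μ).2.1, (dd_entries D.hF μ).2.2.1, (dd_entries D.hF μ).2.2.2,
    mul_zero, zero_mul, add_zero, zero_add] at a b c d
  have hdet : det2 g ≠ 0 := det2_ne_zero D.hF g
  by_cases h10 : e10 g = 0
  · have hh : e00 g ≠ 0 ∧ e11 g ≠ 0 := e00_eq_zero_or D.hF g h10
    have h2 : (β : F) = μ := mul_left_cancel₀ hh.1 (a.trans (mul_comm _ _))
    have hμ : μ = β := (Units.ext h2).symm
    rw [hμ] at hm
    show _ * _ = _
    rw [← map_mul, ← map_mul, ← map_mul, mul_assoc, hm, ← mul_assoc, hm, mul_assoc]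
  · have h2 : (β : F) = ((μ : F) ^ q)⁻¹ := mul_left_cancel₀ h10 (c.trans (mul_comm _ _))
    have hμ : μ = (β ^ q)⁻¹ := by
      ext
      have h3 : (β : F) ^ q = (μ : F)⁻¹ := by
        rw [h2, inv_pow, pow_q_pow_q D.hF]
      rw [Units.val_inv_eq_inv_val, Units.val_pow_eq_pow_val, h3, inv_inv]
    have hm2 : g * dd D.hF μ = dd D.hF β * g := by
      obtain ⟨p0, p1, p2, p3⟩ := dd_entries D.hF (q := q) μ
      obtain ⟨b0, b1, b2, b3⟩ := dd_entries D.hF (q := q) β
      have e2 : (μ : F) = ((β : F) ^ q)⁻¹ := by rw [hμ]; simp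
      have h11 : e00 g = 0 ∨ (β : F) = μ := by
        rcases eq_or_ne (e00 g) 0 with h | h
        · exact Or.inl h
        · exact Or.inr (mul_left_cancel₀ h (a.trans (mul_comm _ _)))
      have h00 : e00 g = 0 := h11.resolve_right fun e => h0 (e2.symm.trans e.symm)
      have h22 : e11 g = 0 := by
        rcases eq_or_ne (e11 g) 0 with h | h
        · exact h
        · exact absurd ((mul_left_cancel₀ h (d.trans (mul_comm _ _))).trans h2.symm) h0
      apply ext4 <;> simp [p0, p1, p2, p3, b0, b1, b2, b3, h00, h22, e2, pow_q_pow_q D.hF,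
        mul_comm]
    show _ * _ = _
    rw [← map_mul, ← map_mul, ← map_mul, mul_assoc, hm, ← mul_assoc, hm2, mul_assoc]

end PreData

end Cfsg.Agent.U3Recog
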