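import Cfsg.Agent.Lib.U3Recog.Size

/-!
# A subgroup of order `q ^ 3` centralising the root group (owner: helper40)

* `exists_large` : the large invariant subgroup
* `sq_dvd_J` : `q ^ 2` divides the number of involutions of `B`
-/

set_option autoImplicit false
set_option linter.unusedSectionVars false
set_option linter.style.haveILetI false

namespace Cfsg.Agent.U3Recog

open Subgroup Cfsg.Agent.Unitary
open scoped Pointwise

variable {G : Type*} [Group G] [Finite G] {F : Type*} [Field F] [Fintype F] {q p n : ℕ}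

namespace PreData

variable (D : PreData G F q)
include D

/-- A Sylow subgroup of `K` of order at least that of a `p`-subgroup. -/
theorem le_sylow_card (hp : p.Prime) {X T : Subgroup G} (hT : IsPGroup p T) (hTX : T ≤ X)
    (S : Sylow p X) : Nat.card T ≤ Nat.card ((S : Subgroup X).map X.subtype) := by
  haveI := Fact.mk hp
  rw [card_map_of_injective X.subtype_injective, S.card_eq_multiplicity,
    ← Nat.card_congr (subgroupOfEquivOfLe hTX).toEquiv]
  obtain ⟨S', hS'⟩ := (hT.of_equiv (subgroupOfEquivOfLe hTX).symm).exists_le_sylow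
  rw [← S'.card_eq_multiplicity]
  exact Subgroup.card_le_of_le hS'

theorem card_H_gcd {l e : ℕ} (hl : l.Prime) (h1 : ¬ l ∣ q + 1) (he : l ^ e ∣ q - 1) :
    l ^ e ∣ Nat.card D.H := by
  refine Nat.Coprime.dvd_of_dvd_mul_right (Nat.Coprime.pow_left e (hl.coprime_iff_not_dvd.2
    fun h => h1 (h.trans D.d_dvd))) ?_
  rw [D.card_H]
  exact he.trans (q_pred_dvd q)

theorem torus_pow_ne {l : ℕ} (hl : l.Prime) (h1 : ¬ l ∣ q + 1) {α : Fˣ}
    (hne : D.π (dd D.hF α) ≠ 1) {e : ℕ} (he : D.π (dd D.hF α) ^ l ^ e = 1) : α ^ (q + 1) ≠ 1 := by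
  intro h
  refine hne (orderOf_eq_one_iff.1 (Nat.eq_one_of_dvd_coprimes
    (Nat.Coprime.pow_left e (hl.coprime_iff_not_dvd.2 h1)) (orderOf_dvd_of_pow_eq_one he) ?_))
  refine orderOf_dvd_of_pow_eq_one ?_
  rw [← map_pow, ← map_pow, h, map_one, map_one]

theorem rgroup_inf_CP {l e : ℕ} (hl : l.Prime) (h1 : ¬ l ∣ q + 1) {a : G} (ha : a ∈ D.H)
    (hae : a ^ l ^ e = 1) (hCP : a ∈ D.CP) : a = 1 := by
  obtain ⟨α, rfl⟩ := D.mem_H.1 ha
  by_contra hne
  have h2 := D.torus_pow_ne hl h1 hne hae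
  obtain ⟨c, hc, hc0⟩ := D.exists_skew_ne
  have hm := D.comm_lift (g := dd D.hF α) (g' := uu D.hF c hc) (D.mem_CP.1 hCP _ (D.uu_mem c hc))
  obtain ⟨-, h00⟩ := of_comm_uu D.hF _ hc hc0 hm
  refine h2 (Units.ext ?_)
  rw [Units.val_pow_eq_pow_val, pow_succ', Units.val_one]
  rw [(dd_entries D.hF α).1, (dd_entries D.hF α).2.2.2] at h00
  nth_rw 1 [h00]
  exact inv_mul_cancel₀ (pow_ne_zero _ α.ne_zero)

theorem card_le_of_factorization (hp : p.Prime) (hqp : q = p ^ n) {k : ℕ}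
    (hv : (Nat.card G).factorization p ≤ k * n) {Q : Subgroup G} (hQ : IsPGroup p Q) :
    Nat.card Q ≤ q ^ k := by
  haveI := Fact.mk hp
  obtain ⟨j, hj⟩ := hQ.exists_card_eq
  have h := Subgroup.card_subgroup_dvd_card Q
  rw [hj, Nat.Prime.pow_dvd_iff_le_factorization hp Nat.card_pos.ne'] at h
  rw [hj, hqp, ← pow_mul, mul_comm n k]
  exact Nat.pow_le_pow_right hp.pos (h.trans hv)

/-- The 2-part of the torus is semiregular on the cosets of the root group. -/
theorem root_index (hp : p.Prime) (hqp : q = p ^ n) {Q : Subgroup G} (hQ : IsPGroup p Q)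
    (hle : D.P0 ≤ Q) (hlt : q < Nat.card Q) (hsmall : Nat.card Q < q ^ 3)
    (hRQ : D.R ≤ normalizer (Q : Set G)) (hQC : Q ⊓ centralizer ({D.t} : Set G) ≤ D.P0)
    {j : ℕ} (hj : Nat.card Q = p ^ j) :
    ∃ i, 0 < i ∧ i < 2 * n ∧ j = n + i ∧ 2 ^ (q ^ 2 - 1).factorization 2 ∣ p ^ i - 1 := by
  rw [hj, hqp, Nat.pow_lt_pow_iff_right hp.one_lt] at hlt
  rw [hj, hqp, ← pow_mul, Nat.pow_lt_pow_iff_right hp.one_lt] at hsmall
  refine ⟨j - n, by omega, by omega, by omega, ?_⟩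
  have hrel : D.P0.relIndex Q = p ^ (j - n) := by
    refine Nat.eq_of_mul_eq_mul_right (pow_pos hp.pos n) ?_
    have h := (D.P0.subgroupOf Q).index_mul_card
    rw [Nat.card_congr (subgroupOfEquivOfLe hle).toEquiv, D.card_P0.trans hqp, hj] at h
    rw [← pow_add, Nat.sub_add_cancel hlt.le]
    exact h
  rw [← D.card_R, ← hrel]
  refine index_mod hle hRQ (fun a ha => D.R_le_B ha) ?_
    fun a ha ha1 x hx => hQC ⟨hx.1, D.centralizer_le_t ha ha1 hx.2⟩
  rw [D.card_R, hj]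
  refine Nat.Coprime.pow _ _ (Nat.coprime_two_left.2 ?_)
  have h := D.hodd
  rw [hqp] at h
  rcases hp.eq_two_or_odd' with h2 | h2
  · rcases Nat.eq_zero_or_pos n with hn | hn
    · omega
    · rw [h2, Nat.odd_pow_iff (by omega)] at h; exact absurd h (by decide)
  · exact h2

/-- A subgroup of `CP` of order at least `q ^ 3`. -/
theorem exists_large' (hp : p.Prime) (hqp : q = p ^ n) (hn : 1 ≤ n)
    (hv : n < (Nat.card G).factorization p) (hv3 : (Nat.card G).factorization p ≤ 3 * n)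
    (hgrow : ∀ i, 0 < i → i < 2 * n → 2 ^ (q ^ 2 - 1).factorization 2 ∣ p ^ i - 1 →
      (Nat.card G).factorization p ≠ n + i)
    (htorus : ∀ r : ℕ, r.Prime → r ≠ 2 → r ∣ q - 1 → ¬ r ∣ q + 1 → ¬ r ∣ q * q - q + 1 →
      (Nat.card G).factorization r = (q - 1).factorization r) :
    ∃ Q : Subgroup G, IsPGroup p Q ∧ D.P0 ≤ Q ∧ Q ≤ D.CP ∧ q ^ 3 ≤ Nat.card Q := by
  haveI := Fact.mk hp
  haveI : Fact (Nat.Prime 2) := ⟨Nat.prime_two⟩
  obtain ⟨K, hKCP, hBK, hKodd, hKmem⟩ := D.exists_K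
  have hp2 : Odd p := by
    rcases hp.eq_two_or_odd' with h2 | h2
    · have h3 := D.hodd
      rw [hqp, h2, Nat.odd_pow_iff (by omega)] at h3
      exact absurd h3 (by decide)
    · exact h2
  have podd : ∀ {T : Subgroup G}, IsPGroup p T → ∀ x ∈ T, Odd (orderOf x) := by
    intro T hT x hx
    obtain ⟨k, hk⟩ := IsPGroup.iff_orderOf.1 hT ⟨x, hx⟩
    rw [Subgroup.orderOf_mk] at hk
    rw [hk]
    exact hp2.pow
  have hP0 : IsPGroup p D.P0 := IsPGroup.of_card (n := n) (D.card_P0.trans hqp)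
  have hP0K : D.P0 ≤ K := fun x hx => hKmem x (D.P0_le_CP hx) (podd hP0 x hx)
  obtain ⟨T, hT, hTCP, hTq⟩ := D.exists_root_lt hp hqp hn hv
  have hTK : T ≤ K := fun x hx => hKmem x (hTCP hx) (podd hT x hx)
  by_cases hn2 : n ≤ 2
  · -- only the 2-part of the torus is needed
    obtain ⟨S, hS0, hSR⟩ := Coprime.exists_invariant_sylow_ge (A := D.R) (K := K)
      (D.R_le_B.trans hBK) (by rw [D.card_R]; exact (Nat.coprime_two_left.2 hKodd).pow_left _)
      (Or.inl (Group.isSolvable_of_comm fun u v => (D.R_cyclic.isMulCommutative).is_comm.comm u v))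
      (p := p) hP0K hP0 (fun a ha => mem_normalizer_iff.2 fun x =>
        (mem_normalizer_iff.1 (D.R_le_B ha) x))
    set Q := (S : Subgroup K).map K.subtype
    have hQ : IsPGroup p Q := S.2.map _
    have hQCP : Q ≤ D.CP := (map_subtype_le _).trans hKCP
    refine ⟨Q, hQ, hS0, hQCP, ?_⟩
    have hlt : q < Nat.card Q := hTq.trans_le (D.le_sylow_card hp hT hTK S)
    have h := D.size hp hqp hn hQ hS0 (fun e => by rw [← e, D.card_P0] at hlt; omega) hSR
      (fun a ha => D.R_le_B ha) (D.Q_inf_C hp hqp hn hQ (hQCP.trans D.CP_le_B)) (Or.inl hn2)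
    rw [D.card_P0] at h
    rwa [pow_succ]
  push Not at hn2
  obtain ⟨r, hr, hr2, hrp, hrd, hr1, hr3, hord⟩ := exists_prime hp hp2 (n := n) (by omega)
  rw [← hqp] at hrd hr1 hr3
  haveI := Fact.mk hr
  have hq := D.q_ge
  set e := (q - 1).factorization r
  have he1 : 1 ≤ e := Nat.Prime.factorization_pos_of_dvd hr (by omega) hrd
  have hGr : (Nat.card G).factorization r = e := htorus r hr hr2 hrd hr1 hr3
  set Ar : Subgroup G := cycPart D.H D.H_cyclic (r ^ e)
  have hArH : Ar ≤ D.H := cycPart_le _ _ _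
  have hArc : IsCyclic Ar := cycPart_cyclic _ _ _
  have hArcard : Nat.card Ar = r ^ e :=
    card_cycPart_of_dvd (D.card_H_gcd hr hr1 (Nat.ordProj_dvd _ _))
  set A : Subgroup G := cycPart D.H D.H_cyclic (2 ^ (q ^ 2 - 1).factorization 2 * r ^ e)
  have hAH : A ≤ D.H := cycPart_le _ _ _
  have hArA : Ar ≤ A := fun x hx => ⟨hx.1, by rw [mul_comm, pow_mul, hx.2, one_pow]⟩
  have hRA : D.R ≤ A := fun x hx => ⟨hx.1, by rw [pow_mul, hx.2, one_pow]⟩
  have hAsolv : Group.IsSolvable A := Group.isSolvable_of_comm fun u v =>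
    ((cycPart_cyclic D.H D.H_cyclic _ : IsCyclic A).isMulCommutative).is_comm.comm u v
  have hAcard : Nat.card A ∣ 2 ^ (q ^ 2 - 1).factorization 2 * r ^ e := by
    rw [card_cycPart]; exact Nat.gcd_dvd_right _ _
  -- `r` does not divide `|K|`
  have hrK : ¬ r ∣ Nat.card K := by
    intro h
    obtain ⟨x, hx⟩ := exists_prime_orderOf_dvd_card' r h
    have hArB : Ar ≤ D.B := hArH.trans (D.H_le_NB.trans D.NB_le_B)
    let S : Sylow r D.B := Sylow.ofCard (Ar.subgroupOf D.B) (by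
      rw [Nat.card_congr (subgroupOfEquivOfLe hArB).toEquiv, hArcard]
      congr 1
      refine le_antisymm ((Nat.Prime.pow_dvd_iff_le_factorization hr Nat.card_pos.ne').1 ?_) ?_
      · exact hArcard ▸ Subgroup.card_dvd_of_le hArB
      · refine le_of_le_of_eq ?_ hGr
        exact (Nat.factorization_le_iff_dvd Nat.card_pos.ne' Nat.card_pos.ne').2
          (Subgroup.card_subgroup_dvd_card D.B) r)
    have hxB : (x : G) ∈ D.B := D.CP_le_B (hKCP x.2)
    obtain ⟨S', hS'⟩ := (IsPGroup.of_card (p := r) (n := 1) (G := zpowers (⟨x, hxB⟩ : D.B)) (by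
      rw [Nat.card_zpowers, Subgroup.orderOf_mk, Subgroup.orderOf_coe, hx, pow_one])).exists_le_sylow
    obtain ⟨b, hb⟩ := MulAction.exists_smul_eq D.B S S'
    have hmem : (⟨x, hxB⟩ : D.B) ∈ ((b • S : Sylow r D.B) : Subgroup D.B) :=
      hb ▸ hS' (mem_zpowers _)
    obtain ⟨y, hy, hxy⟩ := hmem
    have hxy' : (b : G) * (y : G) * (b : G)⁻¹ = x := congrArg Subtype.val hxy
    have hyAr : (y : G) ∈ Ar := hy
    have hyK : (y : G) ∈ K := by
      refine (mem_normalizer_iff.1 (hBK b.2) y).2 ?_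
      rw [hxy']; exact x.2
    have hy1 := D.rgroup_inf_CP hr hr1 hyAr.1 hyAr.2 (hKCP hyK)
    rw [hy1, mul_one, mul_inv_cancel] at hxy'
    have : orderOf (x : G) = r := by rw [Subgroup.orderOf_coe, hx]
    rw [← hxy', orderOf_one] at this
    exact hr.one_lt.ne this
  have hcopA : ∀ {X : Subgroup G}, Odd (Nat.card X) → ¬ r ∣ Nat.card X →
      (Nat.card A).Coprime (Nat.card X) := fun ho hd =>
    ((Nat.Coprime.pow_left _ (Nat.coprime_two_left.2 ho)).mul_left
      (Nat.Coprime.pow_left _ (hr.coprime_iff_not_dvd.2 hd))).coprime_dvd_left hAcard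
  have hAB : A ≤ D.B := hAH.trans (D.H_le_NB.trans D.NB_le_B)
  obtain ⟨S, hS0, hSA⟩ := Coprime.exists_invariant_sylow_ge (A := A) (K := K)
    (hAB.trans hBK) (hcopA hKodd hrK) (Or.inl hAsolv) (p := p) hP0K hP0
    (fun a ha => mem_normalizer_iff.2 fun x => mem_normalizer_iff.1 (hAB ha) x)
  set Q := (S : Subgroup K).map K.subtype with hQdef
  have hQ : IsPGroup p Q := S.2.map _
  have hQK : Q ≤ K := map_subtype_le _
  have hQCP : Q ≤ D.CP := hQK.trans hKCP
  refine ⟨Q, hQ, hS0, hQCP, ?_⟩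
  by_contra hsmall
  push Not at hsmall
  have hlt : q < Nat.card Q := hTq.trans_le (D.le_sylow_card hp hT hTK S)
  -- an element of order `r`
  obtain ⟨h', hh'⟩ := exists_prime_orderOf_dvd_card' (G := Ar) r
    (hArcard ▸ dvd_pow_self r (by omega))
  set hh : G := (h' : G)
  have hho : orderOf hh = r := by rw [Subgroup.orderOf_coe, hh']
  have hhH : hh ∈ D.H := hArH h'.2
  obtain ⟨β, hβe⟩ := D.mem_H.1 hhH
  have hβ : β ^ (q + 1) ≠ 1 := by
    refine D.torus_pow_ne hr hr1 (fun h => ?_) (e := 1) ?_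
    · rw [hβe] at h; rw [h, orderOf_one] at hho; exact hr.one_lt.ne hho
    · rw [hβe, pow_one, ← hho, pow_orderOf_eq_one]
  set Ah : Subgroup G := zpowers hh with hAh
  have hAhA : Ah ≤ A := zpowers_le.2 (hArA h'.2)
  have hAhc : Nat.card Ah = r := by rw [hAh, Nat.card_zpowers, hho]
  set CQ : Subgroup G := Q ⊓ centralizer (Ah : Set G)
  have hQC := D.Q_inf_C hp hqp hn hQ (hQCP.trans D.CP_le_B)
  have hAhQ : Ah ≤ normalizer (Q : Set G) := hAhA.trans hSA
  have hRQ : D.R ≤ normalizer (Q : Set G) := hRA.trans hSA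
  have hRCQ : D.R ≤ normalizer (CQ : Set G) := by
    intro a ha
    have hca : ∀ b ∈ Ah, Commute a b := fun b hb => congrArg Subtype.val
      ((D.H_cyclic.isMulCommutative).is_comm.comm ⟨a, D.R_le_H ha⟩ ⟨b, hAH (hAhA hb)⟩)
    have key : ∀ c : G, (∀ b ∈ Ah, Commute c b) → ∀ x ∈ centralizer (Ah : Set G),
        c * x * c⁻¹ ∈ centralizer (Ah : Set G) := by
      intro c hc x hx
      refine mem_centralizer_iff.2 fun b hb => ?_
      have h1 : Commute x b := (mem_centralizer_iff.1 hx b hb).symm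
      exact (((hc b hb).mul_left h1).mul_left (hc b hb).inv_left).eq.symm
    refine mem_normalizer_iff.2 fun x => ⟨fun hx => ⟨(mem_normalizer_iff.1 (hRQ ha) x).1 hx.1,
      key a hca x hx.2⟩, fun hx => ⟨(mem_normalizer_iff.1 (hRQ ha) x).2 hx.1, ?_⟩⟩
    simpa [mul_assoc] using key a⁻¹ (fun b hb => (hca b hb).inv_left) _ hx.2
  have hCQ0 : ∀ x ∈ CQ, x ∈ D.P0 → x = 1 := by
    intro x hx hx0
    obtain ⟨c, hc, rfl⟩ := D.mem_P0.1 hx0
    refine D.P0_inter_H hx0 (D.cc_torus hβ ?_)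
    have := mem_centralizer_iff.1 hx.2 hh (mem_zpowers _)
    rw [← hβe] at this
    exact this.symm
  have hord' : ∀ i, r ∣ p ^ i - 1 → n ∣ i := hord
  by_cases hCQ : CQ ≤ D.P0
  · have h := D.size hp hqp hn hQ hS0 (fun e => by rw [← e, D.card_P0] at hlt; omega) hRQ
      (fun a ha => D.R_le_B ha) hQC (Or.inr ⟨Ah, r, hr, hAhc, hrp, hord', hAhQ,
        (fun a ha => hAB (hAhA ha)), hCQ⟩)
    rw [D.card_P0, ← pow_succ] at h
    exact absurd h (not_le.2 hsmall)
  set Q0 : Subgroup G := D.P0 ⊔ CQ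
  have hQ0Q : Q0 ≤ Q := sup_le hS0 inf_le_left
  have hQ0card : q * Nat.card CQ ≤ Nat.card Q0 := by
    refine le_of_eq_of_le (congrArg (· * Nat.card CQ) D.card_P0).symm ?_
    rw [← Nat.card_prod]
    refine Nat.card_le_card_of_injective
      (fun x : D.P0 × CQ => (⟨x.1 * x.2, Q0.mul_mem (le_sup_left (a := D.P0) x.1.2)
        (le_sup_right (b := CQ) x.2.2)⟩ : Q0)) fun a b h => ?_
    have h' : (a.1 : G) * a.2 = b.1 * b.2 := congrArg Subtype.val h
    have h2 : (b.1 : G)⁻¹ * a.1 = b.2 * (a.2 : G)⁻¹ := by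
      rw [eq_mul_inv_iff_mul_eq, mul_assoc, h', inv_mul_cancel_left]
    have h3 := hCQ0 _ (h2 ▸ CQ.mul_mem b.2.2 (CQ.inv_mem a.2.2))
      (D.P0.mul_mem (D.P0.inv_mem b.1.2) a.1.2)
    have e1 : (a.1 : G) = b.1 := (inv_mul_eq_one.1 h3).symm
    rw [e1] at h'
    exact Prod.ext (Subtype.ext e1) (Subtype.ext (mul_left_cancel h'))
  have hCQ1 : p ≤ Nat.card CQ := by
    obtain ⟨k, hk⟩ := (hQ.to_le (inf_le_left : CQ ≤ Q)).exists_card_eq
    rcases k with _ | k
    · rw [pow_zero] at hk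
      exact absurd (le_of_eq_of_le (Subgroup.card_eq_one.1 hk) bot_le) hCQ
    · rw [hk]; exact Nat.le_self_pow (Nat.succ_ne_zero k) p
  have hp3 : q ^ 3 < q ^ 2 * (q * p) := by
    have : 0 < q ^ 3 := pow_pos (by omega) 3
    calc q ^ 3 < q ^ 3 * p := lt_mul_of_one_lt_right this hp.one_lt
      _ = q ^ 2 * (q * p) := by ring
  by_cases hQeq : Q0 = Q
  swap
  · have h := D.size hp hqp hn hQ hQ0Q hQeq hRQ (normalizer_sup (fun a ha => D.R_le_B ha) hRCQ)
      (hQC.trans le_sup_left) (Or.inr ⟨Ah, r, hr, hAhc, hrp, hord', hAhQ,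
        normalizer_sup (fun a ha => hAB (hAhA ha)) (fun a ha => by
          refine mem_normalizer_iff.2 fun x => ?_
          have hA' : ∀ c ∈ Ah, ∀ y ∈ CQ, c * y * c⁻¹ ∈ CQ := fun c hc y hy => by
            rwa [(mem_centralizer_iff.1 hy.2 c hc), mul_inv_cancel_right]
          refine ⟨hA' a ha x, fun hx => ?_⟩
          simpa [mul_assoc] using hA' a⁻¹ (Ah.inv_mem ha) _ hx),
        le_sup_right⟩)
    have : q ^ 2 * (q * p) ≤ q ^ 2 * Nat.card Q0 :=
      Nat.mul_le_mul_left _ ((Nat.mul_le_mul_left q hCQ1).trans hQ0card)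
    omega
  -- `Q = P0 × C_Q(hh)` : enlarge inside the normaliser of `Q`
  set W : Subgroup G := normalizer (Q : Set G)
  have hP0W : ∀ {g : G}, g ∈ W → g ∈ centralizer ({D.t} : Set G) → g ∈ D.NB := by
    intro g hg hgt
    refine D.nc_root hgt fun y hy => hQC ⟨(mem_normalizer_iff.1 hg y).1 (hS0 hy), ?_⟩
    exact Subgroup.mul_mem _ (Subgroup.mul_mem _ hgt (D.P0_le_C hy)) (Subgroup.inv_mem _ hgt)
  obtain ⟨-, KW, hKWle, hWKW, hKWodd, -, hKWmem⟩ := cyclic_two (X := W) D.orderOf_t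
    hRQ D.R_isPGroup D.R_cyclic D.t_mem_R
    fun S' hR' hS' hp' => D.max_two hR' (fun x hx => hP0W (hS' hx).1 (hS' hx).2) hp'
  have hArKW : Ar ≤ KW := fun x hx => by
    refine hKWmem x (hSA (hArA hx)) ?_
    refine Odd.of_dvd_nat ((hr.odd_of_ne_two hr2).pow (n := e)) ?_
    rw [← hArcard, ← Subgroup.orderOf_mk x hx]
    exact orderOf_dvd_natCard _
  -- normal complement to `Ar` in `KW`
  have hburn : normalizer ((Ar.subgroupOf KW : Subgroup KW) : Set KW) ≤
      centralizer ((Ar.subgroupOf KW : Subgroup KW) : Set KW) := by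
    intro x hx
    have hxA : ∀ y ∈ Ar, (x : G) * y * (x : G)⁻¹ ∈ Ar := fun y hy => by
      have := (mem_normalizer_iff.1 hx ⟨y, hArKW hy⟩).1 hy
      exact this
    set X : Subgroup G := centralizer (Ar : Set G)
    have hRX : D.R ≤ X := fun a ha => mem_centralizer_iff.2 fun y hy => congrArg Subtype.val
      ((D.H_cyclic.isMulCommutative).is_comm.comm ⟨y, hArH hy⟩ ⟨a, D.R_le_H ha⟩)
    obtain ⟨hconj, -⟩ := cyclic_two (X := X) D.orderOf_t hRX D.R_isPGroup D.R_cyclic D.t_mem_R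
      fun S' hR' hS' hp' => D.max_two hR' (fun g hg => by
        obtain ⟨g', rfl⟩ := D.exists_of_comm (mem_centralizer_singleton_iff.1 (hS' hg).2)
        refine D.H_le_NB (D.cc_torus hβ ?_)
        have := mem_centralizer_iff.1 (hS' hg).1 hh h'.2
        rw [← hβe] at this
        exact this.symm) hp'
    have htX : D.t ∈ X := hRX D.t_mem_R
    have hxt : (x : G) * D.t * (x : G)⁻¹ ∈ X := by
      refine mem_centralizer_iff.2 fun y hy => ?_
      have hy' : (x : G)⁻¹ * y * x ∈ Ar := by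
        have := (mem_normalizer_iff.1 (inv_mem hx) ⟨y, hArKW hy⟩).1 hy
        simpa [mem_subgroupOf] using this
      have h2 := mem_centralizer_iff.1 htX _ hy'
      calc y * ((x : G) * D.t * (x : G)⁻¹) = x * ((x : G)⁻¹ * y * x * D.t) * (x : G)⁻¹ := by group
        _ = x * (D.t * ((x : G)⁻¹ * y * x)) * (x : G)⁻¹ := by rw [h2]
        _ = _ := by group
    obtain ⟨y, hy, hye⟩ := hconj _ hxt (by rw [Involution.orderOf_conj, D.orderOf_t])
    obtain ⟨g, hg⟩ := D.exists_of_comm (x := y⁻¹ * x) (by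
      show _ * _ = _
      calc y⁻¹ * (x : G) * D.t = y⁻¹ * ((x : G) * D.t * (x : G)⁻¹) * x := by group
        _ = D.t * (y⁻¹ * x) := by rw [← hye]; group)
    have hact : ∀ z ∈ Ar, (x : G) * z * (x : G)⁻¹ = D.π g * z * (D.π g)⁻¹ := by
      intro z hz
      have h1 : (x : G) * z * (x : G)⁻¹ ∈ Ar := hxA z hz
      have h2 := (mem_centralizer_iff.1 hy _ h1).symm
      rw [hg]
      calc (x : G) * z * (x : G)⁻¹ = y⁻¹ * (y * ((x : G) * z * (x : G)⁻¹)) := by group
        _ = y⁻¹ * ((x : G) * z * (x : G)⁻¹ * y) := by rw [h2]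
        _ = _ := by group
    refine mem_centralizer_iff.2 fun z hz => Subtype.ext ?_
    have hz' : (z : G) ∈ Ar := hz
    -- `x ^ 2` centralises `z`
    have hsq : Commute ((x : G) * x) (z : G) := by
      rcases eq_or_ne (z : G) 1 with h | h
      · rw [h]; exact Commute.one_right _
      obtain ⟨α, hα⟩ := D.mem_H.1 hz'.1
      obtain ⟨γ, hγ⟩ := D.mem_H.1 (hArH (hxA _ hz'))
      have hc := D.torus_sq (g := g) (D.torus_pow_ne hr hr1 (hα ▸ h) (e := e) (by
        rw [hα]; exact hz'.2)) (γ := γ) (by rw [hα, hγ, hact _ hz'])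
      rw [hα] at hc
      show _ * _ = _
      have h1 : (x : G) * x * z * ((x : G) * x)⁻¹ = z := by
        calc (x : G) * x * z * ((x : G) * x)⁻¹ = x * (x * z * (x : G)⁻¹) * (x : G)⁻¹ := by group
          _ = D.π g * (x * z * (x : G)⁻¹) * (D.π g)⁻¹ := hact _ (hxA _ hz')
          _ = D.π g * D.π g * z * (D.π g * D.π g)⁻¹ := by rw [hact _ hz']; group
          _ = z := by rw [hc.eq, mul_inv_cancel_right]
      exact mul_inv_eq_iff_eq_mul.1 h1
    obtain ⟨j, hj⟩ := (exists_pow_eq_self_of_coprime (n := 2) (x := x) (by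
      exact (Nat.coprime_two_left.2 (hKWodd.of_dvd_nat (orderOf_dvd_natCard x)))) :
        ∃ j : ℕ, (x ^ 2) ^ j = x)
    have hxG : ((x : G) * x) ^ j = x := by
      rw [← sq]; exact congrArg Subtype.val hj
    show (z : G) * x = x * z
    rw [← hxG]
    exact (hsq.pow_left j).eq.symm
  obtain ⟨N, hN, hNc⟩ := Transfer.exists_normal_complement_of_normalizer_le_centralizer
    (Ar.subgroupOf KW) (by
      rw [Nat.card_congr (subgroupOfEquivOfLe hArKW).toEquiv, hArcard]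
      refine Nat.Coprime.pow_left e (hr.coprime_iff_not_dvd.2 fun hd => ?_)
      have h2 : r ^ (e + 1) ∣ Nat.card G := by
        refine Dvd.dvd.trans ?_ (Subgroup.card_subgroup_dvd_card KW)
        rw [← (Ar.subgroupOf KW).card_mul_index,
          Nat.card_congr (subgroupOfEquivOfLe hArKW).toEquiv, hArcard, pow_succ]
        exact Nat.mul_dvd_mul_left _ hd
      rw [Nat.Prime.pow_dvd_iff_le_factorization hr Nat.card_pos.ne', hGr] at h2
      omega) hburn
  have hNr : ¬ r ∣ Nat.card N := by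
    intro hd
    have h2 : r ^ (e + 1) ∣ Nat.card G := by
      refine Dvd.dvd.trans ?_ (Subgroup.card_subgroup_dvd_card KW)
      rw [← hNc.card_mul_card, Nat.card_congr (subgroupOfEquivOfLe hArKW).toEquiv, hArcard,
        pow_succ, mul_comm]
      exact Nat.mul_dvd_mul_right hd _
    rw [Nat.Prime.pow_dvd_iff_le_factorization hr Nat.card_pos.ne', hGr] at h2
    omega
  have hNmem : ∀ x : KW, ¬ r ∣ orderOf x → x ∈ N := by
    intro x hx
    haveI := hN
    rw [← QuotientGroup.eq_one_iff, ← orderOf_eq_one_iff]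
    refine Nat.eq_one_of_dvd_coprimes ((Nat.Coprime.pow_left e (hr.coprime_iff_not_dvd.2 hx)).symm)
      (orderOf_map_dvd (QuotientGroup.mk' N) x) ?_
    rw [← hArcard, ← Nat.card_congr (subgroupOfEquivOfLe hArKW).toEquiv, ← hNc.symm.index_eq_card,
      index_eq_card]
    exact orderOf_dvd_natCard _
  set N' : Subgroup G := N.map KW.subtype
  have hN'odd : Odd (Nat.card N') := hKWodd.of_dvd_nat
    (Subgroup.card_dvd_of_le (map_subtype_le _))
  have hN'r : ¬ r ∣ Nat.card N' := by rwa [card_map_of_injective KW.subtype_injective]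
  have hAN' : A ≤ normalizer (N' : Set G) := by
    intro a ha
    have key : ∀ c ∈ W, ∀ x ∈ N', c * x * c⁻¹ ∈ N' := by
      rintro c hc _ ⟨x, hx, rfl⟩
      have hmem : c * (x : G) * c⁻¹ ∈ KW := (mem_normalizer_iff.1 (hWKW hc) x).1 x.2
      refine ⟨⟨_, hmem⟩, hNmem _ fun hd => hNr ?_, rfl⟩
      rw [Subgroup.orderOf_mk, Involution.orderOf_conj, Subgroup.orderOf_coe] at hd
      exact hd.trans (by
        rw [← Subgroup.orderOf_mk x hx]; exact orderOf_dvd_natCard _)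
    refine mem_normalizer_iff.2 fun x => ⟨key a (hSA ha) x, fun hx => ?_⟩
    simpa [mul_assoc] using key a⁻¹ (W.inv_mem (hSA ha)) _ hx
  have podd' : ∀ {T : Subgroup G}, IsPGroup p T → T ≤ W → T ≤ N' := by
    intro T hT hTW x hx
    have hxK : x ∈ KW := hKWmem x (hTW hx) (podd hT x hx)
    obtain ⟨k, hk⟩ := IsPGroup.iff_orderOf.1 hT ⟨x, hx⟩
    rw [Subgroup.orderOf_mk] at hk
    refine ⟨⟨x, hxK⟩, hNmem _ fun hd => ?_, rfl⟩
    rw [Subgroup.orderOf_mk, hk] at hd
    exact hrp ((Nat.prime_dvd_prime_iff_eq hr hp).1 (hr.dvd_of_dvd_pow hd))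
  have hQW : Q ≤ W := Subgroup.le_normalizer
  obtain ⟨S2, hS2Q, hS2A⟩ := Coprime.exists_invariant_sylow_ge (A := A) (K := N') hAN'
    (hcopA hN'odd hN'r) (Or.inl hAsolv) (p := p) (podd' hQ hQW) hQ hSA
  set Q2 := (S2 : Subgroup N').map N'.subtype
  have hQ2 : IsPGroup p Q2 := S2.2.map _
  have hQ2W : Q2 ≤ W := (map_subtype_le _).trans ((map_subtype_le _).trans hKWle)
  have hQ2ne : Q ≠ Q2 := by
    intro hEq
    -- grow `Q` inside a Sylow subgroup of `G`
    obtain ⟨P, hP⟩ := hQ.exists_le_sylow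
    have hlt' : Q.subgroupOf P < ⊤ := by
      rw [lt_top_iff_ne_top, Ne, subgroupOf_eq_top]
      intro h
      have h1 := Subgroup.card_le_of_le h
      rw [P.card_eq_multiplicity] at h1
      obtain ⟨j, hj⟩ := hQ.exists_card_eq
      have hjv : (Nat.card G).factorization p ≤ j := by rwa [hj, Nat.pow_le_pow_iff_right hp.one_lt] at h1
      have hjv' : j ≤ (Nat.card G).factorization p := by
        have := Subgroup.card_subgroup_dvd_card Q
        rwa [hj, hp.pow_dvd_iff_le_factorization Nat.card_pos.ne'] at this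
      obtain ⟨i, hi0, hi2, hji, hdiv⟩ := D.root_index hp hqp hQ hS0 hlt hsmall hRQ hQC hj
      exact hgrow i hi0 hi2 hdiv (by omega)
    obtain ⟨x, hx, hxn⟩ := SetLike.exists_of_lt
      (Group.normalizerCondition_of_isNilpotent (G := P) (h := P.2.isNilpotent) _ hlt')
    haveI : Finite ((Q : Set G)) := inferInstanceAs (Finite Q)
    have hxW : (x : G) ∈ W := mem_normalizer_fintype fun y hy =>
      (mem_normalizer_iff.1 hx ⟨y, hP hy⟩).1 hy
    have hT2 : IsPGroup p ((P : Subgroup G) ⊓ W : Subgroup G) := P.2.to_le inf_le_left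
    have h1 : Nat.card ((P : Subgroup G) ⊓ W : Subgroup G) ≤ Nat.card Q2 :=
      D.le_sylow_card hp hT2 (podd' hT2 inf_le_right) S2
    rw [← hEq] at h1
    have e := Subgroup.eq_of_le_of_card_ge (le_inf hP hQW) h1
    exact hxn (show (x : G) ∈ Q from e ▸ ⟨x.2, hxW⟩)
  have hfree2 : Q2 ⊓ centralizer ({D.t} : Set G) ≤ Q := by
    rintro x ⟨hx, hx'⟩
    refine hS0 (D.Q_inf_C hp hqp hn (hQ2.to_le inf_le_left) ?_ ⟨⟨hx, hx'⟩, hx'⟩)
    rintro y ⟨hy, hy'⟩
    exact D.NB_le_B (hP0W (hQ2W hy) hy')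
  have hfree3 : Q2 ⊓ centralizer (Ah : Set G) ≤ Q := by
    rintro y ⟨hy, hy'⟩
    have hyW := hQ2W hy
    have hyh : Commute y hh := (mem_centralizer_iff.1 hy' hh (mem_zpowers _)).symm
    -- the commutator map of the root group
    let f : D.P0 → D.P0 := fun u => ⟨(u : G) * (hh * (u : G)⁻¹ * hh⁻¹),
      D.P0.mul_mem u.2 (D.conj_mem_of_mem_B (D.NB_le_B (D.H_le_NB hhH)) (D.P0.inv_mem u.2))⟩
    have hf : Function.Surjective f := by
      refine Finite.surjective_of_injective fun u v huv => ?_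
      have h : (u : G) * (hh * (u : G)⁻¹ * hh⁻¹) = v * (hh * (v : G)⁻¹ * hh⁻¹) :=
        congrArg Subtype.val huv
      refine Subtype.ext (inv_mul_eq_one.1 (hCQ0 ((v : G)⁻¹ * u)
        ⟨Q.mul_mem (Q.inv_mem (hS0 v.2)) (hS0 u.2), mem_centralizer_iff.2 ?_⟩
        (D.P0.mul_mem (D.P0.inv_mem v.2) u.2))).symm
      intro b hb
      obtain ⟨j, rfl⟩ := mem_zpowers_iff.1 hb
      refine (Commute.zpow_left ?_ j).eq
      show hh * ((v : G)⁻¹ * u) = (v : G)⁻¹ * u * hh
      calc hh * ((v : G)⁻¹ * u) = (hh * (v : G)⁻¹ * hh⁻¹) * hh * u := by group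
        _ = (v : G)⁻¹ * (u * (hh * (u : G)⁻¹ * hh⁻¹)) * hh * u := by rw [h]; group
        _ = (v : G)⁻¹ * u * hh := by group
    have hyB : y ∈ D.B := by
      refine D.mem_B_of_conj fun u hu => ?_
      obtain ⟨c, hc⟩ := hf ⟨u, hu⟩
      have hc' : (c : G) * (hh * (c : G)⁻¹ * hh⁻¹) = u := congrArg Subtype.val hc
      have h1 : y * (c : G) * y⁻¹ ∈ Q0 := hQeq ▸ (mem_normalizer_iff.1 hyW _).1 (hS0 c.2)
      have hn0 : CQ ≤ normalizer (D.P0 : Set G) := fun z hz => D.CP_le_B (hQCP hz.1)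
      obtain ⟨u', hu', v', hv', he⟩ : ∃ u' ∈ D.P0, ∃ v' ∈ CQ, u' * v' = y * (c : G) * y⁻¹ := by
        have h2 : y * (c : G) * y⁻¹ ∈ ((D.P0 : Set G) * (CQ : Set G)) := by
          rw [← Subgroup.coe_mul_of_right_le_normalizer_left _ _ hn0]
          exact h1
        obtain ⟨a, ha, b, hb, hab⟩ := Set.mem_mul.1 h2
        exact ⟨a, ha, b, hb, hab⟩
      have hv : Commute hh v' := mem_centralizer_iff.1 hv'.2 hh (mem_zpowers _)
      have hy2 : Commute y⁻¹ hh := hyh.inv_left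
      have h3 : y⁻¹ * hh * y = hh := by rw [hy2.eq, inv_mul_cancel_right]
      have h4 : hh⁻¹ * y⁻¹ = y⁻¹ * hh⁻¹ := hy2.inv_right.eq.symm
      have : y * u * y⁻¹ = u' * (hh * u'⁻¹ * hh⁻¹) := by
        calc y * u * y⁻¹ = y * (c : G) * hh * (c : G)⁻¹ * (hh⁻¹ * y⁻¹) := by rw [← hc']; group
          _ = y * (c : G) * (y⁻¹ * hh * y) * (c : G)⁻¹ * (y⁻¹ * hh⁻¹) := by rw [h3, h4]
          _ = (y * (c : G) * y⁻¹) * hh * (y * (c : G) * y⁻¹)⁻¹ * hh⁻¹ := by group
          _ = u' * (v' * hh) * (u' * v')⁻¹ * hh⁻¹ := by rw [← he]; group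
          _ = _ := by rw [← hv.eq]; group
      rw [this]
      exact D.P0.mul_mem hu' (D.conj_mem_of_mem_B (D.NB_le_B (D.H_le_NB hhH)) (D.P0.inv_mem hu'))
    have hT3 : IsPGroup p (Q2 ⊓ D.B : Subgroup G) := hQ2.to_le inf_le_left
    have hT3K : Q2 ⊓ D.B ≤ K := fun x hx =>
      hKmem x (D.pGroup_le_CP hp hqp hn hT3 inf_le_right hx) (podd hT3 x hx)
    have h1 := D.le_sylow_card hp hT3 hT3K S
    have e := Subgroup.eq_of_le_of_card_ge (le_inf hS2Q (hQCP.trans D.CP_le_B)) h1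
    rw [e]
    exact ⟨hy, hyB⟩
  have h := D.size hp hqp hn hQ2 hS2Q hQ2ne (hRA.trans hS2A) hRQ hfree2
    (Or.inr ⟨Ah, r, hr, hAhc, hrp, hord', hAhA.trans hS2A, hAhQ, hfree3⟩)
  have hcard := D.card_le_of_factorization hp hqp hv3 hQ2
  have : q ^ 2 * (q * p) ≤ q ^ 2 * Nat.card Q :=
    Nat.mul_le_mul_left _ ((Nat.mul_le_mul_left q hCQ1).trans (hQeq ▸ hQ0card))
  omega

end PreData

namespace Data

variable (D : Data G F q)
include D

/-- A subgroup of `CP` of order at least `q ^ 3`. -/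
theorem exists_large (hp : p.Prime) (hqp : q = p ^ n) (hn : 1 ≤ n) :
    ∃ Q : Subgroup G, IsPGroup p Q ∧ D.P0 ≤ Q ∧ Q ≤ D.CP ∧ q ^ 3 ≤ Nat.card Q := by
  have hv := D.card_sylow hp hqp hn
  refine D.toPreData.exists_large' hp hqp hn (by omega) (by omega) (fun i _ h _ => by omega)
    fun r hr _ hrd hr1 hr3 => ?_
  have hrq : ¬ r ∣ q := fun h => by
    have h' := Nat.dvd_sub h hrd
    rw [Nat.sub_sub_self (by have := D.q_ge; omega)] at h'
    exact hr.not_dvd_one h'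
  rw [D.factor_G hr hr1, Nat.factorization_eq_zero_of_not_dvd hrq,
    Nat.factorization_eq_zero_of_not_dvd hr3]
  simp

theorem sq_dvd_J (hp : p.Prime) (hqp : q = p ^ n) (hn : 1 ≤ n) : q ^ 2 ∣ Nat.card D.J := by
  haveI := Fact.mk hp
  obtain ⟨Q, hQ, -, hQCP, hcard⟩ := D.exists_large hp hqp hn
  have e : Nat.card Q = q ^ 3 := le_antisymm (D.card_le_cube hp hqp hn hQ) hcard
  have h : q ^ 2 * q ∣ Nat.card D.J * Nat.card D.H * q := by
    rw [← pow_succ, ← e, mul_assoc, mul_comm (Nat.card D.H), ← D.card_B]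
    exact Subgroup.card_dvd_of_le (hQCP.trans D.CP_le_B)
  have h' := Nat.dvd_of_mul_dvd_mul_right (by have := D.q_ge; omega) h
  refine Nat.Coprime.dvd_of_dvd_mul_right (Nat.Coprime.pow_left 2 ?_) h'
  have := (D.coprime_p_H hp hqp hn).pow_left n
  rwa [← hqp] at this

end Data

end Cfsg.Agent.U3Recog
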