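import Cfsg.Agent.Lib.U3Recog.Plane
import Cfsg.Agent.Lib.U3Recog.Tools
import Cfsg.Agent.Lib.Transfer.IsolatedSylow

/-!
# The involution centraliser `GU₂(q)/Z` (owner: helper40)

* `PreData`, `Data` : the hypotheses, without and with the group order
* `P0`, `H`, `NB`, `ZC`, `w` : root group, torus, Borel, scalars, swap, as subsets of `C(t)`
* `cc_root`, `nc_root`, `cc_torus` : centralisers and normaliser inside `C(t)`
* `root_conj`, `mem_of_two_roots` : root groups and the subgroups containing two of them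
* `fusion` : in a simple group `w` is conjugate to `t`
-/

set_option autoImplicit false
set_option linter.unusedSectionVars false
set_option linter.style.haveILetI false

namespace Cfsg.Agent.U3Recog

open Subgroup Cfsg.Agent.Unitary
open scoped Pointwise

variable {G : Type*} [Group G] [Finite G] {F : Type*} [Field F] [Fintype F] {q : ℕ}

/-- An involution centraliser of type `GU₂(q)/Z`. -/
structure PreData (G : Type*) [Group G] [Finite G] (F : Type*) [Field F] [Fintype F] (q : ℕ) where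
  hF : Fintype.card F = q ^ 2
  hodd : Odd q
  π : U2 F q →* G
  t : G
  π_negOne : π (negOne hF) = t
  range_eq : π.range = centralizer ({t} : Set G)
  ker_scalar : ∀ g ∈ π.ker, e01 g = 0 ∧ e10 g = 0 ∧ e00 g = e11 g
  ker_odd : Odd (Nat.card π.ker)

/-- An involution centraliser of type `GU₂(q)/Z` in a group of order that of `PSU₃(q)`. -/
structure Data (G : Type*) [Group G] [Finite G] (F : Type*) [Field F] [Fintype F] (q : ℕ)
    extends PreData G F q where
  hcard : Nat.card G * Nat.card π.ker = q ^ 3 * (q ^ 3 + 1) * (q ^ 2 - 1)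

/-- The elements of `H` killed by `m`. -/
def cycPart (H : Subgroup G) (hH : IsCyclic H) (m : ℕ) : Subgroup G where
  carrier := {x | x ∈ H ∧ x ^ m = 1}
  one_mem' := ⟨H.one_mem, one_pow m⟩
  mul_mem' {x y} hx hy := ⟨H.mul_mem hx.1 hy.1, by
    have hc : Commute x y := congrArg Subtype.val
      ((IsCyclic.isMulCommutative (α := H)).is_comm.comm ⟨x, hx.1⟩ ⟨y, hy.1⟩)
    rw [hc.mul_pow, hx.2, hy.2, one_mul]⟩
  inv_mem' {x} hx := ⟨H.inv_mem hx.1, by rw [inv_pow, hx.2, inv_one]⟩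

theorem cycPart_le (H : Subgroup G) (hH : IsCyclic H) (m : ℕ) : cycPart H hH m ≤ H :=
  fun _ hx => hx.1

theorem cycPart_cyclic (H : Subgroup G) (hH : IsCyclic H) (m : ℕ) : IsCyclic (cycPart H hH m) :=
  haveI := hH
  (subgroupOfEquivOfLe (cycPart_le H hH m)).isCyclic.1 inferInstance

theorem card_cycPart (H : Subgroup G) (hH : IsCyclic H) (m : ℕ) :
    Nat.card (cycPart H hH m) = (Nat.card H).gcd m := by
  haveI := hH
  letI := IsCyclic.commGroup (α := H)
  rw [← IsCyclic.card_powMonoidHom_ker H m]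
  exact Nat.card_congr
    { toFun := fun x => ⟨⟨x.1, x.2.1⟩, Subtype.ext x.2.2⟩
      invFun := fun x => ⟨x.1.1, x.1.2, congrArg Subtype.val x.2⟩
      left_inv := fun x => rfl
      right_inv := fun x => rfl }

/-- The upper triangular elements. -/
noncomputable def upperSubgroup (hF : Fintype.card F = q ^ 2) : Subgroup (U2 F q) where
  carrier := {g | e10 g = 0}
  one_mem' := e10_one
  mul_mem' {a b} ha hb := by simp_all
  inv_mem' {a} ha := by
    have h := e10_mul a⁻¹ a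
    rw [inv_mul_cancel, e10_one, show e10 a = 0 from ha, mul_zero, add_zero] at h
    exact (mul_eq_zero.1 h.symm).resolve_right (e00_eq_zero_or hF a ha).1

/-- The root subgroup of the plane group. -/
noncomputable def rootU (hF : Fintype.card F = q ^ 2) : Subgroup (U2 F q) where
  carrier := {g | ∃ (c : F) (hc : c + c ^ q = 0), g = uu hF c hc}
  one_mem' := ⟨0, skew_zero hF, (uu_zero hF).symm⟩
  mul_mem' := by
    rintro _ _ ⟨a, ha, rfl⟩ ⟨b, hb, rfl⟩
    exact ⟨a + b, skew_add hF ha hb, uu_mul hF ha hb⟩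
  inv_mem' := by
    rintro _ ⟨a, ha, rfl⟩
    exact ⟨-a, skew_neg hF ha, uu_inv hF ha⟩

namespace PreData

variable (D : PreData G F q)

/-- The root group. -/
noncomputable def P0 : Subgroup G := (rootU D.hF).map D.π

/-- The torus. -/
noncomputable def H : Subgroup G := (D.π.comp (dd D.hF)).range

/-- The Borel subgroup of the centraliser. -/
noncomputable def NB : Subgroup G := (upperSubgroup D.hF).map D.π

/-- The image of the scalars. -/
noncomputable def ZC : Subgroup G :=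
  ((powMonoidHom (q + 1) : Fˣ →* Fˣ).ker.map (dd D.hF)).map D.π

/-- The swap. -/
noncomputable def w : G := D.π (wn D.hF)

include D

theorem q_ge : 3 ≤ q := by
  have h := two_le_q D.hF
  obtain ⟨k, hk⟩ := D.hodd
  omega

theorem two_ne : (2 : F) ≠ 0 := by
  obtain ⟨p, m, hp, hchar, hqp, hm⟩ := exists_prime_pow D.hF
  intro h
  have h' : ((2 : ℕ) : F) = 0 := by exact_mod_cast h
  have hp2 : p = 2 :=
    (Nat.prime_dvd_prime_iff_eq hp Nat.prime_two).1 ((CharP.cast_eq_zero_iff F p 2).1 h')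
  have := D.hodd
  rw [hqp, hp2, Nat.odd_pow_iff (by omega)] at this
  exact absurd this (by decide)

theorem neg_one_ne : (-1 : F) ≠ 1 := fun h => D.two_ne (by linear_combination -h)

theorem negOne_ne : negOne D.hF ≠ (1 : U2 F q) := fun h => by
  have := congrArg e00 h
  rw [(negOne_entries D.hF).1, e00_one] at this
  exact D.neg_one_ne this

theorem negOne_sq : negOne D.hF * negOne D.hF = (1 : U2 F q) := by
  rw [negOne, ← map_mul]
  norm_num

theorem negOne_not_mem : negOne D.hF ∉ D.π.ker := fun h => by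
  have h2 : orderOf (⟨_, h⟩ : D.π.ker) = 2 := by
    rw [Subgroup.orderOf_mk]
    exact orderOf_eq_prime (by rw [sq]; exact D.negOne_sq) D.negOne_ne
  refine Nat.not_even_iff_odd.2 D.ker_odd (even_iff_two_dvd.2 ?_)
  exact (dvd_of_eq h2.symm).trans (orderOf_dvd_natCard _)

theorem orderOf_t : orderOf D.t = 2 := by
  refine orderOf_eq_prime ?_ fun h => D.negOne_not_mem ?_
  · rw [sq, ← D.π_negOne, ← map_mul, D.negOne_sq, map_one]
  · rw [MonoidHom.mem_ker, D.π_negOne, h]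

theorem mem_C (g : U2 F q) : D.π g ∈ centralizer ({D.t} : Set G) := D.range_eq ▸ ⟨g, rfl⟩

theorem comm_t (g : U2 F q) : Commute (D.π g) D.t := mem_centralizer_singleton_iff.1 (D.mem_C g)

theorem exists_of_comm {x : G} (h : Commute x D.t) : ∃ g, D.π g = x := by
  have : x ∈ D.π.range := by
    rw [D.range_eq]; exact mem_centralizer_singleton_iff.2 h
  exact this

theorem ker_eq_dd {g : U2 F q} (hg : g ∈ D.π.ker) :
    ∃ α : Fˣ, α ^ (q + 1) = 1 ∧ g = dd D.hF α := by
  obtain ⟨a, b, c⟩ := D.ker_scalar g hg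
  obtain ⟨hp, hu⟩ := e00_eq_zero_or D.hF g b
  obtain ⟨-, -, h3, -⟩ := eqs D.hF g
  rw [b, zero_mul, add_zero, ← c] at h3
  refine ⟨Units.mk0 (e00 g) hp, Units.ext (by simpa [pow_succ'] using h3), ?_⟩
  obtain ⟨d0, d1, d2, d3⟩ := dd_entries D.hF (q := q) (Units.mk0 (e00 g) hp)
  refine ext4 ?_ ?_ ?_ ?_
  · rw [d0]; rfl
  · rw [d1, a]
  · rw [d2, b]
  · rw [d3, ← c, Units.val_mk0]
    exact eq_inv_of_mul_eq_one_left h3

theorem ker_eq_one {g : U2 F q} (hg : g ∈ D.π.ker) (hd : det2 g = 1) : g = 1 := by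
  obtain ⟨a, b, c⟩ := D.ker_scalar g hg
  rw [det2, a, zero_mul, sub_zero, ← c] at hd
  have h : (e00 g - 1) * (e00 g + 1) = 0 := by linear_combination hd
  rcases mul_eq_zero.1 h with h | h
  · have := sub_eq_zero.1 h
    apply ext4 <;> simp [a, b, ← c, this]
  · have := eq_neg_of_add_eq_zero_left h
    refine absurd (?_ : g = negOne D.hF) fun h' => D.negOne_not_mem (h' ▸ hg)
    obtain ⟨n0, n1, n2, n3⟩ := negOne_entries D.hF (q := q)
    apply ext4 <;> simp [a, b, ← c, this, n0, n1, n2, n3]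

theorem eq_of_det {g g' : U2 F q} (h : D.π g = D.π g') (hd : det2 g = det2 g') : g = g' := by
  refine (inv_mul_eq_one.1 (D.ker_eq_one (g := g'⁻¹ * g) ?_ ?_)).symm
  · rw [MonoidHom.mem_ker, map_mul, h, ← map_mul, inv_mul_cancel, map_one]
  · rw [det2_mul, det2_inv D.hF, hd, inv_mul_cancel₀ (det2_ne_zero D.hF g')]

theorem comm_lift {g g' : U2 F q} (h : Commute (D.π g) (D.π g')) : g * g' = g' * g :=
  D.eq_of_det (by rw [map_mul, map_mul]; exact h.eq) (by rw [det2_mul, det2_mul, mul_comm])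

theorem d_dvd : Nat.card D.π.ker ∣ q + 1 := by
  have hle : D.π.ker ≤ ((powMonoidHom (q + 1) : Fˣ →* Fˣ).ker).map (dd D.hF) := fun g hg => by
    obtain ⟨α, hα, rfl⟩ := D.ker_eq_dd hg
    exact ⟨α, hα, rfl⟩
  have := Subgroup.card_dvd_of_le hle
  rwa [card_map_of_injective (dd_injective D.hF), IsCyclic.card_powMonoidHom_ker, card_units D.hF,
    Nat.gcd_eq_right (q_succ_dvd q)] at this

theorem card_C :
    Nat.card (centralizer ({D.t} : Set G)) * Nat.card D.π.ker = q * ((q + 1) * (q ^ 2 - 1)) := by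
  rw [← card_U2 D.hF D.two_ne, ← D.π.ker.card_mul_index, Subgroup.index_ker, D.range_eq, mul_comm]

theorem H_cyclic : IsCyclic D.H :=
  isCyclic_of_surjective _ (D.π.comp (dd D.hF)).rangeRestrict_surjective

theorem dd_mem (α : Fˣ) : D.π (dd D.hF α) ∈ D.H := ⟨α, rfl⟩

theorem mem_H {x : G} : x ∈ D.H ↔ ∃ α : Fˣ, D.π (dd D.hF α) = x := Iff.rfl

theorem card_H : Nat.card D.H * Nat.card D.π.ker = q ^ 2 - 1 := by
  rw [← card_units D.hF, ← (D.π.comp (dd D.hF)).ker.card_mul_index, Subgroup.index_ker, mul_comm]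
  congr 1
  refine Nat.card_congr
    { toFun := fun g => ⟨(D.ker_eq_dd g.2).choose, ?_⟩
      invFun := fun α => ⟨dd D.hF α.1, α.2⟩
      left_inv := fun g => Subtype.ext (D.ker_eq_dd g.2).choose_spec.2.symm
      right_inv := fun α => Subtype.ext (dd_injective D.hF
        (D.ker_eq_dd (g := dd D.hF α.1) α.2).choose_spec.2.symm) }
  rw [MonoidHom.mem_ker, MonoidHom.comp_apply, ← (D.ker_eq_dd g.2).choose_spec.2]
  exact g.2

theorem t_mem_H : D.t ∈ D.H := ⟨-1, D.π_negOne⟩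

theorem mem_P0 {x : G} : x ∈ D.P0 ↔ ∃ (c : F) (hc : c + c ^ q = 0), D.π (uu D.hF c hc) = x := by
  constructor
  · rintro ⟨g, ⟨c, hc, rfl⟩, rfl⟩
    exact ⟨c, hc, rfl⟩
  · rintro ⟨c, hc, rfl⟩
    exact ⟨_, ⟨c, hc, rfl⟩, rfl⟩

theorem uu_mem (c : F) (hc : c + c ^ q = 0) : D.π (uu D.hF c hc) ∈ D.P0 :=
  D.mem_P0.2 ⟨c, hc, rfl⟩

theorem card_P0 : Nat.card D.P0 = q := by
  refine Eq.trans ?_ (card_trace_zero D.hF)
  refine (Nat.card_congr (Equiv.ofBijective
    (fun c : {x : F // x + x ^ q = 0} => (⟨D.π (uu D.hF c.1 c.2), D.uu_mem _ _⟩ : D.P0))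
    ⟨fun a b h => Subtype.ext ?_, fun x => ?_⟩)).symm
  · refine uu_inj D.hF a.2 b.2 (D.eq_of_det (congrArg Subtype.val h) ?_)
    rw [det2_uu, det2_uu]
  · obtain ⟨c, hc, h⟩ := D.mem_P0.1 x.2
    exact ⟨⟨c, hc⟩, Subtype.ext h⟩

theorem P0_le_C : D.P0 ≤ centralizer ({D.t} : Set G) := by
  rintro _ ⟨g, -, rfl⟩
  exact D.mem_C g

theorem H_le_C : D.H ≤ centralizer ({D.t} : Set G) := by
  rintro _ ⟨α, rfl⟩
  exact D.mem_C _

theorem mem_NB {x : G} :
    x ∈ D.NB ↔ ∃ (c : F) (hc : c + c ^ q = 0) (α : Fˣ),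
      D.π (uu D.hF c hc) * D.π (dd D.hF α) = x := by
  constructor
  · rintro ⟨g, hg, rfl⟩
    obtain ⟨c, hc, α, rfl⟩ := upper D.hF g hg
    exact ⟨c, hc, α, (map_mul _ _ _).symm⟩
  · rintro ⟨c, hc, α, rfl⟩
    refine ⟨uu D.hF c hc * dd D.hF α, ?_, map_mul _ _ _⟩
    show e10 _ = 0
    simp

theorem NB_le_C : D.NB ≤ centralizer ({D.t} : Set G) := by
  rintro _ ⟨g, -, rfl⟩
  exact D.mem_C g

theorem P0_le_NB : D.P0 ≤ D.NB := by
  rintro _ ⟨g, ⟨c, hc, rfl⟩, rfl⟩
  exact ⟨_, (uu_entries D.hF c hc).2.2.1, rfl⟩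

theorem H_le_NB : D.H ≤ D.NB := by
  rintro _ ⟨α, rfl⟩
  exact ⟨_, (dd_entries D.hF α).2.2.1, rfl⟩

theorem dd_normalizes (α : Fˣ) {x : G} (hx : x ∈ D.P0) :
    D.π (dd D.hF α) * x * (D.π (dd D.hF α))⁻¹ ∈ D.P0 := by
  obtain ⟨c, hc, rfl⟩ := D.mem_P0.1 hx
  rw [← map_inv, ← map_mul, ← map_mul, dd_conj_uu]
  exact D.uu_mem _ _

theorem P0_comm {x y : G} (hx : x ∈ D.P0) (hy : y ∈ D.P0) : Commute x y := by
  obtain ⟨a, ha, rfl⟩ := D.mem_P0.1 hx
  obtain ⟨b, hb, rfl⟩ := D.mem_P0.1 hy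
  show _ * _ = _
  rw [← map_mul, ← map_mul, uu_mul, uu_mul]
  congr 1
  apply ext4 <;> simp [add_comm]

end PreData

end Cfsg.Agent.U3Recog
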