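import Cfsg.Agent.Lib.U3Recog.Points

/-!
# The regular subgroup and the torus (owner: helper40)

* `Frame` : the regular normal subgroup `P` of the stabiliser, with its properties
* `Frame.invert` : `t` inverts `P / P0`;  `Frame.exists_inverted` : representatives inverted by `t`
* `Frame.semiregular` : the torus is semiregular outside `P0`
* `Frame.faithful` : the action is faithful
-/

set_option autoImplicit false
set_option linter.unusedSectionVars false
set_option linter.style.haveILetI false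

namespace Cfsg.Agent.U3Recog

open Subgroup Cfsg.Agent.Unitary
open scoped Pointwise

variable {G : Type*} [Group G] [Finite G] {F : Type*} [Field F] [Fintype F] {q : ℕ}

/-- The centraliser data with the regular normal subgroup. -/
structure Frame (G : Type*) [Group G] [Finite G] (F : Type*) [Field F] [Fintype F] (q : ℕ)
    extends Data G F q where
  P : Subgroup G
  P0_le : toData.P0 ≤ P
  P_le_CP : P ≤ toData.CP
  B_normalizes : toData.B ≤ normalizer (P : Set G)
  card_P : Nat.card P = q ^ 3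

theorem exists_frame (D : Data G F q) : ∃ W : Frame G F q, W.toData = D := by
  obtain ⟨P, h1, h2, h3, h4⟩ := D.exists_P
  exact ⟨⟨D, P, h1, h2, h3, h4⟩, rfl⟩

namespace Frame

variable (W : Frame G F q)
include W

theorem P_le_B : W.P ≤ W.toData.B := W.P_le_CP.trans W.toData.CP_le_B

theorem P_oo {x : G} (hx : x ∈ W.P) : x • W.toData.oo = W.toData.oo := W.toData.smul_oo_iff.2 (W.P_le_B hx)

theorem P_conj {b x : G} (hb : b ∈ W.toData.B) (hx : x ∈ W.P) : b * x * b⁻¹ ∈ W.P :=
  (mem_normalizer_iff.1 (W.B_normalizes hb) x).1 hx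

theorem coprime_q_H : q.Coprime (Nat.card W.toData.H) := by
  obtain ⟨p, n, hp, -, hqp, hn⟩ := exists_prime_pow W.toData.hF
  have := (W.toData.coprime_p_H hp hqp hn).pow_left n
  rwa [← hqp] at this

theorem eq_one_of_mem_H {x : G} (hx : x ∈ W.P) (hx' : x ∈ W.toData.H) : x = 1 := by
  rw [← orderOf_eq_one_iff]
  refine Nat.eq_one_of_dvd_coprimes (Nat.Coprime.pow_left 3 W.coprime_q_H) ?_ ?_
  · rw [← Subgroup.orderOf_mk x hx]
    exact (_root_.orderOf_dvd_natCard _).trans (dvd_of_eq W.card_P)
  · rw [← Subgroup.orderOf_mk x hx']; exact orderOf_dvd_natCard _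

theorem inj_zero {x y : G} (hx : x ∈ W.P) (hy : y ∈ W.P) (h : x • W.toData.zero = y • W.toData.zero) : x = y := by
  have hh : y⁻¹ * x ∈ W.toData.H := W.toData.stab_two (W.P_oo (W.P.mul_mem (W.P.inv_mem hy) hx))
    (by rw [mul_smul, h, inv_smul_smul])
  exact (inv_mul_eq_one.1 (W.eq_one_of_mem_H (W.P.mul_mem (W.P.inv_mem hy) hx) hh)).symm

theorem zero_ne {x : G} (hx : x ∈ W.P) : x • W.toData.zero ≠ W.toData.oo := fun h =>
  W.toData.zero_ne_oo (MulAction.injective x (h.trans (W.P_oo hx).symm))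

theorem exists_pt {y : W.toData.Pt} (hy : y ≠ W.toData.oo) : ∃ x ∈ W.P, x • W.toData.zero = y := by
  have hb : Function.Bijective (fun x : W.P =>
      (⟨(x : G) • W.toData.zero, W.zero_ne x.2⟩ : {z : W.toData.Pt // z ≠ W.toData.oo})) :=
    (Nat.bijective_iff_injective_and_card _).2
      ⟨fun a b h => Subtype.ext (W.inj_zero a.2 b.2 (congrArg Subtype.val h)), by
        rw [W.card_P, W.toData.card_ne_oo, W.toData.card_points, Nat.add_sub_cancel]⟩
  obtain ⟨x, hx⟩ := hb.2 ⟨y, hy⟩
  exact ⟨x, x.2, congrArg Subtype.val hx⟩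

theorem P_inf_C {x : G} (hx : x ∈ W.P) (hx' : Commute x W.toData.t) : x ∈ W.toData.P0 := by
  obtain ⟨u, hu, z, hz, rfl⟩ := W.toData.CP_inf_C (W.P_le_CP hx) (mem_centralizer_singleton_iff.2 hx')
  have : z ∈ W.P := by simpa using W.P.mul_mem (W.P.inv_mem (W.P0_le hu)) hx
  rwa [W.eq_one_of_mem_H this (W.toData.ZC_le_H hz), mul_one]

theorem P0_central {c x : G} (hc : c ∈ W.toData.P0) (hx : x ∈ W.P) : Commute c x :=
  (W.toData.mem_CP.1 (W.P_le_CP hx) c hc).symm

theorem t_conj {x : G} (hx : x ∈ W.P) : W.toData.t * x * W.toData.t ∈ W.P := by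
  have := W.P_conj W.toData.t_mem_B hx
  rwa [Involution.inv_eq W.toData.orderOf_t] at this

theorem t_mul_t (z : G) : W.toData.t * (W.toData.t * z) = z := by
  rw [← mul_assoc, Involution.mul_self W.toData.orderOf_t, one_mul]

theorem eq_one_of_sq {c : G} (hc : c ∈ W.toData.P0) (h : c * c = 1) : c = 1 := by
  rw [← orderOf_eq_one_iff]
  refine Nat.eq_one_of_dvd_coprimes W.toData.coprime_q_two
    (orderOf_dvd_of_pow_eq_one (by rwa [sq])) ?_
  rw [← Subgroup.orderOf_mk c hc]
  exact (_root_.orderOf_dvd_natCard _).trans (dvd_of_eq W.toData.card_P0)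

/-- Representatives of the cosets of the root group inverted by `t`. -/
theorem exists_inverted {x : G} (hx : x ∈ W.P) :
    ∃ y ∈ W.P, W.toData.t * y * W.toData.t = y⁻¹ ∧ ∃ c ∈ W.toData.P0, x = y * c := by
  classical
  haveI := Fintype.ofFinite G
  let I := {y : G // y ∈ W.P ∧ W.toData.t * y * W.toData.t = y⁻¹}
  let β : W.P → I := fun z => ⟨(z : G)⁻¹ * (W.toData.t * z * W.toData.t), W.P.mul_mem (W.P.inv_mem z.2)
      (W.t_conj z.2), by
    rw [mul_inv_rev, inv_inv]
    simp only [mul_assoc, mul_inv_rev, Involution.inv_eq W.toData.orderOf_t]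
    rw [Involution.mul_self W.toData.orderOf_t, mul_one]⟩
  -- the map has fibres of size at most `q`
  have hfib : Nat.card W.P ≤ Nat.card I * Nat.card W.toData.P0 := by
    have key : ∀ a b : W.P, β a = β b → (b : G) * (a : G)⁻¹ ∈ W.toData.P0 := by
      intro a b h
      have h' : (a : G)⁻¹ * (W.toData.t * a * W.toData.t) = (b : G)⁻¹ * (W.toData.t * b * W.toData.t) := congrArg Subtype.val h
      refine W.P_inf_C (W.P.mul_mem b.2 (W.P.inv_mem a.2)) ?_
      have h2 : (b : G) * (a : G)⁻¹ = W.toData.t * ((b : G) * (a : G)⁻¹) * W.toData.t := by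
        calc (b : G) * (a : G)⁻¹
            = b * ((a : G)⁻¹ * (W.toData.t * a * W.toData.t)) * (W.toData.t * a * W.toData.t)⁻¹ := by group
          _ = (W.toData.t * b * W.toData.t) * (W.toData.t * a * W.toData.t)⁻¹ := by rw [h']; group
          _ = _ := by
              simp only [mul_inv_rev, Involution.inv_eq W.toData.orderOf_t, mul_assoc]
              rw [W.t_mul_t]
      show _ * _ = _
      nth_rw 1 [h2]
      rw [mul_assoc _ W.toData.t W.toData.t, Involution.mul_self W.toData.orderOf_t, mul_one]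
    let r : I → W.P := Function.invFun β
    rw [← Nat.card_prod]
    refine Nat.card_le_card_of_injective
      (fun z : W.P => (β z, (⟨(r (β z) : G) * (z : G)⁻¹, key z (r (β z))
        (Function.invFun_eq (f := β) ⟨z, rfl⟩).symm⟩ : W.toData.P0))) fun a b h => ?_
    have h1 : β a = β b := (Prod.mk.injEq _ _ _ _ ▸ h).1
    have h2 : (r (β a) : G) * (a : G)⁻¹ = (r (β b) : G) * (b : G)⁻¹ :=
      congrArg (fun p : I × W.toData.P0 => (p.2 : G)) h
    rw [h1] at h2
    exact Subtype.ext (inv_injective (mul_left_cancel h2))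
  -- products with the root group are distinct
  have hinj : Function.Injective (fun z : I × W.toData.P0 =>
      (⟨z.1.1 * z.2, W.P.mul_mem z.1.2.1 (W.P0_le z.2.2)⟩ : W.P)) := by
    rintro ⟨a, c⟩ ⟨b, d⟩ h
    have h : a.1 * (c : G) = b.1 * d := congrArg Subtype.val h
    have hk : (c : G) * (d : G)⁻¹ ∈ W.toData.P0 := W.toData.P0.mul_mem c.2 (W.toData.P0.inv_mem d.2)
    set k := (c : G) * (d : G)⁻¹
    have hb : b.1 = a.1 * k := by rw [← mul_assoc, h, mul_inv_cancel_right]
    have hkdef : k = (c : G) * (d : G)⁻¹ := rfl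
    clear_value k
    have hkt : Commute k W.toData.t := mem_centralizer_singleton_iff.1 (W.toData.P0_le_C hk)
    have hcomm : Commute k a.1 := W.P0_central hk a.2.1
    have e := b.2.2
    rw [hb] at e
    have e' : W.toData.t * (a.1 * k) * W.toData.t = a.1⁻¹ * k := by
      rw [← a.2.2, mul_assoc, mul_assoc, mul_assoc, mul_assoc, hkt.eq]
    rw [e', mul_inv_rev, hcomm.inv_left.inv_right.eq] at e
    have hk1 : k = 1 := W.eq_one_of_sq hk (by
      have := mul_left_cancel e
      calc k * k = k * k⁻¹ := by rw [← this]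
        _ = 1 := mul_inv_cancel k)
    rw [hk1, mul_one] at hb
    have hcd : (c : G) = d := mul_inv_eq_one.1 (hkdef.symm.trans hk1)
    exact Prod.ext (Subtype.ext hb.symm) (Subtype.ext hcd)
  have hbij := (Nat.bijective_iff_injective_and_card _).2 ⟨hinj, le_antisymm
    (Nat.card_le_card_of_injective _ hinj) (by rw [Nat.card_prod]; exact hfib)⟩
  obtain ⟨⟨y, c⟩, hy⟩ := hbij.2 ⟨x, hx⟩
  exact ⟨y.1, y.2.1, y.2.2, c, c.2, (congrArg Subtype.val hy).symm⟩

/-- `t` inverts `P` modulo the root group. -/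
theorem invert {x : G} (hx : x ∈ W.P) : W.toData.t * x * W.toData.t * x ∈ W.toData.P0 := by
  obtain ⟨y, hy, hyt, c, hc, rfl⟩ := W.exists_inverted hx
  have hct : Commute c W.toData.t := mem_centralizer_singleton_iff.1 (W.toData.P0_le_C hc)
  have hcy : Commute c y := W.P0_central hc hy
  have e : W.toData.t * (y * c) * W.toData.t = y⁻¹ * c := by
    rw [← hyt, mul_assoc, mul_assoc, mul_assoc, mul_assoc, hct.eq]
  rw [e, ← mul_assoc, mul_assoc y⁻¹ c y, hcy.eq, inv_mul_cancel_left]
  exact W.toData.P0.mul_mem hc hc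

/-- The action is faithful. -/
theorem faithful [IsSimpleGroup G] {g : G} (hg : ∀ y : W.toData.Pt, g • y = y) : g = 1 := by
  have h : g ∈ W.toData.B.normalCore := by
    rw [Subgroup.normalCore_eq_ker, MonoidHom.mem_ker]
    exact Equiv.ext hg
  rcases IsSimpleGroup.eq_bot_or_eq_top_of_normal W.toData.B.normalCore W.toData.B.normalCore_normal with e | e
  · rwa [e, mem_bot] at h
  · exfalso
    have hB : W.toData.B = ⊤ := top_le_iff.1 (e ▸ W.toData.B.normalCore_le)
    exact W.toData.zero_ne_oo (W.toData.smul_oo_iff.2 (hB ▸ mem_top W.toData.w))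

/-- A torus element outside the scalars commutes with nothing outside the root group. -/
theorem torus_free {α : Fˣ} (hα : α ^ (q + 1) ≠ 1) {x : G} (hx : x ∈ W.P)
    (hc : Commute x (W.toData.π (dd W.toData.hF α))) : x ∈ W.toData.P0 := by
  set h := W.toData.π (dd W.toData.hF α) with hh
  have hhH : h ∈ W.toData.H := W.toData.dd_mem α
  rcases eq_or_ne x 1 with rfl | hx1
  · exact W.toData.P0.one_mem
  exfalso
  -- conjugation by `w`
  set h' := W.toData.π (dd W.toData.hF (α ^ q)⁻¹) with hh'
  have hwh : W.toData.w * h * W.toData.w = h' := W.toData.w_dd α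
  have hh'H : h' ∈ W.toData.H := W.toData.dd_mem _
  have hh'q : h' = (h ^ q)⁻¹ := by rw [hh', map_inv, map_inv, map_pow, map_pow]
  obtain ⟨j, hj⟩ : ∃ j : ℕ, (h ^ q) ^ j = h := exists_pow_eq_self_of_coprime
    (W.coprime_q_H.coprime_dvd_right (by
      rw [← Subgroup.orderOf_mk h hhH]; exact orderOf_dvd_natCard _))
  have comm_h : ∀ {g : G}, Commute g h' → Commute g h := fun {g} hg => by
    rw [← hj]
    have : Commute g (h ^ q) := by
      have := hg.inv_right
      rwa [hh'q, inv_inv] at this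
    exact this.pow_right j
  have comm_h' : ∀ {g : G}, Commute g h → Commute g h' := fun {g} hg => by
    rw [hh'q]; exact (hg.pow_right q).inv_right
  have conj_w : ∀ {g : G}, Commute g h → Commute (W.toData.w * g * W.toData.w) h := fun {g} hg => by
    refine comm_h ?_
    show _ = _
    rw [← hwh]
    calc W.toData.w * g * W.toData.w * (W.toData.w * h * W.toData.w) = W.toData.w * (g * h) * W.toData.w := by
          simp only [mul_assoc]; rw [← mul_assoc W.toData.w W.toData.w, W.toData.w_mul_w, one_mul]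
      _ = W.toData.w * (h * g) * W.toData.w := by rw [hg.eq]
      _ = _ := by simp only [mul_assoc]; rw [← mul_assoc W.toData.w W.toData.w, W.toData.w_mul_w, one_mul]
  have wPw_zero : ∀ {g : G}, g ∈ W.P → (W.toData.w * g * W.toData.w) • W.toData.zero = W.toData.zero := fun {g} hg => by
    rw [mul_smul, mul_smul, W.toData.w_zero, W.P_oo hg]; rfl
  -- fixed points of `h` are reached from `zero` by commuting elements
  have reach : ∀ {y : W.toData.Pt}, y ≠ W.toData.oo → h • y = y → ∃ z ∈ W.P, Commute z h ∧ z • W.toData.zero = y := by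
    intro y hy hfix
    obtain ⟨z, hz, hzy⟩ := W.exists_pt hy
    refine ⟨z, hz, ?_, hzy⟩
    have hz' := W.P_conj (W.toData.NB_le_B (W.toData.H_le_NB hhH)) hz
    have e : h * z * h⁻¹ = z := W.inj_zero hz' hz (by
      rw [mul_smul, mul_smul, W.toData.H_zero (W.toData.H.inv_mem hhH), hzy, hfix])
    exact (mul_inv_eq_iff_eq_mul.1 e).symm
  have fix_of_comm : ∀ {g : G}, Commute g h → ∀ {y : W.toData.Pt}, h • y = y → h • g • y = g • y :=
    fun {g} hg {y} hy => by rw [← mul_smul, ← hg.eq, mul_smul, hy]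
  -- an element sending `oo` to `zero`
  set x' := W.toData.w * x * W.toData.w
  have hx'c : Commute x' h := conj_w hc
  have hy0 : x' • W.toData.oo ≠ W.toData.oo := by
    intro e
    apply hx1
    refine W.inj_zero hx W.P.one_mem ?_
    rw [one_smul]
    have := congrArg (fun y : W.toData.Pt => W.toData.w • y) e
    simp only [x', mul_smul] at this
    rw [← mul_smul W.toData.w W.toData.w, W.toData.w_mul_w, one_smul] at this
    exact this
  obtain ⟨z, hz, hzc, hzy⟩ := reach hy0 (fix_of_comm hx'c (W.toData.H_oo hhH))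
  set g1 := z⁻¹ * x'
  have hg1c : Commute g1 h := hzc.inv_left.mul_left hx'c
  have hg1 : g1 • W.toData.oo = W.toData.zero := by rw [mul_smul, ← hzy, inv_smul_smul]
  -- correct it to a swap
  obtain ⟨g, hgc, hg0, hgo⟩ : ∃ g : G, Commute g h ∧ g • W.toData.oo = W.toData.zero ∧ g • W.toData.zero = W.toData.oo := by
    by_cases hv : g1 • W.toData.zero = W.toData.oo
    · exact ⟨g1, hg1c, hg1, hv⟩
    set v := g1 • W.toData.zero
    have hv0 : v ≠ W.toData.zero := fun e => W.toData.zero_ne_oo
      (MulAction.injective g1 (e.trans hg1.symm))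
    have hvfix : h • v = v := fix_of_comm hg1c (W.toData.H_zero hhH)
    have hwv : W.toData.w • v ≠ W.toData.oo := fun e => hv0 (by
      have := congrArg (fun y : W.toData.Pt => W.toData.w • y) e
      rwa [← mul_smul, W.toData.w_mul_w, one_smul] at this)
    have hwfix : h • W.toData.w • v = W.toData.w • v := by
      have h1 : h' • W.toData.w • v = W.toData.w • v := by
        rw [← hwh, mul_smul, mul_smul, ← mul_smul W.toData.w W.toData.w, W.toData.w_mul_w, one_smul, hvfix]
      rw [← hj]
      have h2 : (h ^ q) • W.toData.w • v = W.toData.w • v := by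
        rw [hh'q] at h1
        exact (inv_smul_eq_iff.1 h1).symm
      exact MulAction.mem_stabilizer_iff.1
        (pow_mem (MulAction.mem_stabilizer_iff.2 h2 : h ^ q ∈ MulAction.stabilizer G _) j)
    obtain ⟨u, hu, huc, huy⟩ := reach hwv hwfix
    have hk : (W.toData.w * u * W.toData.w) • W.toData.oo = v := by
      rw [mul_smul, mul_smul, ← Data.zero, huy, ← mul_smul, W.toData.w_mul_w, one_smul]
    refine ⟨(W.toData.w * u * W.toData.w)⁻¹ * g1, (conj_w huc).inv_left.mul_left hg1c, ?_, ?_⟩
    · rw [mul_smul, hg1, inv_smul_eq_iff]; exact (wPw_zero hu).symm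
    · rw [mul_smul, inv_smul_eq_iff, hk]
  have hη : W.toData.w * g ∈ W.toData.H := W.toData.stab_two (by rw [mul_smul, hg0, W.toData.w_zero])
    (by rw [mul_smul, hgo]; rfl)
  have hwc : Commute W.toData.w h := by
    have : Commute (W.toData.w * g) h := congrArg Subtype.val
      ((W.toData.H_cyclic.isMulCommutative).is_comm.comm ⟨W.toData.w * g, hη⟩ ⟨h, hhH⟩)
    have e := this.mul_left hgc.inv_left
    rwa [mul_inv_cancel_right] at e
  have hk : α ^ q * α = 1 ∨ False := by
    left
    have hker : dd W.toData.hF (α ^ q * α) ∈ W.toData.π.ker := by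
      rw [MonoidHom.mem_ker, map_mul, map_mul, map_pow, map_pow, ← hh]
      have : h' = h := by rw [← hwh, hwc.eq, mul_assoc, W.toData.w_mul_w, mul_one]
      rw [hh'q] at this
      nth_rw 2 [← this]
      rw [mul_inv_cancel]
    obtain ⟨δ, hδ, hδe⟩ := W.toData.ker_eq_dd hker
    have e := dd_injective W.toData.hF hδe
    rw [← pow_succ] at e ⊢
    -- the norm is fixed and of norm one
    have hfix : (δ : F) ^ q = δ := by
      rw [← e, Units.val_pow_eq_pow_val, pow_q_succ_fixed W.toData.hF]
    have hsq : ((δ : F) - 1) * ((δ : F) + 1) = 0 := by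
      have h1 : (δ : F) ^ q * δ = 1 := by
        rw [← pow_succ, ← Units.val_pow_eq_pow_val, hδ, Units.val_one]
      rw [hfix] at h1
      linear_combination h1
    rcases mul_eq_zero.1 hsq with h1 | h1
    · rw [e]; exact Units.ext (sub_eq_zero.1 h1)
    · exfalso
      refine W.toData.negOne_not_mem ?_
      have : δ = -1 := Units.ext (by simpa using eq_neg_of_add_eq_zero_left h1)
      rw [negOne, ← this, ← hδe]
      exact hker
  rcases hk with hk | hk
  · exact hα (by rw [pow_succ]; exact hk)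
  · exact hk

/-- The torus is semiregular outside the root group. -/
theorem semiregular [IsSimpleGroup G] {h x : G} (hh : h ∈ W.toData.H) (hx : x ∈ W.P) (hx0 : x ∉ W.toData.P0)
    (hc : Commute x h) : h = 1 := by
  obtain ⟨α, rfl⟩ := W.toData.mem_H.1 hh
  by_cases hα : α ^ (q + 1) ≠ 1
  · exact absurd (W.torus_free hα hx hc) hx0
  push Not at hα
  obtain ⟨p, n, hp, -, hqp, hn⟩ := exists_prime_pow W.toData.hF
  haveI := Fact.mk hp
  set h := W.toData.π (dd W.toData.hF α) with hhd
  set Q0 : Subgroup G := W.P ⊓ centralizer ({h} : Set G) with hQ0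
  have hP : IsPGroup p W.P := IsPGroup.of_card (n := 3 * n)
    (W.card_P.trans (W.toData.card_cube hqp).symm)
  have hP0Q : W.toData.P0 ≤ Q0 := fun c hc' => ⟨W.P0_le hc', mem_centralizer_singleton_iff.2
    (W.toData.mem_CP.1 (W.toData.ZC_le_CP (W.toData.mem_ZC.2 ⟨α, hα, rfl⟩)) c hc').symm⟩
  have hAnorm : ∀ A : Subgroup G, A ≤ W.toData.H → A ≤ normalizer (Q0 : Set G) := by
    intro A hA a ha
    have key : ∀ b ∈ W.toData.H, ∀ y ∈ Q0, b * y * b⁻¹ ∈ Q0 := by
      intro b hb y hy
      refine ⟨W.P_conj (W.toData.NB_le_B (W.toData.H_le_NB hb)) hy.1, mem_centralizer_singleton_iff.2 ?_⟩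
      have hbh : Commute b h := congrArg Subtype.val
        ((W.toData.H_cyclic.isMulCommutative).is_comm.comm ⟨b, hb⟩ ⟨h, hh⟩)
      have hyh : Commute y h := mem_centralizer_singleton_iff.1 hy.2
      exact (hbh.mul_left hyh).mul_left hbh.inv_left
    refine mem_normalizer_iff.2 fun y => ⟨key a (hA ha) y, fun hy => ?_⟩
    simpa [mul_assoc] using key a⁻¹ (W.toData.H.inv_mem (hA ha)) _ hy
  have hHP : ∀ A : Subgroup G, A ≤ W.toData.H → A ≤ normalizer (W.P : Set G) := fun A hA =>
    hA.trans ((W.toData.H_le_NB.trans W.toData.NB_le_B).trans W.B_normalizes)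
  have hfree : W.P ⊓ centralizer ({W.toData.t} : Set G) ≤ Q0 := fun y hy =>
    hP0Q (W.P_inf_C hy.1 (mem_centralizer_singleton_iff.1 hy.2))
  have hQne : Q0 = W.P := by
    by_contra hne
    have hr : n ≤ 2 ∨ ∃ (A : Subgroup G) (r : ℕ), r.Prime ∧ Nat.card A = r ∧ r ≠ p ∧
        (∀ i, r ∣ p ^ i - 1 → n ∣ i) ∧ A ≤ normalizer (W.P : Set G) ∧
          A ≤ normalizer (Q0 : Set G) ∧ W.P ⊓ centralizer (A : Set G) ≤ Q0 := by
      by_cases hn2 : n ≤ 2
      · exact Or.inl hn2
      have hp2 : Odd p := by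
        rcases hp.eq_two_or_odd' with h2 | h2
        · have h3 := W.toData.hodd
          rw [hqp, h2, Nat.odd_pow_iff (by omega)] at h3
          exact absurd h3 (by decide)
        · exact h2
      obtain ⟨r, hr, hr2, hrp, hrd, hr1, -, hord⟩ := exists_prime hp hp2 (n := n) (by omega)
      rw [← hqp] at hrd hr1
      haveI := Fact.mk hr
      obtain ⟨k, hk⟩ := exists_prime_orderOf_dvd_card' (G := W.toData.H) r (by
        have := W.toData.card_H_gcd hr hr1 (e := 1) (by rwa [pow_one])
        rwa [pow_one] at this)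
      obtain ⟨γ, hγ⟩ := W.toData.mem_H.1 k.2
      have hko : orderOf (k : G) = r := by rw [Subgroup.orderOf_coe, hk]
      have hγ1 : γ ^ (q + 1) ≠ 1 := by
        refine W.toData.torus_pow_ne hr hr1 (fun e => ?_) (e := 1) ?_
        · rw [hγ] at e; rw [e, orderOf_one] at hko; exact hr.one_lt.ne hko
        · rw [hγ, pow_one, ← hko, pow_orderOf_eq_one]
      have hle : zpowers (k : G) ≤ W.toData.H := zpowers_le.2 k.2
      refine Or.inr ⟨zpowers (k : G), r, hr, by rw [Nat.card_zpowers, hko], hrp, hord,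
        hHP _ hle, hAnorm _ hle, fun y hy => hP0Q (W.torus_free hγ1 hy.1 ?_)⟩
      rw [hγ]
      exact (mem_centralizer_iff.1 hy.2 k (mem_zpowers _)).symm
    have hs := W.toData.size hp hqp hn hP inf_le_left hne (hHP _ W.toData.R_le_H) (hAnorm _ W.toData.R_le_H)
      hfree hr
    rw [W.card_P] at hs
    have hlt : W.toData.P0 < Q0 := lt_of_le_of_ne hP0Q fun e => hx0 (by
      have : x ∈ Q0 := ⟨hx, mem_centralizer_singleton_iff.2 hc⟩
      rwa [← e] at this)
    have hcard : q < Nat.card Q0 := by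
      refine lt_of_eq_of_lt W.toData.card_P0.symm ?_
      by_contra hle
      push Not at hle
      exact hlt.ne (Subgroup.eq_of_le_of_card_ge hP0Q hle)
    have := W.toData.q_ge
    have h3 : q ^ 2 * q < q ^ 2 * Nat.card Q0 :=
      Nat.mul_lt_mul_of_pos_left hcard (pow_pos (by omega) 2)
    rw [← pow_succ, show (2 + 1) = 3 from rfl] at h3
    change q ^ 2 * Nat.card Q0 ≤ q ^ 3 at hs
    omega
  refine W.faithful fun y => ?_
  rcases eq_or_ne y W.toData.oo with rfl | hy
  · exact W.toData.H_oo hh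
  · obtain ⟨z, hz, rfl⟩ := W.exists_pt hy
    have : Commute z h := mem_centralizer_singleton_iff.1 (hQne.symm ▸ hz : z ∈ Q0).2
    rw [← mul_smul, ← this.eq, mul_smul, W.toData.H_zero hh]

end Frame

end Cfsg.Agent.U3Recog
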