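import Cfsg.Agent.Lib.U3Recog.Coord

/-!
# The law of the regular subgroup (owner: helper40)

* `Chart.master` : the identity given by the Bruhat decomposition of `w * el a b * w`
* `Chart.dlt_eq_zero` : `(el a b)⁻¹ = el (-a) (b ^ q)`
* `Chart.law` : `el a b * el a' b' = el (a + a') (b + b' + 2 * (a ^ q * a'))`
-/

set_option autoImplicit false
set_option linter.unusedSectionVars false
set_option linter.style.haveILetI false

namespace Cfsg.Agent.U3Recog

open Subgroup Cfsg.Agent.Unitary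
open scoped Pointwise

variable {G : Type*} [Group G] [Finite G] {F : Type*} [Field F] [Fintype F] {q : ℕ}

theorem Ok.real (hF : Fintype.card F = q ^ 2) (h2 : (2 : F) ≠ 0) {a b : F} (h : Ok q a b)
    (hb : b ^ q = b) : b = a ^ q * a := by
  rw [Ok, hb, ← two_mul] at h
  exact mul_left_cancel₀ h2 h

theorem Ok.mul (hF : Fintype.card F = q ^ 2) {a b a' b' : F} (h : Ok q a b) (h' : Ok q a' b') :
    Ok q (a + a') (b + b' + 2 * (a ^ q * a')) := by
  rw [Ok] at h h' ⊢
  rw [add_pow_q hF, add_pow_q hF, add_pow_q hF, mul_pow, two_pow_q hF, mul_pow, pow_q_pow_q hF]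
  linear_combination h + h'

theorem law_identity (hF : Fintype.card F = q ^ 2) {a b c : F} (h : Ok q a b) (hb : b ≠ 0)
    (hbc : b + c ≠ 0) :
    (b + c)⁻¹ = b⁻¹ + c / (b ^ q * (b + c)) + 2 * ((a / b) ^ q * (-(a * c) / (b * (b + c)))) := by
  rw [Ok] at h
  have := pow_ne_zero q hb
  have : c + b ≠ 0 := by rwa [add_comm]
  rw [div_pow]
  field_simp
  linear_combination -c * h

namespace Chart

variable (C : Chart G F q) [IsSimpleGroup G]
include C

/-- The second coordinate of the inverse. -/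
noncomputable def bi (a b : F) : F := b ^ q + C.dlt a

/-- The second coordinate of the last factor. -/
noncomputable def bg (a b : F) : F := ((C.bi a b)⁻¹) ^ q + C.dlt (a / C.bi a b)

theorem bi_ok {a b : F} (h : Ok q a b) : Ok q a (C.bi a b) := by
  have := (C.inv_ok h).neg C.hF
  rwa [neg_neg] at this

theorem bg_ok {a b : F} (ha : a ≠ 0) (h : Ok q a b) : Ok q (a / C.bi a b) (C.bg a b) :=
  (((C.bi_ok h).inv C.hF C.two_ne ha).conj C.hF).shift C.hF (C.dlt_skew _)

theorem den_ne {a b c : F} (ha : a ≠ 0) (h : Ok q a b) (hc : c + c ^ q = 0) (hc0 : c ≠ 0) :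
    C.bg a b * c + 1 ≠ 0 := by
  have hb := (C.bi_ok h).ne_zero C.hF C.two_ne ha
  intro e
  refine (C.bg_ok ha h).add_ne_zero C.hF C.two_ne (div_ne_zero ha hb) (skew_inv C.hF hc) ?_
  field_simp
  linear_combination e

/-- The Bruhat decomposition of `w * el a b * w`. -/
theorem exists_eta {a b : F} (ha : a ≠ 0) (h : Ok q a b) :
    ∃ η ∈ C.H, C.w * C.el a b * C.w =
      C.el (a / b) b⁻¹ * η * C.w * C.el (a / C.bi a b) (C.bg a b) := by
  have hb' := (C.bi_ok h).ne_zero C.hF C.two_ne ha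
  have hg := C.bg_ok ha h
  have hY := h.inv C.hF C.two_ne ha
  set g := C.el (a / C.bi a b) (C.bg a b) with hgdef
  set Y := C.el (a / b) b⁻¹ with hYdef
  have hn : Ok q (-(a / C.bi a b)) (C.bi a b)⁻¹ :=
    ((C.bi_ok h).inv C.hF C.two_ne ha).neg C.hF
  have hgi : g⁻¹ = C.el (-(a / C.bi a b)) (C.bi a b)⁻¹ := by
    rw [hgdef, C.el_inv hg]
    congr 1
    simp only [bg]
    rw [add_pow_q C.hF, pow_q_pow_q C.hF]
    linear_combination C.dlt_skew (a / C.bi a b)
  set M := C.w * C.el a b * C.w * g⁻¹ * C.w with hM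
  have h1 : M • C.oo = C.oo := by
    rw [hM, mul_smul, mul_smul, ← Data.zero, hgi, C.el_zero hn, mul_smul, mul_smul,
      C.pp_w (neg_ne_zero.2 (div_ne_zero ha hb')) hn, inv_inv]
    have e : -(a / C.bi a b) / (C.bi a b)⁻¹ = -a := by field_simp
    rw [e, show C.bi a b = b ^ q + C.dlt a from rfl, ← C.el_zero (C.inv_ok h), ← C.el_inv h,
      smul_inv_smul, C.w_zero]
  have h2 : M • C.zero = C.pp (a / b) b⁻¹ := by
    rw [hM, mul_smul, C.w_zero, mul_smul, C.P_oo (C.P.inv_mem (C.el_mem hg)), mul_smul, mul_smul,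
      ← Data.zero, C.el_zero h, C.pp_w ha h]
  refine ⟨Y⁻¹ * M, C.stab_two ?_ ?_, ?_⟩
  · rw [mul_smul, h1, C.P_oo (C.P.inv_mem (C.el_mem hY))]
  · rw [mul_smul, h2, ← C.el_zero hY, inv_smul_smul]
  · rw [mul_inv_cancel_left, hM]
    simp only [mul_assoc]
    rw [← mul_assoc C.w C.w g, C.w_mul_w, one_mul, inv_mul_cancel, mul_one]

/-- The identity given by the decomposition. -/
theorem master {a b : F} (ha : a ≠ 0) (h : Ok q a b) {η : G}
    (hw : C.w * C.el a b * C.w =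
      C.el (a / b) b⁻¹ * η * C.w * C.el (a / C.bi a b) (C.bg a b)) {s ν : F}
    (hs : ∀ a b, Ok q a b → Ok q (s * a) (ν * b) ∧ η • C.pp a b = C.pp (s * a) (ν * b))
    {c : F} (hc : c + c ^ q = 0) (hc0 : c ≠ 0) :
    Ok q (s * a * c / (C.bi a b * (C.bg a b * c + 1))) (ν * c / (C.bg a b * c + 1)) ∧
      C.el (a / (b + c)) (b + c)⁻¹ =
        C.el (a / b) b⁻¹ *
          C.el (s * a * c / (C.bi a b * (C.bg a b * c + 1))) (ν * c / (C.bg a b * c + 1)) := by
  have hb' := (C.bi_ok h).ne_zero C.hF C.two_ne ha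
  have hg := C.bg_ok ha h
  have hY := h.inv C.hF C.two_ne ha
  have hden := C.den_ne ha h hc hc0
  have hci := skew_inv C.hF hc
  have hok1 := (h.shift C.hF hc).inv C.hF C.two_ne ha
  have hA : a / C.bi a b ≠ 0 := div_ne_zero ha hb'
  have hg1 := hg.shift C.hF hci
  have hg2 := hg1.inv C.hF C.two_ne hA
  obtain ⟨hg3, hact⟩ := hs _ _ hg2
  have e1 : s * (a / C.bi a b / (C.bg a b + c⁻¹)) =
      s * a * c / (C.bi a b * (C.bg a b * c + 1)) := by field_simp
  have e2 : ν * (C.bg a b + c⁻¹)⁻¹ = ν * c / (C.bg a b * c + 1) := by field_simp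
  rw [e1, e2] at hg3 hact
  refine ⟨hg3, ?_⟩
  have hL : (C.w * C.el a b * C.w) • C.pp 0 c⁻¹ = C.pp (a / (b + c)) (b + c)⁻¹ := by
    rw [mul_smul, mul_smul, C.pp_w_line hci (inv_ne_zero hc0), inv_inv, C.pp_line hc, ← mul_smul,
      ← mul_smul, mul_assoc, ← C.el_line hc, ← C.el_shift h hc, mul_smul,
      C.el_zero (h.shift C.hF hc), C.pp_w ha (h.shift C.hF hc)]
  have hR : (C.el (a / b) b⁻¹ * η * C.w * C.el (a / C.bi a b) (C.bg a b)) • C.pp 0 c⁻¹ =
      C.el (a / b) b⁻¹ •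
        C.pp (s * a * c / (C.bi a b * (C.bg a b * c + 1))) (ν * c / (C.bg a b * c + 1)) := by
    rw [C.pp_line hci, mul_smul, mul_smul, mul_smul, ← C.el_line hci, ← mul_smul (C.el _ _) (C.el _ _),
      ← C.el_shift hg hci, C.el_zero hg1, C.pp_w hA hg1, hact]
  rw [← hw, hL, ← C.el_zero hg3, ← mul_smul] at hR
  exact (C.eq_el hok1 (C.P.mul_mem (C.el_mem hY) (C.el_mem hg3)) hR.symm).symm

/-- The first coordinates of the two directions are opposite. -/
theorem anti {a b c s1 ν1 s2 ν2 : F} {η1 η2 : G} (ha : a ≠ 0) (h : Ok q a b)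
    (hc : c + c ^ q = 0) (hc0 : c ≠ 0)
    (hw1 : C.w * C.el a b * C.w =
      C.el (a / b) b⁻¹ * η1 * C.w * C.el (a / C.bi a b) (C.bg a b))
    (hs1 : ∀ a b, Ok q a b → Ok q (s1 * a) (ν1 * b) ∧ η1 • C.pp a b = C.pp (s1 * a) (ν1 * b))
    (hw2 : C.w * C.el a (b + c) * C.w =
      C.el (a / (b + c)) (b + c)⁻¹ * η2 * C.w * C.el (a / C.bi a (b + c)) (C.bg a (b + c)))
    (hs2 : ∀ a b, Ok q a b → Ok q (s2 * a) (ν2 * b) ∧ η2 • C.pp a b = C.pp (s2 * a) (ν2 * b)) :
    s2 * C.bi a b * (1 + C.bg a b * c) = s1 * C.bi a (b + c) * (1 - C.bg a (b + c) * c) := by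
  have h' := h.shift C.hF hc
  obtain ⟨ok1, e1⟩ := C.master ha h hw1 hs1 hc hc0
  obtain ⟨ok2, e2⟩ := C.master ha h' hw2 hs2 (skew_neg C.hF hc) (neg_ne_zero.2 hc0)
  rw [add_neg_cancel_right] at e2
  have e3 := (C.el_inj ok2 (C.inv_ok ok1) (by
    rw [← C.el_inv ok1]
    refine (inv_eq_of_mul_eq_one_right ?_).symm
    refine mul_left_cancel (a := C.el (a / b) b⁻¹) ?_
    rw [← mul_assoc, ← e1, ← e2, mul_one])).1
  have n1 := C.den_ne ha h hc hc0
  have n2 := C.den_ne ha h' (skew_neg C.hF hc) (neg_ne_zero.2 hc0)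
  have b1 := (C.bi_ok h).ne_zero C.hF C.two_ne ha
  have b2 := (C.bi_ok h').ne_zero C.hF C.two_ne ha
  rw [← neg_div, div_eq_div_iff (mul_ne_zero b2 n2) (mul_ne_zero b1 n1)] at e3
  refine mul_left_cancel₀ (mul_ne_zero ha hc0) ?_
  linear_combination -e3

/-- An involution of `B` in terms of the image of `zero`. -/
theorem invol_B {j y : G} (hj : j ∈ C.B) (ho : orderOf j = 2) (hy : y ∈ C.P)
    (he : j • C.zero = y • C.zero) : j = y * C.t ∧ C.t * y * C.t = y⁻¹ := by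
  set h := y⁻¹ * j with hh
  have hH : h ∈ C.H := C.stab_two (by rw [mul_smul, C.smul_oo_iff.2 hj, C.P_oo (C.P.inv_mem hy)])
    (by rw [mul_smul, he, inv_smul_smul])
  have hjy : j = y * h := (mul_inv_cancel_left y j).symm
  have hjj : j * j = 1 := Involution.mul_self ho
  have e : y * (h * y * h⁻¹) = (h * h)⁻¹ := by
    rw [eq_inv_iff_mul_eq_one, ← hjj, hjy]; group
  have h1 : y * (h * y * h⁻¹) = 1 := C.eq_one_of_mem_H
    (C.P.mul_mem hy (C.P_conj (C.NB_le_B (C.H_le_NB hH)) hy))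
    (e ▸ C.H.inv_mem (C.H.mul_mem hH hH))
  rw [h1, eq_comm, inv_eq_one] at e
  have ht : h = C.t := by
    by_contra hne
    by_cases h10 : h = 1
    · rw [hjy, h10, mul_one] at ho
      have : 2 ∣ q ^ 3 := by
        rw [← C.card_P, ← ho, ← Subgroup.orderOf_mk y hy]; exact orderOf_dvd_natCard _
      exact Nat.not_even_iff_odd.2 C.hodd.pow (even_iff_two_dvd.2 this)
    · exact hne (eq_of_cyclic C.H_cyclic (orderOf_eq_prime (by rw [sq, e]) h10) C.orderOf_t hH
        C.t_mem_H)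
  refine ⟨by rw [hjy, ht], ?_⟩
  rw [ht, Involution.inv_eq C.orderOf_t] at h1
  exact eq_inv_of_mul_eq_one_right h1

theorem inverted_el {a b : F} (h : Ok q a b) (he : C.t * C.el a b * C.t = (C.el a b)⁻¹) :
    b = b ^ q + C.dlt a := by
  rw [C.el_t h, C.el_inv h] at he
  exact (C.el_inj (h.neg C.hF) (C.inv_ok h) he).2

theorem exists_scale_norm {r : F} (hr : r ^ q = r) (hr0 : r ≠ 0) :
    ∃ η ∈ C.H, ∃ s : F, s ≠ 0 ∧ s ^ q * s = r ∧
      ∀ a b, Ok q a b → Ok q (s * a) (r * b) ∧ η • C.pp a b = C.pp (s * a) (r * b) := by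
  obtain ⟨l, hl⟩ := exists_norm_eq C.hF hr
  have hl0 : l ≠ 0 := fun h => by simp [h] at hl; exact hr0 hl.symm
  set η := C.π (dd C.hF (Units.mk0 l hl0))
  have hη : η ∈ C.H := C.dd_mem _
  obtain ⟨s, ν, hs0, hsν, hs⟩ := C.exists_scale hη
  obtain ⟨c, hc, hc0⟩ := C.exists_skew_ne
  obtain ⟨hok, he⟩ := hs 0 c ((ok_zero C.hF).2 hc)
  rw [mul_zero] at hok he
  have hc' : r * c + (r * c) ^ q = 0 := by rw [mul_pow, hr, ← mul_add, hc, mul_zero]
  have e : η • C.pp 0 c = C.pp 0 (r * c) := by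
    rw [C.pp_line hc, C.pp_line hc', ← mul_smul]
    have : η * C.π (uu C.hF c hc) = C.π (uu C.hF (r * c) hc') * η := by
      rw [← map_mul, ← map_mul]
      congr 1
      obtain ⟨d0, d1, d2, d3⟩ := dd_entries C.hF (q := q) (Units.mk0 l hl0)
      have : l ^ q ≠ 0 := pow_ne_zero _ hl0
      apply ext4 <;> simp [d0, d1, d2, d3]
      rw [← hl, pow_succ]
      field_simp
    rw [this, mul_smul, C.H_zero hη]
  have := (C.pp_inj hok ((ok_zero C.hF).2 hc') (he.symm.trans e)).2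
  have hνr : ν = r := mul_right_cancel₀ hc0 this
  subst hνr
  exact ⟨η, hη, s, hs0, hsν, hs⟩

/-- The value at the real point. -/
theorem unit_pt {a : F} (hn : a ^ q * a = 1) :
    C.bg a 1 = (C.bi a 1)⁻¹ ∧
      (C.dlt a = 0 → C.w * C.el a 1 * C.w = C.el a 1 * C.t * C.w * C.el a 1) := by
  have ha : a ≠ 0 := fun h => by simp [h] at hn
  have h : Ok q a 1 := by rw [← hn]; exact ok_self C.hF a
  have hb := C.bi_ok h
  set X := C.el a 1
  have hwp : C.w • C.pp a 1 = C.pp a 1 := by rw [C.pp_w ha h]; simp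
  set j := C.w * (X⁻¹ * C.w * X) * C.w
  have hi : (X⁻¹ * C.w * X) • C.zero = C.zero := by
    rw [mul_smul, mul_smul, C.el_zero h, hwp, inv_smul_eq_iff, C.el_zero h]
  have hjB : j ∈ C.B := by
    rw [← C.smul_oo_iff, mul_smul, mul_smul, ← Data.zero, hi, C.w_zero]
  have ho : orderOf j = 2 := by
    rw [show j = (C.w * X⁻¹) * C.w * (C.w * X⁻¹)⁻¹ by simp [j, mul_assoc, C.w_inv],
      Involution.orderOf_conj, C.orderOf_w]
  have hn' : Ok q (-(a / C.bi a 1)) (C.bi a 1)⁻¹ := (hb.inv C.hF C.two_ne ha).neg C.hF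
  have hj0 : j • C.zero = C.el (-(a / C.bi a 1)) (C.bi a 1)⁻¹ • C.zero := by
    rw [C.el_zero hn', mul_smul, mul_smul, C.w_zero, mul_smul, mul_smul, C.P_oo (C.el_mem h),
      ← Data.zero, C.el_inv h, C.el_zero (C.inv_ok h), C.pp_w (neg_ne_zero.2 ha) (C.inv_ok h),
      neg_div]
    rfl
  obtain ⟨hjt, hinv⟩ := C.invol_B hjB ho (C.el_mem hn') hj0
  refine ⟨?_, fun hd => ?_⟩
  · have := C.inverted_el hn' hinv
    rw [C.dlt_neg] at this
    exact this.symm
  · have h1 : C.bi a 1 = 1 := by simp [bi, hd]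
    have hy : C.el (-(a / C.bi a 1)) (C.bi a 1)⁻¹ = X⁻¹ := by
      rw [C.el_inv h, h1]; simp [hd]
    rw [hy] at hjt hinv
    rw [inv_inv] at hinv
    have e : C.w * X⁻¹ * C.w * X * C.w = X⁻¹ * C.t := by rw [← hjt]; simp [j, mul_assoc]
    have hXt : X⁻¹ * C.t = C.t * X := by
      calc X⁻¹ * C.t = C.t * C.t * X⁻¹ * C.t := by
            rw [Involution.mul_self C.orderOf_t, one_mul]
        _ = C.t * X := by rw [mul_assoc C.t C.t, mul_assoc C.t (C.t * X⁻¹), hinv]
    have e' : X⁻¹ * C.w * X * C.w = C.w * (C.t * X) := by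
      rw [← hXt, ← e]; simp only [← mul_assoc]; rw [C.w_mul_w, one_mul]
    calc C.w * X * C.w = X * (X⁻¹ * C.w * X * C.w) := by group
      _ = X * (C.w * C.t) * X := by rw [e']; group
      _ = X * C.t * C.w * X := by
          rw [show C.w * C.t = C.t * C.w from (C.comm_t (wn C.hF)).eq, ← mul_assoc X C.t C.w]

/-- The value at the point inverted by `t`. -/
theorem mid_pt {a b : F} (ha : a ≠ 0) (h : Ok q a b) (hb : b = C.bi a b)
    (hn : a ^ q * a = 1) : C.bg a b = (b ^ q * b)⁻¹ := by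
  have hb0 := h.ne_zero C.hF C.two_ne ha
  have hY := h.inv C.hF C.two_ne ha
  have hg := C.bg_ok ha h
  rw [← hb] at hg
  set X := C.el a b
  set Y := C.el (a / b) b⁻¹
  have hXt : C.t * X * C.t = X⁻¹ := by
    rw [C.el_t h, C.el_inv h]; congr 1
  set j := X * C.t
  have hjj : j * j = 1 := by
    calc j * j = X * (C.t * X * C.t) := by simp [j, mul_assoc]
      _ = 1 := by rw [hXt, mul_inv_cancel]
  have hj0 : j • C.zero = C.pp a b := by rw [mul_smul, C.H_zero C.t_mem_H, C.el_zero h]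
  have hj1 : j • C.pp a b = C.zero := by rw [← hj0, ← mul_smul, hjj, one_smul]
  have hjoo : j • C.oo = C.oo := by rw [mul_smul, C.t_fix_oo, C.P_oo (C.el_mem h)]
  set k := C.w * j * C.w
  have hk0 : k • C.zero = C.zero := by rw [mul_smul, mul_smul, C.w_zero, hjoo]; rfl
  have hk1 : k • C.oo = C.pp (a / b) b⁻¹ := by
    rw [mul_smul, mul_smul, ← Data.zero, hj0, C.pp_w ha h]
  have hk2 : k • C.pp (a / b) b⁻¹ = C.oo := by
    rw [← C.pp_w ha h, mul_smul, mul_smul, ← mul_smul C.w C.w, C.w_mul_w, one_smul, hj1, C.w_zero]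
  have hYi : Y⁻¹ = C.el (-(a / b)) (C.bg a b) := by
    rw [C.el_inv hY, bg, ← hb]
  set m := Y⁻¹ * k * Y
  have hm0 : m • C.oo = C.zero := by
    rw [mul_smul, mul_smul, C.P_oo (C.el_mem hY), hk1, inv_smul_eq_iff, C.el_zero hY]
  have hm1 : m • C.zero = C.oo := by
    rw [mul_smul, mul_smul, C.el_zero hY, hk2, C.P_oo (C.P.inv_mem (C.el_mem hY))]
  have hn' := hg.neg C.hF
  have hm2 : m • C.pp (-(a / b)) (C.bg a b) = C.pp (-(a / b)) (C.bg a b) := by
    rw [← C.el_zero hn', ← hYi, mul_smul, mul_smul, smul_inv_smul, hk0]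
  obtain ⟨s, ν, hs0, hsν, hs⟩ := C.exists_scale (η := m * C.w) (C.stab_two
    (by rw [mul_smul, ← Data.zero, hm1]) (by rw [mul_smul, C.w_zero, hm0]))
  set A := -(a / b)
  set β := C.bg a b
  have hA : A ≠ 0 := neg_ne_zero.2 (div_ne_zero ha hb0)
  have hβ : β ≠ 0 := hn'.ne_zero C.hF C.two_ne hA
  have hwok := hn'.inv C.hF C.two_ne hA
  obtain ⟨ok, e⟩ := hs _ _ hwok
  rw [mul_smul, ← C.pp_w hA hn', ← mul_smul C.w C.w, C.w_mul_w, one_smul, hm2] at e
  obtain ⟨ea, eb⟩ := C.pp_inj hn' ok e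
  have hsb : s = β := by
    field_simp at ea
    linear_combination -ea
  have hν : ν = β * β := by
    field_simp at eb
    linear_combination -eb
  rw [hsb, hν] at hsν
  have hreal := mul_right_cancel₀ hβ hsν
  rw [hn'.real C.hF C.two_ne hreal]
  simp only [A, neg_pow_q C.hF, neg_mul_neg, div_pow, div_mul_div_comm, hn, one_div]

/-- The defect vanishes on vectors of norm one. -/
theorem dlt_unit {a : F} (hn : a ^ q * a = 1) : C.dlt a = 0 := by
  have ha : a ≠ 0 := fun h => by simp [h] at hn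
  have h2 := C.two_ne
  by_contra hd0
  set e := C.dlt a / 2 with he
  have hde : C.dlt a = 2 * e := by rw [he]; field_simp
  have he0 : e ≠ 0 := fun h => hd0 (by rw [hde, h, mul_zero])
  have hes : e + e ^ q = 0 := by
    rw [he, div_pow, two_pow_q C.hF, ← add_div, C.dlt_skew, zero_div]
  have h0 : Ok q a 1 := by rw [← hn]; exact ok_self C.hF a
  have h1 := h0.shift C.hF hes
  have h2' := h1.shift C.hF hes
  have hbi0 : C.bi a 1 = 1 + 2 * e := by simp [bi, hde]
  have hbi1 : C.bi a (1 + e) = 1 + e := by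
    simp only [bi, add_pow_q C.hF, one_pow, hde]
    linear_combination hes
  have hbi2 : C.bi a (1 + e + e) = 1 := by
    simp only [bi, add_pow_q C.hF, one_pow, hde]
    linear_combination 2 * hes
  have g0 : C.bg a 1 = (1 + 2 * e)⁻¹ := by rw [(C.unit_pt hn).1, hbi0]
  have g1 : C.bg a (1 + e) = ((1 - e) * (1 + e))⁻¹ := by
    rw [C.mid_pt ha h1 hbi1.symm hn, add_pow_q C.hF, one_pow,
      show e ^ q = -e by linear_combination hes, ← sub_eq_add_neg]
  have g2 : C.bg a (1 + e + e) = 1 + 2 * e := by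
    simp [bg, hbi2, hde]
  obtain ⟨η0, hη0, w0⟩ := C.exists_eta ha h0
  obtain ⟨η1, hη1, w1⟩ := C.exists_eta ha h1
  obtain ⟨η2, hη2, w2⟩ := C.exists_eta ha h2'
  obtain ⟨s0, ν0, s0ne, -, hs0⟩ := C.exists_scale hη0
  obtain ⟨s1, ν1, s1ne, -, hs1⟩ := C.exists_scale hη1
  obtain ⟨s2, ν2, s2ne, -, hs2⟩ := C.exists_scale hη2
  have r01 := C.anti ha h0 hes he0 w0 hs0 w1 hs1
  have r12 := C.anti ha h1 hes he0 w1 hs1 w2 hs2
  have hee : (e + e) + (e + e) ^ q = 0 := skew_add C.hF hes hes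
  have hee0 : e + e ≠ 0 := fun h => he0 ((mul_eq_zero.1 ((two_mul e).trans h)).resolve_left h2)
  have r02 := C.anti ha h0 hee hee0 w0 hs0 (η2 := η2) (s2 := s2) (ν2 := ν2)
    (by rw [← add_assoc]; exact w2) hs2
  rw [show (1 : F) + (e + e) = 1 + e + e from (add_assoc _ _ _).symm] at r02
  rw [hbi0, hbi1, g0, g1] at r01
  rw [hbi1, hbi2, g1, g2] at r12
  rw [hbi0, hbi2, g0, g2] at r02
  have n0 : 1 + 2 * e ≠ 0 := hbi0 ▸ (C.bi_ok h0).ne_zero C.hF C.two_ne ha
  have n1 : 1 + e ≠ 0 := h1.ne_zero C.hF C.two_ne ha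
  have n1' : (1 - e) * (1 + e) ≠ 0 := by
    refine mul_ne_zero ?_ n1
    have := h0.add_ne_zero C.hF C.two_ne ha (skew_neg C.hF hes)
    rwa [← sub_eq_add_neg] at this
  set u := (1 + 2 * e)⁻¹ with hu
  set v := ((1 - e) * (1 + e))⁻¹ with hv
  have hu' : (1 + 2 * e) * u = 1 := mul_inv_cancel₀ n0
  have hv' : (1 - e) * (1 + e) * v = 1 := mul_inv_cancel₀ n1'
  have p1 : s2 * (1 + 2 * e) * (1 + u * e) * (1 + v * e) =
      s0 * ((1 - v * e) * (1 - (1 + 2 * e) * e)) := by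
    refine mul_left_cancel₀ (mul_ne_zero s1ne n1) ?_
    linear_combination (s1 * (1 - (1 + 2 * e) * e)) * r01 + s1 * (1 + 2 * e) * (1 + u * e) * r12
  have p2 : (1 + u * e) * (1 + v * e) * (1 - (1 + 2 * e) * (e + e)) =
      (1 - v * e) * (1 - (1 + 2 * e) * e) * (1 + u * (e + e)) := by
    refine mul_left_cancel₀ (mul_ne_zero (mul_ne_zero s2ne n0) s0ne) ?_
    linear_combination s0 * (1 - (1 + 2 * e) * (e + e)) * p1 -
      s0 * (1 - v * e) * (1 - (1 + 2 * e) * e) * r02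
  have p3 : (1 + 3 * e) * (1 + e - e * e) * (1 - 2 * e - 4 * (e * e)) =
      (1 - e - e * e) * (1 - e - 2 * (e * e)) * (1 + 4 * e) := by
    linear_combination ((1 + 2 * e) * ((1 - e) * (1 + e))) * p2 -
      (((1 - e) * (1 + e) + (1 - e) * (1 + e) * v * e) * (1 - (1 + 2 * e) * (e + e)) * e -
        ((1 - e) * (1 + e) - (1 - e) * (1 + e) * v * e) * (1 - (1 + 2 * e) * e) * (e + e)) * hu' -
      ((1 + 3 * e) * (1 - (1 + 2 * e) * (e + e)) * e +
        (1 + 4 * e) * (1 - (1 + 2 * e) * e) * e) * hv'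
  have p4 : 4 * (e * e) - 16 * e - 18 = 0 := by
    refine (mul_eq_zero.1 (?_ : e * (e * e) * (4 * (e * e) - 16 * e - 18) = 0)).resolve_left
      (mul_ne_zero he0 (mul_ne_zero he0 he0))
    linear_combination p3
  have p5 : 4 * (e * e) + 16 * e - 18 = 0 := by
    have := congrArg (Unitary.conjHom C.hF) p4
    simp only [map_sub, map_mul, map_ofNat, map_zero, conjHom_apply,
      show e ^ q = -e by linear_combination hes] at this
    linear_combination this
  have h32 : (32 : F) * e = 0 := by linear_combination p5 - p4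
  refine he0 ((mul_eq_zero.1 h32).resolve_left ?_)
  rw [show (32 : F) = 2 ^ 5 by norm_num]
  exact pow_ne_zero _ h2

theorem dlt_eq_zero (a : F) : C.dlt a = 0 := by
  rcases eq_or_ne a 0 with rfl | ha
  · have h : Ok q (0 : F) 0 := (ok_zero C.hF).2 (skew_zero C.hF)
    have e := C.el_inv h
    rw [C.el_one, inv_one, ← C.el_one] at e
    have := (C.el_inj h (C.inv_ok h) e).2
    simpa [zero_pow_q C.hF] using this.symm
  · obtain ⟨η, hη, s, hs0, hsn, hs⟩ := C.exists_scale_norm (r := (a ^ q * a)⁻¹)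
      (by rw [inv_pow, nm_fixed C.hF]) (inv_ne_zero (nm_ne_zero ha))
    have h := C.dlt_scale hη hs (by rw [inv_pow, nm_fixed C.hF]) a
    rw [C.dlt_unit (by
      rw [mul_pow, mul_mul_mul_comm, hsn]
      exact inv_mul_cancel₀ (nm_ne_zero ha))] at h
    exact (mul_eq_zero.1 h.symm).resolve_left (inv_ne_zero (nm_ne_zero ha))

theorem bi_eq (a b : F) : C.bi a b = b ^ q := by simp [bi, C.dlt_eq_zero]

theorem bg_eq (a b : F) : C.bg a b = b⁻¹ := by
  simp [bg, C.bi_eq, C.dlt_eq_zero, inv_pow, pow_q_pow_q C.hF]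

theorem el_inv' {a b : F} (h : Ok q a b) : (C.el a b)⁻¹ = C.el (-a) (b ^ q) := by
  rw [C.el_inv h, C.dlt_eq_zero, add_zero]

/-- The scale of the middle factor at a real point. -/
theorem scale_real {a : F} (ha : a ≠ 0) {η : G} {s ν : F}
    (hw : C.w * C.el a (a ^ q * a) * C.w = C.el (a / (a ^ q * a)) (a ^ q * a)⁻¹ * η * C.w *
      C.el (a / C.bi a (a ^ q * a)) (C.bg a (a ^ q * a)))
    (hs : ∀ a b, Ok q a b → Ok q (s * a) (ν * b) ∧ η • C.pp a b = C.pp (s * a) (ν * b)) :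
    s = -(a ^ q * a)⁻¹ := by
  set n := a ^ q * a with hn
  have hn0 : n ≠ 0 := nm_ne_zero ha
  have hnq : n ^ q = n := nm_fixed C.hF a
  obtain ⟨h, hh, r, hr0, hrn, hact⟩ := C.exists_scale_norm hnq hn0
  set a1 := a / r
  have hn1 : a1 ^ q * a1 = 1 := by
    rw [div_pow, div_mul_div_comm, hrn, ← hn, div_self hn0]
  have ha1 : a1 ≠ 0 := div_ne_zero ha hr0
  have o1 : Ok q a1 1 := by rw [← hn1]; exact ok_self C.hF a1
  have o := ok_self C.hF a
  obtain ⟨-, ea⟩ := hact _ _ o1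
  rw [mul_div_cancel₀ _ hr0, mul_one] at ea
  have hX := C.el_conj hh o1 o ea
  set h' := C.w * h * C.w with hh'
  have hh'H : h' ∈ C.H := by
    obtain ⟨α, rfl⟩ := C.mem_H.1 hh
    rw [hh', C.w_dd]; exact C.dd_mem _
  have on := o.inv C.hF C.two_ne ha
  have act' : ∀ x, Ok q x 1 → x ≠ 0 → r * x ≠ 0 → h' • C.pp x 1 = C.pp (r * x / n) n⁻¹ := by
    intro x hx hx0 hrx
    rw [hh', mul_smul, mul_smul, C.pp_w hx0 hx, inv_one, div_one]
    obtain ⟨ok, e⟩ := hact _ _ hx
    rw [mul_one] at ok e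
    rw [e, C.pp_w hrx ok]
  have hra : r * a1 = a := mul_div_cancel₀ _ hr0
  have hX' := C.el_conj hh'H o1 on (by rw [act' a1 o1 ha1 (hra ▸ ha), hra])
  have hu := (C.unit_pt hn1).2 (C.dlt_eq_zero a1)
  have hw' : C.w * C.el a n * C.w = C.el (a / n) n⁻¹ * (h' * C.t * h⁻¹) * C.w * C.el (a / n) n⁻¹ := by
    have e1 : C.w * h⁻¹ * C.w = h'⁻¹ := by simp [hh', mul_assoc, C.w_inv]
    have e2 : C.w * h'⁻¹ = h⁻¹ * C.w := by
      rw [← e1]; simp only [← mul_assoc]; rw [C.w_mul_w, one_mul]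
    calc C.w * C.el a n * C.w
        = (C.w * h * C.w) * (C.w * C.el a1 1 * C.w) * (C.w * h⁻¹ * C.w) := by
          rw [← hX]
          simp only [mul_assoc]
          rw [← mul_assoc C.w C.w, C.w_mul_w, one_mul, ← mul_assoc C.w C.w, C.w_mul_w, one_mul]
      _ = h' * (C.el a1 1 * C.t * C.w * C.el a1 1) * h'⁻¹ := by rw [← hh', hu, e1]
      _ = (h' * C.el a1 1 * h'⁻¹) * (h' * C.t) * (C.w * h'⁻¹) * (h' * C.el a1 1 * h'⁻¹) := by group
      _ = _ := by rw [hX', e2, ← hn]; group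
  rw [C.bi_eq, C.bg_eq, hnq, hw'] at hw
  have hη : η = h' * C.t * h⁻¹ := (mul_left_cancel (mul_right_cancel (mul_right_cancel hw))).symm
  obtain ⟨ok, e⟩ := hs _ _ o
  have e' : η • C.pp a n = C.pp (-(a / n)) n⁻¹ := by
    rw [hη, mul_smul, mul_smul, ← ea, inv_smul_smul, C.pp_t o1,
      act' _ (o1.neg C.hF) (neg_ne_zero.2 ha1) (by rw [mul_neg, hra]; exact neg_ne_zero.2 ha),
      mul_neg, hra, neg_div]
  have := (C.pp_inj ok (on.neg C.hF) (e.symm.trans e')).1
  field_simp at this ⊢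
  linear_combination this

/-- The master identity. -/
theorem master' {a b c : F} (ha : a ≠ 0) (h : Ok q a b) (hc : c + c ^ q = 0) :
    Ok q (-(a * c) / (b * (b + c))) (c / (b ^ q * (b + c))) ∧
      C.el (a / (b + c)) (b + c)⁻¹ =
        C.el (a / b) b⁻¹ * C.el (-(a * c) / (b * (b + c))) (c / (b ^ q * (b + c))) := by
  rcases eq_or_ne c 0 with rfl | hc0
  · simp [ok_zero C.hF, zero_pow_q C.hF, C.el_one]
  have hb := h.ne_zero C.hF C.two_ne ha
  have hbq := pow_ne_zero q hb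
  have hbc := h.add_ne_zero C.hF C.two_ne ha hc
  obtain ⟨η, hη, hw⟩ := C.exists_eta ha h
  obtain ⟨s, ν, hs0, hsν, hs⟩ := C.exists_scale hη
  have hs' : s = -(b ^ q) / (b * b) := by
    by_cases hr : b ^ q = b
    · have hbn := h.real C.hF C.two_ne hr
      subst hbn
      rw [C.scale_real ha hw hs, hr]
      field_simp
    · set n := a ^ q * a with hn
      have o := ok_self C.hF a
      have hd := h.sub_skew C.hF o
      rw [← hn] at hd
      have hd0 : n - b ≠ 0 := fun e => hr (by rw [← sub_eq_zero.1 e, nm_fixed C.hF])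
      obtain ⟨η', hη', hw'⟩ := C.exists_eta ha o
      obtain ⟨s', ν', -, -, hs''⟩ := C.exists_scale hη'
      have r := C.anti ha h hd hd0 hw hs (η2 := η') (s2 := s') (ν2 := ν')
        (by rw [add_sub_cancel]; exact hw') hs''
      rw [add_sub_cancel, C.scale_real ha hw' hs'', C.bi_eq, C.bi_eq, C.bg_eq, C.bg_eq,
        nm_fixed C.hF] at r
      have hn0 : a ^ q * a ≠ 0 := nm_ne_zero ha
      simp only [← hn] at r hn0
      field_simp at r ⊢
      refine mul_left_cancel₀ hn0 ?_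
      linear_combination -r
  have hν : ν = (b ^ q * b)⁻¹ := by
    rw [← hsν, hs', div_pow, neg_pow_q C.hF, pow_q_pow_q C.hF, mul_pow]
    field_simp
  have hden := C.den_ne ha h hc hc0
  have m := C.master ha h hw hs hc hc0
  have eA : s * a * c / (C.bi a b * (C.bg a b * c + 1)) = -(a * c) / (b * (b + c)) := by
    rw [hs', C.bi_eq, C.bg_eq]
    have : c + b ≠ 0 := by rwa [add_comm]
    field_simp
    ring
  have eB : ν * c / (C.bg a b * c + 1) = c / (b ^ q * (b + c)) := by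
    rw [hν, C.bg_eq]
    have : c + b ≠ 0 := by rwa [add_comm]
    field_simp
    ring
  rwa [eA, eB] at m

/-- The law on independent vectors. -/
theorem law_indep {A B b1 b2 : F} (h1 : Ok q A b1) (h2 : Ok q B b2)
    (hi : A ^ q * B ≠ A * B ^ q) :
    C.el A b1 * C.el B b2 = C.el (A + B) (b1 + b2 + 2 * (A ^ q * B)) := by
  have hA : A ≠ 0 := fun h => hi (by simp [h, zero_pow_q C.hF])
  have hB : B ≠ 0 := fun h => hi (by simp [h, zero_pow_q C.hF])
  have hAB : A + B ≠ 0 := fun h => hi (by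
    rw [eq_neg_of_add_eq_zero_right h, neg_pow_q C.hF]; ring)
  obtain ⟨d, hd, hd0⟩ := C.exists_skew_ne
  have hdq : d ^ q = -d := by linear_combination hd
  -- the parameters
  set v := (A + B)⁻¹ - A⁻¹ with hv
  have hv0 : v ≠ 0 := fun h => hB (by
    have := inv_injective (sub_eq_zero.1 h)
    linear_combination this)
  have hvq : v ^ q = (A ^ q + B ^ q)⁻¹ - (A ^ q)⁻¹ := by
    rw [hv, sub_pow_q C.hF, inv_pow, inv_pow, add_pow_q C.hF]
  have hnv : v ^ q * v ≠ 0 := nm_ne_zero hv0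
  set l := (v * (A ^ q)⁻¹ - v ^ q * A⁻¹) / (2 * d * (v ^ q * v)) with hl
  have hlq : l ^ q = l := by
    rw [hl, div_pow, sub_pow_q C.hF, mul_pow, mul_pow, mul_pow, mul_pow, nm_fixed C.hF,
      pow_q_pow_q C.hF, inv_pow, inv_pow, pow_q_pow_q C.hF, two_pow_q C.hF, hdq]
    field_simp
    ring
  have hl0 : l ≠ 0 := by
    refine div_ne_zero ?_ (mul_ne_zero (mul_ne_zero C.two_ne hd0) hnv)
    intro e
    apply hi
    have hAq := pow_ne_zero q hA
    have hABq : A ^ q + B ^ q ≠ 0 := by rw [← add_pow_q C.hF]; exact pow_ne_zero q hAB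
    rw [hvq, hv] at e
    field_simp at e
    linear_combination -e
  set a := l * d * v ^ q with ha'
  have ha : a ≠ 0 := mul_ne_zero (mul_ne_zero hl0 hd0) (pow_ne_zero _ hv0)
  have haq : a ^ q = -(l * d * v) := by
    rw [ha', mul_pow, mul_pow, hlq, hdq, pow_q_pow_q C.hF]; ring
  set b := a * A⁻¹ with hb'
  set c := a * v with hc'
  have hc : c + c ^ q = 0 := by
    rw [hc', mul_pow, haq, ha']; ring
  have hkey : l * (2 * d * (v ^ q * v)) = v * (A ^ q)⁻¹ - v ^ q * A⁻¹ :=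
    div_mul_cancel₀ _ (mul_ne_zero (mul_ne_zero C.two_ne hd0) hnv)
  have h : Ok q a b := by
    rw [Ok, hb', mul_pow, haq, inv_pow, ha']
    linear_combination (l * d) * hkey
  obtain ⟨ok, e⟩ := C.master' ha h hc
  have e1 : a / b = A := by rw [hb']; field_simp
  have e2 : a / (b + c) = A + B := by
    rw [hb', hc', ← mul_add, hv, add_sub_cancel, div_mul_cancel_left₀ ha, inv_inv]
  have hb0 : b ≠ 0 := h.ne_zero C.hF C.two_ne ha
  have hbc0 : b + c ≠ 0 := h.add_ne_zero C.hF C.two_ne ha hc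
  have e3 : -(a * c) / (b * (b + c)) = B := by
    have : a / (b + c) - a / b = -(a * c) / (b * (b + c)) := by field_simp; ring
    rw [← this, e1, e2, add_sub_cancel_left]
  set β := c / (b ^ q * (b + c)) with hβ
  have e4 : (b + c)⁻¹ = b⁻¹ + β + 2 * (A ^ q * B) := by
    rw [← e1, ← e3, hβ]
    exact law_identity C.hF h hb0 hbc0
  rw [e3] at e ok
  rw [e1, e2, e4] at e
  have okA : Ok q A b⁻¹ := e1 ▸ h.inv C.hF C.two_ne ha
  have s1 := okA.sub_skew C.hF h1
  have s2 := ok.sub_skew C.hF h2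
  have comm : Commute (C.el 0 (b1 - b⁻¹)) (C.el B β) := by
    rw [C.el_line s1]; exact C.P0_central (C.uu_mem _ s1) (C.el_mem ok)
  have hAB' := okA.mul C.hF ok
  calc C.el A b1 * C.el B b2
      = C.el A (b⁻¹ + (b1 - b⁻¹)) * C.el B (β + (b2 - β)) := by simp
    _ = C.el A b⁻¹ * (C.el 0 (b1 - b⁻¹) * C.el B β) * C.el 0 (b2 - β) := by
        rw [C.el_shift okA s1, C.el_shift ok s2]; group
    _ = C.el A b⁻¹ * C.el B β * C.el 0 (b1 - b⁻¹) * C.el 0 (b2 - β) := by rw [comm.eq]; group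
    _ = _ := by
        rw [← e, ← C.el_shift hAB' s1, ← C.el_shift (hAB'.shift C.hF s1) s2]
        congr 1
        ring

/-- The law. -/
theorem law {A B b1 b2 : F} (h1 : Ok q A b1) (h2 : Ok q B b2) :
    C.el A b1 * C.el B b2 = C.el (A + B) (b1 + b2 + 2 * (A ^ q * B)) := by
  by_cases hi : A ^ q * B ≠ A * B ^ q
  · exact C.law_indep h1 h2 hi
  push Not at hi
  rcases eq_or_ne A 0 with rfl | hA
  · have s1 := (ok_zero C.hF).1 h1
    rw [C.el_line s1, (C.P0_central (C.uu_mem _ s1) (C.el_mem h2)).eq, ← C.el_line s1,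
      ← C.el_shift h2 s1]
    simp [zero_pow_q C.hF, add_comm]
  rcases eq_or_ne B 0 with rfl | hB
  · have s2 := (ok_zero C.hF).1 h2
    rw [← C.el_shift h1 s2]
    simp
  rcases eq_or_ne (A + B) 0 with hAB | hAB
  · have hB' : B = -A := eq_neg_of_add_eq_zero_right hAB
    subst hB'
    have o := (h1.conj C.hF).neg C.hF
    have s := o.sub_skew C.hF h2
    rw [show b2 = b1 ^ q + (b2 - b1 ^ q) by ring, C.el_shift o s, ← C.el_inv' h1,
      mul_inv_cancel_left, add_neg_cancel]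
    congr 1
    rw [Ok] at h1
    linear_combination -h1
  -- a third vector
  obtain ⟨d, hd, hd0⟩ := C.exists_skew_ne
  have hdq : d ^ q = -d := by linear_combination hd
  set K := A * d with hK
  have hKA : A ^ q * K - A * K ^ q ≠ 0 := by
    rw [hK, mul_pow, hdq]
    have : A ^ q * (A * d) - A * (A ^ q * -d) = 2 * d * (A ^ q * A) := by ring
    rw [this]
    exact mul_ne_zero (mul_ne_zero C.two_ne hd0) (nm_ne_zero hA)
  have okK := ok_self C.hF K
  have hBK : Ok q (B - K) (b2 - K ^ q * K - 2 * ((B - K) ^ q * K)) := by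
    rw [Ok] at h2 ⊢
    simp only [sub_pow_q C.hF, mul_pow, two_pow_q C.hF, pow_q_pow_q C.hF]
    linear_combination h2
  set β := b2 - K ^ q * K - 2 * ((B - K) ^ q * K) with hβ
  have i1 : (B - K) ^ q * K ≠ (B - K) * K ^ q := by
    intro e
    rw [sub_pow_q C.hF] at e
    have e0 : A * (B ^ q * K - B * K ^ q) = 0 := by linear_combination A * e
    have e1 : B * (A ^ q * K - A * K ^ q) = 0 := by
      linear_combination e0 + K * hi
    exact hKA ((mul_eq_zero.1 e1).resolve_left hB)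
  have i2 : A ^ q * (B - K) ≠ A * (B - K) ^ q := by
    intro e
    rw [sub_pow_q C.hF] at e
    exact hKA (by linear_combination hi - e)
  have i3 : (A + (B - K)) ^ q * K ≠ (A + (B - K)) * K ^ q := by
    intro e
    rw [add_pow_q C.hF, sub_pow_q C.hF] at e
    have e0 : A * ((A ^ q + B ^ q) * K - (A + B) * K ^ q) = 0 := by linear_combination A * e
    have e1 : (A + B) * (A ^ q * K - A * K ^ q) = 0 := by
      linear_combination e0 + K * hi
    exact hKA ((mul_eq_zero.1 e1).resolve_left hAB)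
  have e0 := C.law_indep hBK okK i1
  rw [sub_add_cancel, show β + K ^ q * K + 2 * ((B - K) ^ q * K) = b2 by rw [hβ]; ring] at e0
  rw [← e0, ← mul_assoc, C.law_indep h1 hBK i2, C.law_indep (h1.mul C.hF hBK) okK i3]
  congr 1
  · ring
  · rw [add_pow_q C.hF, hβ]; ring

end Chart

end Cfsg.Agent.U3Recog
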