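import Cfsg.Agent.Lib.Unitary.Count

/-!
# The unitary group of a hyperbolic plane (owner: helper40)

`U2 F q` preserves `iso2 q x y = x 0 * y 1 ^ q + x 1 * y 0 ^ q`.

* `uu c`, `dd α`, `wn` : root elements, torus, and the swap of sign `-1`
* `bruhat`, `upper` : every element is `uu * dd` or `uu * wn * uu * dd`
* `sA z` : the element of determinant one carrying `(1, 1)` to the norm-two vector `z`
* `exists_involution` : an involution other than `±1` is `sA z * wn * (sA z)⁻¹`
* `exists_equiv_GU` : `GU 2 F q ≃* U2 F q`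
-/

set_option autoImplicit false
set_option linter.unusedSectionVars false

namespace Cfsg.Agent.U3Recog

open Cfsg.Agent.Unitary
open scoped Matrix

variable {F : Type*} [Field F] {q : ℕ}

/-- The hyperbolic hermitian form in two variables. -/
def iso2 (q : ℕ) (x y : Fin 2 → F) : F := x 0 * y 1 ^ q + x 1 * y 0 ^ q

/-- Its isometry group. -/
abbrev U2 (F : Type*) [Field F] (q : ℕ) : Subgroup (Matrix.GeneralLinearGroup (Fin 2) F) :=
  Cfsg.preserving (Units.coeHom (Matrix (Fin 2) (Fin 2) F)) (iso2 q)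

/-- The matrix of an element. -/
def mat (g : U2 F q) : Matrix (Fin 2) (Fin 2) F :=
  ((g : Matrix.GeneralLinearGroup (Fin 2) F) : Matrix (Fin 2) (Fin 2) F)

theorem mat_mul (g g' : U2 F q) : mat (g * g') = mat g * mat g' := rfl

theorem mat_one : mat (1 : U2 F q) = 1 := rfl

theorem ext_mat {g g' : U2 F q} (h : mat g = mat g') : g = g' := Subtype.ext (Units.ext h)

/-- Top left entry. -/
def e00 (g : U2 F q) : F := mat g 0 0
/-- Top right entry. -/
def e01 (g : U2 F q) : F := mat g 0 1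
/-- Bottom left entry. -/
def e10 (g : U2 F q) : F := mat g 1 0
/-- Bottom right entry. -/
def e11 (g : U2 F q) : F := mat g 1 1

theorem ext4 {g g' : U2 F q} (h0 : e00 g = e00 g') (h1 : e01 g = e01 g') (h2 : e10 g = e10 g')
    (h3 : e11 g = e11 g') : g = g' :=
  ext_mat (by ext i j; fin_cases i <;> fin_cases j <;> assumption)

@[simp] theorem e00_mul (g g' : U2 F q) : e00 (g * g') = e00 g * e00 g' + e01 g * e10 g' := by
  simp [e00, e01, e10, mat_mul, Matrix.mul_apply, Fin.sum_univ_two]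

@[simp] theorem e01_mul (g g' : U2 F q) : e01 (g * g') = e00 g * e01 g' + e01 g * e11 g' := by
  simp [e00, e01, e11, mat_mul, Matrix.mul_apply, Fin.sum_univ_two]

@[simp] theorem e10_mul (g g' : U2 F q) : e10 (g * g') = e10 g * e00 g' + e11 g * e10 g' := by
  simp [e00, e10, e11, mat_mul, Matrix.mul_apply, Fin.sum_univ_two]

@[simp] theorem e11_mul (g g' : U2 F q) : e11 (g * g') = e10 g * e01 g' + e11 g * e11 g' := by
  simp [e01, e10, e11, mat_mul, Matrix.mul_apply, Fin.sum_univ_two]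

@[simp] theorem e00_one : e00 (1 : U2 F q) = 1 := by simp [e00, mat_one]
@[simp] theorem e01_one : e01 (1 : U2 F q) = 0 := by simp [e01, mat_one]
@[simp] theorem e10_one : e10 (1 : U2 F q) = 0 := by simp [e10, mat_one]
@[simp] theorem e11_one : e11 (1 : U2 F q) = 1 := by simp [e11, mat_one]

/-- The determinant. -/
def det2 (g : U2 F q) : F := e00 g * e11 g - e01 g * e10 g

theorem det2_mul (g g' : U2 F q) : det2 (g * g') = det2 g * det2 g' := by
  simp [det2]; ring

theorem det2_one : det2 (1 : U2 F q) = 1 := by simp [det2]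

/-- The form on pairs. -/
def h2 (q : ℕ) (x y : F × F) : F := x.1 * y.2 ^ q + x.2 * y.1 ^ q

/-- The natural action on pairs. -/
def act (g : U2 F q) (z : F × F) : F × F :=
  (e00 g * z.1 + e01 g * z.2, e10 g * z.1 + e11 g * z.2)

theorem act_mul (g g' : U2 F q) (z : F × F) : act (g * g') z = act g (act g' z) := by
  simp only [act, e00_mul, e01_mul, e10_mul, e11_mul]
  ext <;> ring

theorem act_one (z : F × F) : act (1 : U2 F q) z = z := by simp [act]

theorem h2_act (g : U2 F q) (x y : F × F) : h2 q (act g x) (act g y) = h2 q x y := by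
  have h := g.2 ![x.1, x.2] ![y.1, y.2]
  simpa [iso2, h2, act, e00, e01, e10, e11, mat, Matrix.mulVec, dotProduct,
    Fin.sum_univ_two] using h

variable [Fintype F]

section

variable (hF : Fintype.card F = q ^ 2)
include hF

theorem eqs (g : U2 F q) :
    e00 g * e10 g ^ q + e10 g * e00 g ^ q = 0 ∧ e01 g * e11 g ^ q + e11 g * e01 g ^ q = 0 ∧
      e00 g * e11 g ^ q + e10 g * e01 g ^ q = 1 ∧ e01 g * e10 g ^ q + e11 g * e00 g ^ q = 1 := by
  refine ⟨?_, ?_, ?_, ?_⟩
  · simpa [h2, act, zero_pow_q hF] using h2_act g (1, 0) (1, 0)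
  · simpa [h2, act, zero_pow_q hF] using h2_act g (0, 1) (0, 1)
  · simpa [h2, act, zero_pow_q hF] using h2_act g (1, 0) (0, 1)
  · simpa [h2, act, zero_pow_q hF] using h2_act g (0, 1) (1, 0)

theorem det2_norm (g : U2 F q) : det2 g * det2 g ^ q = 1 := by
  obtain ⟨h1, h2, h3, h4⟩ := eqs hF g
  rw [det2, sub_pow_q hF, mul_pow, mul_pow]
  linear_combination (e01 g * e10 g ^ q + e11 g * e00 g ^ q) * h3 + h4 -
    (e01 g * e11 g ^ q + e11 g * e01 g ^ q) * h1

theorem det2_ne_zero (g : U2 F q) : det2 g ≠ 0 := fun h => by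
  have := det2_norm hF g
  simp [h] at this

theorem det2_inv (g : U2 F q) : det2 g⁻¹ = (det2 g)⁻¹ := by
  refine eq_inv_of_mul_eq_one_left ?_
  rw [← det2_mul, inv_mul_cancel, det2_one]

theorem e00_eq_zero_or (g : U2 F q) (h : e10 g = 0) : e00 g ≠ 0 ∧ e11 g ≠ 0 := by
  have h' := det2_ne_zero hF g
  simpa [det2, h] using h'

/-- An element with prescribed entries. -/
noncomputable def mk4 (p r s u : F) (h1 : p * s ^ q + s * p ^ q = 0)
    (h2 : r * u ^ q + u * r ^ q = 0) (h3 : p * u ^ q + s * r ^ q = 1) : U2 F q :=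
  ⟨Matrix.GeneralLinearGroup.mkOfDetNeZero !![p, r; s, u] (by
      have h4 : r * s ^ q + u * p ^ q = 1 := by
        have := congrArg (fun x : F => x ^ q) h3
        simpa [add_pow_q hF, mul_pow, pow_q_pow_q hF, mul_comm, add_comm] using this
      rw [Matrix.det_fin_two_of]
      intro h
      have hq : p ^ q * u ^ q - r ^ q * s ^ q = 0 := by
        rw [← mul_pow, ← mul_pow, ← sub_pow_q hF, h, zero_pow_q hF]
      have h5 : (p * u - r * s) * (p ^ q * u ^ q - r ^ q * s ^ q) = 1 := by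
        linear_combination (r * s ^ q + u * p ^ q) * h3 + h4 - (r * u ^ q + u * r ^ q) * h1
      rw [h, zero_mul] at h5
      exact zero_ne_one h5), by
    intro x y
    have h4 : r * s ^ q + u * p ^ q = 1 := by
      have := congrArg (fun x : F => x ^ q) h3
      simpa [add_pow_q hF, mul_pow, pow_q_pow_q hF, mul_comm, add_comm] using this
    simp [iso2, Matrix.mulVec, dotProduct, Fin.sum_univ_two,
      Matrix.GeneralLinearGroup.mkOfDetNeZero, add_pow_q hF, mul_pow]
    linear_combination x 0 * y 0 ^ q * h1 + x 1 * y 1 ^ q * h2 + x 0 * y 1 ^ q * h3 +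
      x 1 * y 0 ^ q * h4⟩

theorem mk4_entries (p r s u : F) (h1 : p * s ^ q + s * p ^ q = 0)
    (h2 : r * u ^ q + u * r ^ q = 0) (h3 : p * u ^ q + s * r ^ q = 1) :
    e00 (mk4 hF p r s u h1 h2 h3) = p ∧ e01 (mk4 hF p r s u h1 h2 h3) = r ∧
      e10 (mk4 hF p r s u h1 h2 h3) = s ∧ e11 (mk4 hF p r s u h1 h2 h3) = u := by
  simp [mk4, e00, e01, e10, e11, mat, Matrix.GeneralLinearGroup.mkOfDetNeZero]

/-- The root element. -/
noncomputable def uu (c : F) (hc : c + c ^ q = 0) : U2 F q :=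
  mk4 hF 1 c 0 1 (by simp [zero_pow_q hF]) (by simpa using hc) (by simp)

@[simp] theorem uu_entries (c : F) (hc : c + c ^ q = 0) :
    e00 (uu hF c hc) = 1 ∧ e01 (uu hF c hc) = c ∧ e10 (uu hF c hc) = 0 ∧ e11 (uu hF c hc) = 1 :=
  mk4_entries hF _ _ _ _ _ _ _

theorem two_pow_q : (2 : F) ^ q = 2 := by
  rw [← conjHom_apply hF, map_ofNat]

theorem skew_zero : (0 : F) + 0 ^ q = 0 := by simp [zero_pow_q hF]

theorem skew_add {a b : F} (ha : a + a ^ q = 0) (hb : b + b ^ q = 0) :
    a + b + (a + b) ^ q = 0 := by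
  rw [add_pow_q hF]; linear_combination ha + hb

theorem skew_neg {a : F} (ha : a + a ^ q = 0) : -a + (-a) ^ q = 0 := by
  rw [neg_pow_q hF]; linear_combination -ha

theorem skew_inv {a : F} (ha : a + a ^ q = 0) : a⁻¹ + a⁻¹ ^ q = 0 := by
  rw [inv_pow, show a ^ q = -a by linear_combination ha, inv_neg, add_neg_cancel]

theorem uu_mul {a b : F} (ha : a + a ^ q = 0) (hb : b + b ^ q = 0) :
    uu hF a ha * uu hF b hb = uu hF (a + b) (skew_add hF ha hb) := by
  apply ext4 <;> simp <;> ring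

theorem uu_zero : uu hF (0 : F) (skew_zero hF) = 1 := by
  apply ext4 <;> simp

theorem uu_inj {a b : F} (ha : a + a ^ q = 0) (hb : b + b ^ q = 0)
    (h : uu hF a ha = uu hF b hb) : a = b := by
  have := congrArg e01 h
  simpa using this

theorem det2_uu {a : F} (ha : a + a ^ q = 0) : det2 (uu hF a ha) = 1 := by simp [det2]

theorem uu_inv {a : F} (ha : a + a ^ q = 0) :
    (uu hF a ha)⁻¹ = uu hF (-a) (skew_neg hF ha) := by
  refine inv_eq_of_mul_eq_one_right ?_
  rw [uu_mul]
  simp [uu_zero]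

/-- The torus element. -/
noncomputable def ddEl (α : Fˣ) : U2 F q :=
  mk4 hF α 0 0 (((α : F) ^ q)⁻¹) (by simp [zero_pow_q hF]) (by simp [zero_pow_q hF])
    (by rw [inv_pow, pow_q_pow_q hF, mul_inv_cancel₀ α.ne_zero]; simp)

/-- The torus. -/
noncomputable def dd : Fˣ →* U2 F q where
  toFun := ddEl hF
  map_one' := by
    apply ext4 <;>
      simp [ddEl, mk4, e00, e01, e10, e11, mat, Matrix.GeneralLinearGroup.mkOfDetNeZero]
  map_mul' α β := by
    apply ext4 <;> simp only [e00_mul, e01_mul, e10_mul, e11_mul] <;>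
      simp [ddEl, mk4, e00, e01, e10, e11, mat, Matrix.GeneralLinearGroup.mkOfDetNeZero, mul_pow,
        mul_inv, mul_comm]

@[simp] theorem dd_entries (α : Fˣ) :
    e00 (dd hF α) = α ∧ e01 (dd hF α) = 0 ∧ e10 (dd hF α) = 0 ∧
      e11 (dd hF α) = ((α : F) ^ q)⁻¹ := by
  simp [dd, ddEl, mk4, e00, e01, e10, e11, mat, Matrix.GeneralLinearGroup.mkOfDetNeZero]

theorem dd_injective : Function.Injective (dd hF (q := q)) := fun α β h => by
  have := congrArg e00 h
  exact Units.ext (by simpa using this)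

theorem dd_conj_uu (α : Fˣ) {c : F} (hc : c + c ^ q = 0) :
    dd hF α * uu hF c hc * (dd hF α)⁻¹ = uu hF ((α : F) ^ (q + 1) * c) (by
      rw [mul_pow, pow_q_succ_fixed hF, ← mul_add, hc, mul_zero]) := by
  rw [mul_inv_eq_iff_eq_mul]
  have h0 : (α : F) ^ q ≠ 0 := pow_ne_zero _ α.ne_zero
  apply ext4 <;> simp
  rw [pow_succ]
  field_simp

/-- The swap with sign `-1`. -/
noncomputable def wn : U2 F q :=
  mk4 hF 0 (-1) (-1) 0 (by simp [zero_pow_q hF]) (by simp [zero_pow_q hF])
    (by simp [neg_pow_q hF, zero_pow_q hF])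

@[simp] theorem wn_entries :
    e00 (wn hF (q := q)) = 0 ∧ e01 (wn hF (q := q)) = -1 ∧ e10 (wn hF (q := q)) = -1 ∧
      e11 (wn hF (q := q)) = 0 :=
  mk4_entries hF _ _ _ _ _ _ _

theorem wn_mul_self : wn hF * wn hF = (1 : U2 F q) := by
  apply ext4 <;> simp

theorem wn_inv : (wn hF)⁻¹ = wn hF (q := q) := inv_eq_of_mul_eq_one_right (wn_mul_self hF)

theorem det2_wn : det2 (wn hF (q := q)) = -1 := by simp [det2]

theorem wn_conj_dd (α : Fˣ) : wn hF * dd hF α * wn hF = dd hF (α ^ q)⁻¹ := by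
  obtain ⟨a, b, c, d⟩ := dd_entries hF (q := q) (α ^ q)⁻¹
  apply ext4 <;> simp only [a, b, c, d, e00_mul, e01_mul, e10_mul, e11_mul] <;>
    simp [Units.val_inv_eq_inv_val, inv_pow, pow_q_pow_q hF]

/-- `-1`. -/
noncomputable def negOne : U2 F q := dd hF (-1)

theorem negOne_entries :
    e00 (negOne hF (q := q)) = -1 ∧ e01 (negOne hF (q := q)) = 0 ∧
      e10 (negOne hF (q := q)) = 0 ∧ e11 (negOne hF (q := q)) = -1 := by
  obtain ⟨a, b, c, d⟩ := dd_entries hF (q := q) (-1)
  exact ⟨by simpa [negOne] using a, b, c, by simpa [negOne, neg_pow_q hF, inv_neg] using d⟩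

theorem upper (g : U2 F q) (h : e10 g = 0) :
    ∃ (c : F) (hc : c + c ^ q = 0) (α : Fˣ), g = uu hF c hc * dd hF α := by
  obtain ⟨h1, h2, h3, h4⟩ := eqs hF g
  obtain ⟨hp, hu⟩ := e00_eq_zero_or hF g h
  simp [h] at h3
  have hu' : e11 g ^ q ≠ 0 := pow_ne_zero _ hu
  have hc : e01 g / e11 g + (e01 g / e11 g) ^ q = 0 := by
    rw [div_pow, div_add_div _ _ hu hu', div_eq_zero_iff]
    left
    linear_combination h2
  have hpu : ((e00 g) ^ q)⁻¹ = e11 g := by
    refine inv_eq_of_mul_eq_one_left ?_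
    have := congrArg (fun x : F => x ^ q) h3
    simpa [mul_pow, pow_q_pow_q hF, mul_comm] using this
  refine ⟨e01 g / e11 g, hc, Units.mk0 (e00 g) hp, ?_⟩
  apply ext4 <;> simp [h, hpu]
  rw [div_mul_cancel₀ _ hu]

theorem bruhat (g : U2 F q) (h : e10 g ≠ 0) :
    ∃ hc : e00 g / e10 g + (e00 g / e10 g) ^ q = 0, ∃ (c' : F) (hc' : c' + c' ^ q = 0) (α : Fˣ),
      g = uu hF (e00 g / e10 g) hc * wn hF * uu hF c' hc' * dd hF α := by
  obtain ⟨h1, h2, h3, h4⟩ := eqs hF g
  have h' : e10 g ^ q ≠ 0 := pow_ne_zero _ h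
  have hc : e00 g / e10 g + (e00 g / e10 g) ^ q = 0 := by
    rw [div_pow, div_add_div _ _ h h', div_eq_zero_iff]
    left
    linear_combination h1
  obtain ⟨c', hc', α, hα⟩ := upper hF (wn hF * (uu hF (e00 g / e10 g) hc)⁻¹ * g) (by
    simp [uu_inv, div_mul_cancel₀ _ h])
  refine ⟨hc, c', hc', α, ?_⟩
  calc g = uu hF (e00 g / e10 g) hc * (wn hF)⁻¹ *
        (wn hF * (uu hF (e00 g / e10 g) hc)⁻¹ * g) := by group
    _ = _ := by rw [hα, wn_inv, ← mul_assoc]

/-- An element commuting with a non-trivial root element is upper triangular with equal diagonal. -/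
theorem of_comm_uu (g : U2 F q) {c : F} (hc : c + c ^ q = 0) (hc0 : c ≠ 0)
    (h : g * uu hF c hc = uu hF c hc * g) : e10 g = 0 ∧ e00 g = e11 g := by
  have a := congrArg e00 h
  have b := congrArg e01 h
  simp [hc0] at a b
  refine ⟨a, ?_⟩
  have b' : c * (e00 g - e11 g) = 0 := by linear_combination b
  exact sub_eq_zero.1 ((mul_eq_zero.1 b').resolve_left hc0)

/-- The element carrying `(1, 1)` to `z`. -/
noncomputable def sA (h2n : (2 : F) ≠ 0) (z : F × F) (hz : h2 q z z = 2) : U2 F q :=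
  mk4 hF ((z.1 + z.1 ^ q) / 2) ((z.1 - z.1 ^ q) / 2) ((z.2 - z.2 ^ q) / 2) ((z.2 + z.2 ^ q) / 2)
    (by
      have e2 : (2 : F) ^ q = 2 := two_pow_q hF
      simp only [div_pow, add_pow_q hF, sub_pow_q hF, pow_q_pow_q hF, e2]
      field_simp
      ring)
    (by
      have e2 : (2 : F) ^ q = 2 := two_pow_q hF
      simp only [div_pow, add_pow_q hF, sub_pow_q hF, pow_q_pow_q hF, e2]
      field_simp
      ring)
    (by
      have e2 : (2 : F) ^ q = 2 := two_pow_q hF
      simp only [h2] at hz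
      simp only [div_pow, add_pow_q hF, sub_pow_q hF, pow_q_pow_q hF, e2]
      field_simp
      linear_combination 2 * hz)

theorem sA_entries (h2n : (2 : F) ≠ 0) (z : F × F) (hz : h2 q z z = 2) :
    e00 (sA hF h2n z hz) = (z.1 + z.1 ^ q) / 2 ∧ e01 (sA hF h2n z hz) = (z.1 - z.1 ^ q) / 2 ∧
      e10 (sA hF h2n z hz) = (z.2 - z.2 ^ q) / 2 ∧ e11 (sA hF h2n z hz) = (z.2 + z.2 ^ q) / 2 :=
  mk4_entries hF _ _ _ _ _ _ _

theorem act_sA (h2n : (2 : F) ≠ 0) (z : F × F) (hz : h2 q z z = 2) :
    act (sA hF h2n z hz) (1, 1) = z := by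
  obtain ⟨a, b, c, d⟩ := sA_entries hF h2n z hz
  simp only [act, a, b, c, d, mul_one]
  ext <;> field_simp <;> ring

theorem det2_sA (h2n : (2 : F) ≠ 0) (z : F × F) (hz : h2 q z z = 2) :
    det2 (sA hF h2n z hz) = 1 := by
  obtain ⟨a, b, c, d⟩ := sA_entries hF h2n z hz
  simp only [det2, a, b, c, d]
  simp only [h2] at hz
  field_simp
  linear_combination 2 * hz

theorem h2_act_one (g : U2 F q) : h2 q (act g (1, 1)) (act g (1, 1)) = 2 := by
  rw [h2_act, h2]
  norm_num

/-- An element of determinant one is determined by the image of `(1, 1)`. -/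
theorem eq_one_of_fix (h2n : (2 : F) ≠ 0) {g : U2 F q} (hd : det2 g = 1)
    (hfix : act g (1, 1) = (1, 1)) : g = 1 := by
  have a := congrArg Prod.fst hfix
  have b := congrArg Prod.snd hfix
  simp only [act, mul_one] at a b
  have c := h2_act g (1, 0) (1, 1)
  rw [hfix] at c
  simp [h2, act, zero_pow_q hF] at c
  simp only [det2] at hd
  have r0 : e01 g = e10 g := by linear_combination a - c
  have p1 : e11 g = e00 g := by linear_combination b - c
  rw [r0, p1] at hd
  have h1 : e00 g = 1 := by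
    have : (2 : F) * (e00 g - 1) = 0 := by
      linear_combination hd + (e10 g + 1 - e00 g) * c
    exact sub_eq_zero.1 ((mul_eq_zero.1 this).resolve_left h2n)
  have h0 : e10 g = 0 := by linear_combination c - h1
  apply ext4 <;> simp [h1, h0, r0, p1]

theorem eq_sA (h2n : (2 : F) ≠ 0) {g : U2 F q} (hd : det2 g = 1) :
    g = sA hF h2n (act g (1, 1)) (h2_act_one hF g) := by
  set A := sA hF h2n (act g (1, 1)) (h2_act_one hF g)
  have hfix : act (A⁻¹ * g) (1, 1) = (1, 1) := by
    rw [act_mul]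
    conv_lhs => rw [show act g (1, 1) = act A (1, 1) from (act_sA hF h2n _ _).symm]
    rw [← act_mul, inv_mul_cancel, act_one]
  have hone := eq_one_of_fix hF h2n (g := A⁻¹ * g)
    (by rw [det2_mul, det2_inv hF, det2_sA, hd, inv_one, one_mul]) hfix
  exact (inv_mul_eq_one.1 hone).symm

/-- The vectors of norm two are `q (q² - 1)` in number. -/
theorem card_norm_two (h2n : (2 : F) ≠ 0) :
    Nat.card {z : F × F // h2 q z z = 2} = (q ^ 2 - 1) * q := by
  classical
  have e2 : (2 : F) ^ q = 2 := two_pow_q hF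
  have key : ∀ z : F × F, h2 q z z = 2 ↔
      z.2 ≠ 0 ∧ (z.1 * z.2 ^ q - 1) + (z.1 * z.2 ^ q - 1) ^ q = 0 := by
    intro z
    constructor
    · intro h
      refine ⟨fun h0 => ?_, ?_⟩
      · simp [h2, h0, zero_pow_q hF] at h
        exact h2n h.symm
      · simp only [h2] at h
        rw [sub_pow_q hF, one_pow, mul_pow, pow_q_pow_q hF]
        linear_combination h
    · rintro ⟨-, h⟩
      rw [sub_pow_q hF, one_pow, mul_pow, pow_q_pow_q hF] at h
      simp only [h2]
      linear_combination h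
  calc Nat.card {z : F × F // h2 q z z = 2}
      = Nat.card ({x : F // x ≠ 0} × {c : F // c + c ^ q = 0}) := Nat.card_congr
        { toFun := fun z => (⟨z.1.2, ((key z.1).1 z.2).1⟩,
            ⟨z.1.1 * z.1.2 ^ q - 1, ((key z.1).1 z.2).2⟩)
          invFun := fun w => ⟨((w.2.1 + 1) / w.1.1 ^ q, w.1.1), (key _).2 ⟨w.1.2, by
            rw [div_mul_cancel₀ _ (pow_ne_zero _ w.1.2), add_sub_cancel_right]
            exact w.2.2⟩⟩
          left_inv := fun z => by
            refine Subtype.ext (Prod.ext ?_ rfl)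
            show (z.1.1 * z.1.2 ^ q - 1 + 1) / z.1.2 ^ q = z.1.1
            rw [sub_add_cancel, mul_div_cancel_right₀ _ (pow_ne_zero _ ((key z.1).1 z.2).1)]
          right_inv := fun w => Prod.ext rfl (Subtype.ext (by
            show (w.2.1 + 1) / w.1.1 ^ q * w.1.1 ^ q - 1 = w.2.1
            rw [div_mul_cancel₀ _ (pow_ne_zero _ w.1.2), add_sub_cancel_right])) }
    _ = (q ^ 2 - 1) * q := by
        rw [Nat.card_prod, card_trace_zero hF]
        congr 1
        rw [Nat.card_eq_fintype_card, Fintype.card_subtype_compl, Fintype.card_subtype_eq, hF]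

/-- An involution other than `±1` is conjugate to `wn` by an element of determinant one. -/
theorem exists_involution (h2n : (2 : F) ≠ 0) {g : U2 F q} (hg : g * g = 1) (h1 : g ≠ 1)
    (hm : g ≠ negOne hF) :
    ∃ (z : F × F) (hz : h2 q z z = 2), g = sA hF h2n z hz * wn hF * (sA hF h2n z hz)⁻¹ := by
  set p := e00 g with hp
  set r := e01 g with hr
  set s := e10 g with hs
  set u := e11 g with hu
  have a := congrArg e00 hg
  have b := congrArg e01 hg
  have c := congrArg e10 hg
  have d := congrArg e11 hg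
  simp only [e00_mul, e01_mul, e10_mul, e11_mul, e00_one, e01_one, e10_one, e11_one,
    ← hp, ← hr, ← hs, ← hu] at a b c d
  have hpu : u = -p := by
    by_contra hne
    have hne' : p + u ≠ 0 := fun h => hne (by linear_combination h)
    have r0 : r = 0 := (mul_eq_zero.1 (show (p + u) * r = 0 by linear_combination b)).resolve_left hne'
    have s0 : s = 0 := (mul_eq_zero.1 (show (p + u) * s = 0 by linear_combination c)).resolve_left hne'
    have hp1 : (p - 1) * (p + 1) = 0 := by linear_combination a - s * r0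
    have heq : (p - u) * (p + u) = 0 := by linear_combination a - d
    have hu' : u = p := by linear_combination -((mul_eq_zero.1 heq).resolve_right hne')
    rcases mul_eq_zero.1 hp1 with h | h
    · have h := sub_eq_zero.1 h
      refine h1 (ext4 ?_ ?_ ?_ ?_) <;> simp [← hp, ← hr, ← hs, ← hu, r0, s0, hu', h]
    · have h := eq_neg_of_add_eq_zero_left h
      obtain ⟨n0, n1, n2, n3⟩ := negOne_entries hF (q := q)
      refine hm (ext4 ?_ ?_ ?_ ?_) <;> simp [← hp, ← hr, ← hs, ← hu, r0, s0, hu', h, n0, n1, n2, n3]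
  have hinv : g⁻¹ = g := inv_eq_of_mul_eq_one_right hg
  -- `g` is self-adjoint
  have adj : ∀ x y, h2 q (act g x) y = h2 q x (act g y) := fun x y => by
    conv_lhs => rw [show y = act g (act g y) by rw [← act_mul, hg, act_one]]
    rw [h2_act]
  have t1 := adj (1, 0) (1, 0)
  have t2 := adj (0, 1) (0, 1)
  have t3 := adj (1, 0) (0, 1)
  simp [h2, act, zero_pow_q hF, ← hp, ← hr, ← hs, ← hu] at t1 t2 t3
  have hsr : s ^ q = s := t1.symm
  have hrr : r ^ q = r := t2.symm
  have hpp : p ^ q = -p := by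
    have := t3
    rw [hpu, neg_pow_q hF] at this
    linear_combination this
  have hdet : p * p + r * s = 1 := a
  -- a vector of eigenvalue `-1` and norm two
  obtain ⟨z, hz, hev⟩ : ∃ z : F × F, h2 q z z = 2 ∧ act g z = (-z.1, -z.2) := by
    have build : ∀ (v : F × F) (n : F), n ≠ 0 → n ^ q = n → act g v = (-v.1, -v.2) →
        h2 q v v = n → ∃ z : F × F, h2 q z z = 2 ∧ act g z = (-z.1, -z.2) := by
      intro v n hn0 hnq hev hn
      have e2 : (2 : F) ^ q = 2 := two_pow_q hF
      obtain ⟨l, hl⟩ := exists_norm_eq hF (c := 2 / n) (by rw [div_pow, e2, hnq])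
      refine ⟨(l * v.1, l * v.2), ?_, ?_⟩
      · simp only [h2, mul_pow] at hn ⊢
        rw [pow_succ] at hl
        have : l ^ q * l * n = 2 := by rw [hl, div_mul_cancel₀ _ hn0]
        linear_combination this + l ^ q * l * hn
      · have a1 := congrArg Prod.fst hev
        have a2 := congrArg Prod.snd hev
        simp only [act] at a1 a2 ⊢
        ext <;> simp
        · linear_combination l * a1
        · linear_combination l * a2
    by_cases hr0 : r = 0
    · by_cases hs0 : s = 0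
      · exfalso
        have hp1 : (p - 1) * (p + 1) = 0 := by linear_combination hdet - s * hr0
        rcases mul_eq_zero.1 hp1 with h | h
        · rw [sub_eq_zero.1 h, one_pow] at hpp
          exact h2n (by linear_combination hpp)
        · rw [eq_neg_of_add_eq_zero_left h, neg_pow_q hF, one_pow, neg_neg] at hpp
          exact h2n (by linear_combination -hpp)
      · refine build (p - 1, s) (-2 * s) (mul_ne_zero (neg_ne_zero.2 h2n) hs0) ?_ ?_ ?_
        · rw [mul_pow, neg_pow_q hF, hsr, show (2 : F) ^ q = 2 from two_pow_q hF]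
        · simp only [act, ← hp, ← hr, ← hs, ← hu, hpu]
          ext <;> simp
          · linear_combination hdet
          · ring
        · simp only [h2, sub_pow_q hF, one_pow, hpp, hsr]
          ring
    · refine build (r, -1 - p) (-2 * r) (mul_ne_zero (neg_ne_zero.2 h2n) hr0) ?_ ?_ ?_
      · rw [mul_pow, neg_pow_q hF, hrr, show (2 : F) ^ q = 2 from two_pow_q hF]
      · simp only [act, ← hp, ← hr, ← hs, ← hu, hpu]
        ext <;> simp
        · ring
        · linear_combination hdet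
      · simp only [h2, sub_pow_q hF, neg_pow_q hF, one_pow, hpp, hrr]
        ring
  refine ⟨z, hz, ?_⟩
  set A := sA hF h2n z hz with hA
  rw [eq_mul_inv_iff_mul_eq]
  suffices hB : A⁻¹ * g * A = wn hF by rw [← hB]; group
  set B := A⁻¹ * g * A with hB
  have hBB : B * B = 1 := by rw [hB]; simp [mul_assoc, ← mul_assoc g g, hg]
  have hBu : act B (1, 1) = (-1, -1) := by
    have hneg : ∀ (h : U2 F q) (x : F × F), act h (-x.1, -x.2) = (-(act h x).1, -(act h x).2) :=
      fun h x => by simp only [act]; ext <;> simp <;> ring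
    have hz' : act A⁻¹ z = (1, 1) := by
      conv_lhs => arg 2; rw [← act_sA hF h2n z hz]
      rw [← hA, ← act_mul, inv_mul_cancel, act_one]
    rw [hB, act_mul, act_mul, hA, act_sA, hev, hneg, ← hA, hz']
  have hBd : det2 B = -1 := by
    rw [hB, det2_mul, det2_mul, det2_inv hF, hA, det2_sA, inv_one, one_mul, mul_one]
    simp only [det2, ← hp, ← hr, ← hs, ← hu, hpu]
    linear_combination -hdet
  have a0 := congrArg e00 hBB
  have b0 := congrArg e01 hBB
  have d0 := congrArg e11 hBB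
  simp only [e00_mul, e01_mul, e11_mul, e00_one, e01_one, e11_one] at a0 b0 d0
  have u1 := congrArg Prod.fst hBu
  have u2 := congrArg Prod.snd hBu
  simp only [act, mul_one] at u1 u2
  simp only [det2] at hBd
  have hneg : e11 B = -e00 B := by
    by_contra hne
    have hne' : e00 B + e11 B ≠ 0 := fun h => hne (by linear_combination h)
    have r0 : e01 B = 0 :=
      (mul_eq_zero.1 (show (e00 B + e11 B) * e01 B = 0 by linear_combination b0)).resolve_left hne'
    have hp' : e00 B = -1 := by linear_combination u1 - r0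
    rw [r0, hp'] at hBd
    have hu' : e11 B = 1 := by linear_combination -hBd
    exact hne' (by rw [hp', hu']; ring)
  have adjB := h2_act B (1, 0) (1, 1)
  rw [hBu] at adjB
  simp [h2, act, zero_pow_q hF, neg_pow_q hF] at adjB
  have hp0 : e00 B = 0 := by
    have : (2 : F) * e00 B = 0 := by linear_combination -adjB - u2 + hneg
    exact (mul_eq_zero.1 this).resolve_left h2n
  obtain ⟨w0, w1, w2, w3⟩ := wn_entries hF (q := q)
  refine ext4 ?_ ?_ ?_ ?_
  · rw [w0, hp0]
  · rw [w1]; linear_combination u1 - hp0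
  · rw [w2]; linear_combination u2 - hneg + hp0
  · rw [w3, hneg, hp0, neg_zero]

/-- `(uu c) (lower (-1/c)) (uu c)` squares to `-1`. -/
theorem sq_neg_one {c : F} (hc : c + c ^ q = 0) (hc0 : c ≠ 0) :
    let x := uu hF c hc * (wn hF * uu hF (-c⁻¹) (skew_neg hF (skew_inv hF hc)) * wn hF) *
      uu hF c hc
    x * x = negOne hF := by
  obtain ⟨n0, n1, n2, n3⟩ := negOne_entries hF (q := q)
  intro x
  apply ext4 <;> simp [x, n0, n1, n2, n3, hc0]

end

/-- The change of basis. -/
theorem exists_equiv_GU (hF : Fintype.card F = q ^ 2) (h2n : (2 : F) ≠ 0) :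
    Nonempty (Cfsg.GU 2 F q ≃* U2 F q) := by
  obtain ⟨ε, hε⟩ := exists_norm_eq hF (c := (-1 : F)) (by rw [neg_pow_q hF, one_pow])
  rw [pow_succ] at hε
  have hε0 : ε ≠ 0 := fun h => by simp [h] at hε
  have e2 : (2 : F) ^ q = 2 := two_pow_q hF
  set S : GL (Fin 2) F := Matrix.GeneralLinearGroup.mkOfDetNeZero !![1, 1 / 2; ε, -ε / 2] (by
    rw [Matrix.det_fin_two_of, show 1 * (-ε / 2) - 1 / 2 * ε = -ε by field_simp; ring]
    exact neg_ne_zero.2 hε0) with hS
  have key : ∀ x y : Fin 2 → F,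
      Cfsg.hermForm 2 F q ((S : Matrix (Fin 2) (Fin 2) F) *ᵥ x)
        ((S : Matrix (Fin 2) (Fin 2) F) *ᵥ y) = iso2 q x y := by
    intro x y
    simp [hS, Cfsg.hermForm, iso2, Matrix.mulVec, dotProduct, Fin.sum_univ_two,
      Matrix.GeneralLinearGroup.mkOfDetNeZero, add_pow_q hF, mul_pow, div_pow, neg_pow_q hF, e2]
    field_simp
    linear_combination (2 * x 0 - x 1) * (2 * y 0 ^ q - y 1 ^ q) * hε
  have hmem : ∀ g : GL (Fin 2) F, g ∈ Cfsg.GU 2 F q ↔ S⁻¹ * g * S ∈ U2 F q := by
    intro g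
    have hval : ∀ x, ((S⁻¹ * g * S : GL (Fin 2) F) : Matrix (Fin 2) (Fin 2) F) *ᵥ x =
        ((S⁻¹ : GL (Fin 2) F) : Matrix (Fin 2) (Fin 2) F) *ᵥ ((g : Matrix (Fin 2) (Fin 2) F) *ᵥ
          ((S : Matrix (Fin 2) (Fin 2) F) *ᵥ x)) := fun x => by
      simp only [Units.val_mul, ← Matrix.mulVec_mulVec]
    have hSS : ∀ x, (S : Matrix (Fin 2) (Fin 2) F) *ᵥ
        (((S⁻¹ : GL (Fin 2) F) : Matrix (Fin 2) (Fin 2) F) *ᵥ x) = x := fun x => by
      rw [Matrix.mulVec_mulVec, ← Units.val_mul, mul_inv_cancel, Units.val_one, Matrix.one_mulVec]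
    constructor
    · intro hg x y
      show iso2 q _ _ = iso2 q x y
      rw [Units.coeHom_apply, hval, hval, ← key, hSS, hSS, ← key]
      exact hg _ _
    · intro hg x y
      have := hg (((S⁻¹ : GL (Fin 2) F) : Matrix (Fin 2) (Fin 2) F) *ᵥ x)
        (((S⁻¹ : GL (Fin 2) F) : Matrix (Fin 2) (Fin 2) F) *ᵥ y)
      rw [Units.coeHom_apply, hval, hval, ← key, ← key, hSS, hSS, hSS, hSS] at this
      exact this
  exact ⟨{
    toFun := fun g => ⟨S⁻¹ * g.1 * S, (hmem g.1).1 g.2⟩
    invFun := fun g => ⟨S * g.1 * S⁻¹, (hmem _).2 (by simpa [mul_assoc] using g.2)⟩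
    left_inv := fun g => Subtype.ext (by simp [mul_assoc])
    right_inv := fun g => Subtype.ext (by simp [mul_assoc])
    map_mul' := fun g g' => Subtype.ext (by simp [mul_assoc]) }⟩

theorem card_U2 (hF : Fintype.card F = q ^ 2) (h2n : (2 : F) ≠ 0) :
    Nat.card (U2 F q) = q * ((q + 1) * (q ^ 2 - 1)) := by
  obtain ⟨e⟩ := exists_equiv_GU hF h2n
  rw [← Nat.card_congr e.toEquiv, card_GU hF]
  simp [Finset.prod_range_succ]

end Cfsg.Agent.U3Recog
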