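import Cfsg.Agent.Lib.U3Recog.Large

/-!
# The doubly transitive action (owner: helper40)

* `oo`, `zero` : the two base points of `G ⧸ B`
* `fix_t`, `two_fix` : fixed points of involutions
* `card_J`, `card_points`, `exists_mem_B` : `q²` involutions, `q³ + 1` points, transitivity
* `exists_P` : the regular normal subgroup of the stabiliser
* `semiregular` : the torus is semiregular on `P / P0`
-/

set_option autoImplicit false
set_option linter.unusedSectionVars false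
set_option linter.style.haveILetI false

namespace Cfsg.Agent.U3Recog

open Subgroup Cfsg.Agent.Unitary
open scoped Pointwise

variable {G : Type*} [Group G] [Finite G] {F : Type*} [Field F] [Fintype F] {q p n : ℕ}

namespace Data

variable (D : Data G F q)

/-- The points. -/
abbrev Pt : Type _ := G ⧸ D.B

/-- The base point. -/
noncomputable def oo : D.Pt := ((1 : G) : D.Pt)

/-- The second base point. -/
noncomputable def zero : D.Pt := D.w • D.oo

include D

theorem smul_oo (g : G) : g • D.oo = ((g : G) : D.Pt) := by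
  rw [oo, MulAction.Quotient.smul_mk, smul_eq_mul, mul_one]

theorem smul_oo_eq {g g' : G} : g • D.oo = g' • D.oo ↔ g⁻¹ * g' ∈ D.B := by
  rw [smul_oo, smul_oo, QuotientGroup.eq]

theorem smul_oo_iff {g : G} : g • D.oo = D.oo ↔ g ∈ D.B := by
  rw [smul_oo, oo, QuotientGroup.eq, mul_one, inv_mem_iff]

theorem exists_rep (x : D.Pt) : ∃ g : G, x = g • D.oo := by
  obtain ⟨g, rfl⟩ := QuotientGroup.mk_surjective x
  exact ⟨g, (D.smul_oo g).symm⟩

theorem pi_mem_B {g : U2 F q} : D.π g ∈ D.B ↔ e10 g = 0 := by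
  constructor
  · intro h
    have h' : D.π g ∈ D.NB := D.B_inf_C ▸ (⟨h, D.mem_C g⟩ : D.π g ∈ D.B ⊓ _)
    obtain ⟨g', hg', he⟩ := h'
    obtain ⟨a, b, c⟩ := D.ker_scalar (g'⁻¹ * g) (by rw [MonoidHom.mem_ker, map_mul, map_inv, he,
      inv_mul_cancel])
    have hu : e10 g' = 0 := hg'
    rw [show g = g' * (g'⁻¹ * g) by group, e10_mul, hu, b, zero_mul, mul_zero, add_zero]
  · exact fun h => D.NB_le_B ⟨g, h, rfl⟩

theorem zero_eq : D.zero = D.π (wn D.hF) • D.oo := rfl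

theorem zero_ne_oo : D.zero ≠ D.oo := by
  rw [zero_eq, Ne, smul_oo_iff, pi_mem_B, (wn_entries D.hF).2.2.1]
  exact neg_ne_zero.2 one_ne_zero

theorem dd_zero (α : Fˣ) : D.π (dd D.hF α) • D.zero = D.zero := by
  rw [zero, ← mul_smul, smul_oo_eq]
  have : (D.π (dd D.hF α) * D.w)⁻¹ * D.w = (D.π (dd D.hF (α ^ q)⁻¹))⁻¹ := by
    rw [← D.w_dd, mul_inv_rev, mul_inv_rev, mul_inv_rev, D.w_inv]; group
  rw [this]
  exact D.B.inv_mem (D.NB_le_B (D.H_le_NB (D.dd_mem _)))

theorem H_zero {h : G} (hh : h ∈ D.H) : h • D.zero = D.zero := by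
  obtain ⟨α, rfl⟩ := D.mem_H.1 hh
  exact D.dd_zero α

theorem H_oo {h : G} (hh : h ∈ D.H) : h • D.oo = D.oo :=
  D.smul_oo_iff.2 (D.NB_le_B (D.H_le_NB hh))

theorem w_zero : D.w • D.zero = D.oo := by rw [zero, ← mul_smul, D.w_mul_w, one_smul]

theorem uu_zero_inj {c c' : F} {hc : c + c ^ q = 0} {hc' : c' + c' ^ q = 0}
    (h : D.π (uu D.hF c hc) • D.zero = D.π (uu D.hF c' hc') • D.zero) : c = c' := by
  rw [zero_eq, ← mul_smul, ← mul_smul, smul_oo_eq, ← map_mul, ← map_mul, ← map_inv, ← map_mul,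
    pi_mem_B] at h
  simp [mul_inv_rev, wn_inv, uu_inv] at h
  linear_combination -h

theorem uu_zero_ne_oo {c : F} {hc : c + c ^ q = 0} :
    D.π (uu D.hF c hc) • D.zero ≠ D.oo := by
  intro h
  refine D.zero_ne_oo ((MulAction.injective (D.π (uu D.hF c hc))) ?_)
  beta_reduce
  rw [h, (D.smul_oo_iff.2 (D.NB_le_B (D.P0_le_NB (D.uu_mem c hc))))]

theorem t_fix_oo : D.t • D.oo = D.oo := D.smul_oo_iff.2 D.t_mem_B

theorem fix_t {x : D.Pt} :
    D.t • x = x ↔ x = D.oo ∨ ∃ (c : F) (hc : c + c ^ q = 0), x = D.π (uu D.hF c hc) • D.zero := by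
  constructor
  · intro h
    obtain ⟨g, rfl⟩ := D.exists_rep x
    rw [← mul_smul, smul_oo_eq] at h
    have hb : g⁻¹ * D.t * g ∈ D.B := by
      have := D.B.inv_mem h
      simpa [mul_assoc] using this
    have hcp := D.J_comm hb (by
      rw [show g⁻¹ * D.t * g = g⁻¹ * D.t * g⁻¹⁻¹ by rw [inv_inv], Involution.orderOf_conj,
        D.orderOf_t])
    have hX : MulAut.conj g • D.P0 ≤ centralizer ({D.t} : Set G) := by
      intro y hy
      obtain ⟨u, hu, rfl⟩ := Subgroup.mem_map.1 hy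
      refine mem_centralizer_singleton_iff.2 ?_
      have hc := D.mem_CP.1 hcp u hu
      show g * u * g⁻¹ * D.t = D.t * (g * u * g⁻¹)
      calc g * u * g⁻¹ * D.t = g * (u * (g⁻¹ * D.t * g)) * g⁻¹ := by group
        _ = g * (g⁻¹ * D.t * g * u) * g⁻¹ := by rw [hc]
        _ = _ := by group
    obtain ⟨g', hg'⟩ := D.root_conj hX
      ((Nat.card_congr (Subgroup.equivSMul (MulAut.conj g) D.P0).toEquiv).symm.trans D.card_P0)
    have hx : g • D.oo = D.π g' • D.oo := by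
      rw [smul_oo_eq]
      refine Coprime.mem_normalizer_of_conj_eq ?_
      rw [map_mul, map_inv, mul_smul, ← hg', inv_smul_smul]
    rw [hx]
    by_cases h10 : e10 g' = 0
    · exact Or.inl (D.smul_oo_iff.2 (D.pi_mem_B.2 h10))
    · obtain ⟨hc, c', hc', α, he⟩ := bruhat D.hF g' h10
      refine Or.inr ⟨_, hc, ?_⟩
      conv_lhs => rw [he]
      rw [map_mul, map_mul, map_mul, mul_smul, mul_smul, mul_smul, D.H_oo (D.dd_mem α),
        D.smul_oo_iff.2 (D.NB_le_B (D.P0_le_NB (D.uu_mem c' hc')))]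
      rfl
  · rintro (rfl | ⟨c, hc, rfl⟩)
    · exact D.t_fix_oo
    · rw [← mul_smul, ← (D.comm_t (uu D.hF c hc)).eq, mul_smul]
      congr 1
      rw [zero, ← mul_smul, ← (show D.w * D.t = D.t * D.w from (D.comm_t (wn D.hF)).eq), mul_smul,
        D.t_fix_oo]

/-- An involution of `B` and a second fixed point form a frame conjugate to the base one. -/
theorem frame {s : G} (hs : s ∈ D.B) (ho : orderOf s = 2) {y : D.Pt} (hy : y ≠ D.oo)
    (hsy : s • y = y) : ∃ h ∈ D.B, h • D.zero = y ∧ h * D.t * h⁻¹ = s := by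
  obtain ⟨x, hx, rfl⟩ := D.B_two.1 s hs ho
  have h1 : D.t • (x⁻¹ • y) = x⁻¹ • y := by
    conv_rhs => rw [← hsy]
    simp [← mul_smul, mul_assoc]
  rcases D.fix_t.1 h1 with h | ⟨c, hc, h⟩
  · refine absurd ?_ hy
    rw [inv_smul_eq_iff] at h
    rw [h, D.smul_oo_iff.2 hx]
  · refine ⟨x * D.π (uu D.hF c hc), D.B.mul_mem hx (D.NB_le_B (D.P0_le_NB (D.uu_mem c hc))), ?_, ?_⟩
    · rw [mul_smul, ← h, smul_inv_smul]
    · calc x * D.π (uu D.hF c hc) * D.t * (x * D.π (uu D.hF c hc))⁻¹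
          = x * (D.π (uu D.hF c hc) * D.t * (D.π (uu D.hF c hc))⁻¹) * x⁻¹ := by group
        _ = x * D.t * x⁻¹ := by rw [(D.comm_t _).eq, mul_inv_cancel_right]

theorem fix_base {s : G} (ho : orderOf s = 2) (h1 : s • D.oo = D.oo) (h2 : s • D.zero = D.zero) :
    s = D.t := by
  have hB := D.smul_oo_iff.1 h1
  have hB' : D.w * s * D.w ∈ D.B := by
    rw [← smul_oo_iff, mul_smul, mul_smul, ← zero, h2, w_zero]
  have ho' : orderOf (D.w * s * D.w) = 2 := by
    rw [← ho]; nth_rw 2 [← D.w_inv]; exact Involution.orderOf_conj _ _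
  have hc1 := D.mem_CP.1 (D.J_comm hB ho)
  have hc2 := D.mem_CP.1 (D.J_comm hB' ho')
  have ht : D.t ∈ centralizer ({s} : Set G) := by
    refine D.t_mem_of_two_roots (g := wn D.hF)
      (fun u hu => mem_centralizer_singleton_iff.2 (hc1 u hu).symm) ?_ ?_
    · intro y hy
      obtain ⟨u, hu, rfl⟩ := Subgroup.mem_map.1 hy
      refine mem_centralizer_singleton_iff.2 ?_
      show D.w * u * D.w⁻¹ * s = s * (D.w * u * D.w⁻¹)
      have := hc2 u hu
      rw [D.w_inv]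
      calc D.w * u * D.w * s = D.w * (u * (D.w * s * D.w)) * D.w⁻¹ := by
            simp [mul_assoc]
        _ = D.w * (D.w * s * D.w * u) * D.w⁻¹ := by rw [this]
        _ = _ := by simp [mul_assoc, D.w_inv, ← mul_assoc D.w D.w, D.w_mul_w]
    · rw [(wn_entries D.hF).2.2.1]; exact neg_ne_zero.2 one_ne_zero
  have hsNB : s ∈ D.NB := by
    rw [← D.B_inf_C]
    exact ⟨hB, mem_centralizer_singleton_iff.2 (mem_centralizer_singleton_iff.1 ht).symm⟩
  obtain ⟨c, hc, α, rfl⟩ := D.mem_NB.1 hsNB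
  rw [mul_smul, D.dd_zero] at h2
  have h3 : D.π (uu D.hF c hc) • D.zero = D.π (uu D.hF 0 (skew_zero D.hF)) • D.zero := by
    rw [h2, uu_zero, map_one, one_smul]
  obtain rfl := D.uu_zero_inj h3
  refine eq_of_cyclic D.H_cyclic ho D.orderOf_t ?_ D.t_mem_H
  rw [uu_zero, map_one, one_mul]
  exact D.dd_mem α

/-- Two points determine their involution. -/
theorem two_fix {s s' : G} {x y : D.Pt} (hne : x ≠ y) (ho : orderOf s = 2) (ho' : orderOf s' = 2)
    (hx : s • x = x) (hy : s • y = y) (hx' : s' • x = x) (hy' : s' • y = y) : s' = s := by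
  obtain ⟨g, rfl⟩ := D.exists_rep x
  have tr : ∀ r : G, r • g • D.oo = g • D.oo → g⁻¹ * r * g ∈ D.B := fun r hr => by
    rw [← smul_oo_iff, mul_smul, mul_smul, hr, inv_smul_smul]
  have tr' : ∀ r : G, r • y = y → (g⁻¹ * r * g) • g⁻¹ • y = g⁻¹ • y := fun r hr => by
    rw [mul_smul, mul_smul, smul_inv_smul, hr]
  have ord : ∀ r : G, orderOf r = 2 → orderOf (g⁻¹ * r * g) = 2 := fun r hr => by
    rw [show g⁻¹ * r * g = g⁻¹ * r * g⁻¹⁻¹ by rw [inv_inv], Involution.orderOf_conj, hr]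
  have hy0 : g⁻¹ • y ≠ D.oo := fun h => hne (by rw [← h, smul_inv_smul])
  obtain ⟨h, hh, hz, hht⟩ := D.frame (tr s hx) (ord s ho) hy0 (tr' s hy)
  have key : h⁻¹ * (g⁻¹ * s' * g) * h = D.t := by
    refine D.fix_base ?_ ?_ ?_
    · rw [show h⁻¹ * (g⁻¹ * s' * g) * h = h⁻¹ * (g⁻¹ * s' * g) * h⁻¹⁻¹ by rw [inv_inv],
        Involution.orderOf_conj, ord s' ho']
    · rw [mul_smul, mul_smul, D.smul_oo_iff.2 hh, D.smul_oo_iff.2 (tr s' hx'),
        D.smul_oo_iff.2 (D.B.inv_mem hh)]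
    · rw [mul_smul, mul_smul, hz, tr' s' hy', ← hz, inv_smul_smul]
  rw [← key] at hht
  calc s' = g * (h * (h⁻¹ * (g⁻¹ * s' * g) * h) * h⁻¹) * g⁻¹ := by group
    _ = s := by rw [hht]; group

/-- The map from involutions of `B` with a parameter to the other points. -/
theorem exists_phi : ∃ φ : D.J × {c : F // c + c ^ q = 0} → {y : D.Pt // y ≠ D.oo},
    Function.Injective φ ∧ ∀ a, a.1.1 • (φ a).1 = (φ a).1 ∧ ∃ b ∈ D.B, b • D.zero = (φ a).1 := by
  choose x hx hxe using fun s : D.J => D.B_two.1 s.1 s.2.1 s.2.2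
  have hoo : ∀ s c, (x s * D.π (uu D.hF (c : {c : F // c + c ^ q = 0}).1 c.2)) • D.oo = D.oo :=
    fun s c => D.smul_oo_iff.2
      (D.B.mul_mem (hx s) (D.NB_le_B (D.P0_le_NB (D.uu_mem c.1 c.2))))
  have hfix : ∀ (s : D.J) (c : {c : F // c + c ^ q = 0}),
      s.1 • ((x s * D.π (uu D.hF c.1 c.2)) • D.zero) = (x s * D.π (uu D.hF c.1 c.2)) • D.zero := by
    intro s c
    rw [← hxe s]
    have h := D.fix_t.2 (Or.inr ⟨c.1, c.2, rfl⟩)
    rw [mul_smul (x s), ← mul_smul, inv_mul_cancel_right, mul_smul, h]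
  refine ⟨fun a => ⟨(x a.1 * D.π (uu D.hF a.2.1 a.2.2)) • D.zero, fun h => D.zero_ne_oo
    (MulAction.injective _ (h.trans (hoo a.1 a.2).symm))⟩, ?_, fun a => ⟨hfix a.1 a.2, _,
      D.B.mul_mem (hx a.1) (D.NB_le_B (D.P0_le_NB (D.uu_mem a.2.1 a.2.2))), rfl⟩⟩
  rintro ⟨s, c⟩ ⟨s', c'⟩ h
  have h : (x s * D.π (uu D.hF c.1 c.2)) • D.zero = (x s' * D.π (uu D.hF c'.1 c'.2)) • D.zero :=
    congrArg Subtype.val h
  have hs : s' = s := by
    refine Subtype.ext (D.two_fix (x := D.oo) (y := (x s * D.π (uu D.hF c.1 c.2)) • D.zero)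
      (fun e => D.zero_ne_oo (MulAction.injective _ (e.symm.trans (hoo s c).symm))) s.2.2 s'.2.2
      (D.smul_oo_iff.2 s.2.1) (hfix s c) (D.smul_oo_iff.2 s'.2.1) ?_)
    rw [h]; exact hfix s' c'
  subst hs
  rw [mul_smul, mul_smul] at h
  exact Prod.ext rfl (Subtype.ext (D.uu_zero_inj (MulAction.injective _ h)))

theorem card_ne_oo : Nat.card {y : D.Pt // y ≠ D.oo} = Nat.card D.Pt - 1 := by
  classical
  haveI := Fintype.ofFinite D.Pt
  rw [Nat.card_eq_fintype_card, Nat.card_eq_fintype_card, Fintype.card_subtype_compl,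
    Fintype.card_subtype_eq]

theorem card_points_mul : Nat.card D.Pt * Nat.card D.J = q ^ 2 * (q ^ 3 + 1) := by
  have h := D.hcard
  have hB := D.card_B
  have hH := D.card_H
  rw [← D.B.index_mul_card, index_eq_card, hB] at h
  refine Nat.eq_of_mul_eq_mul_right (m := q * (q ^ 2 - 1))
    (Nat.mul_pos (by have := D.q_ge; omega) (Nat.pos_of_ne_zero D.sq_sub_pos)) ?_
  calc Nat.card D.Pt * Nat.card D.J * (q * (q ^ 2 - 1))
      = Nat.card D.Pt * Nat.card D.J * q * (Nat.card D.H * Nat.card D.π.ker) := by rw [hH]; ring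
    _ = q ^ 3 * (q ^ 3 + 1) * (q ^ 2 - 1) := by rw [← h]; ring
    _ = _ := by ring

theorem card_J : Nat.card D.J = q ^ 2 := by
  obtain ⟨p, n, hp, -, hqp, hn⟩ := exists_prime_pow D.hF
  obtain ⟨φ, hφ, -⟩ := D.exists_phi
  have h1 := Nat.card_le_card_of_injective φ hφ
  rw [Nat.card_prod, card_trace_zero D.hF, D.card_ne_oo] at h1
  have h2 := D.card_points_mul
  have hq := D.q_ge
  haveI : Nonempty D.J := ⟨⟨D.t, D.t_mem_B, D.orderOf_t⟩⟩
  have hpos : 0 < Nat.card D.J := Nat.card_pos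
  have hd := D.sq_dvd_J hp hqp hn
  obtain ⟨c, hc⟩ := hd
  have hN : Nat.card D.J * q + 1 ≤ Nat.card D.Pt := by
    have : 0 < Nat.card D.Pt := Nat.card_pos
    omega
  have h3 : (Nat.card D.J * q + 1) * Nat.card D.J ≤ q ^ 2 * (q ^ 3 + 1) :=
    h2 ▸ Nat.mul_le_mul_right _ hN
  rw [hc] at h3 hpos
  rcases c with _ | _ | c
  · simp at hpos
  · rw [hc]; simp
  · exfalso
    have hge : q ^ 2 * 2 ≤ q ^ 2 * (c + 1 + 1) := Nat.mul_le_mul_left _ (by omega)
    have h4 : (q ^ 2 * 2 * q + 1) * (q ^ 2 * 2) ≤ q ^ 2 * (q ^ 3 + 1) :=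
      le_trans (Nat.mul_le_mul (Nat.add_le_add_right (Nat.mul_le_mul_right q hge) 1) hge) h3
    have h5 : q ^ 2 * (q ^ 3 + 1) < (q ^ 2 * 2 * q + 1) * (q ^ 2 * 2) := by
      have e : (q ^ 2 * 2 * q + 1) * (q ^ 2 * 2) = q ^ 2 * (q ^ 3 + 1) + q ^ 2 * (3 * q ^ 3 + 1) := by
        ring
      have : 0 < q ^ 2 * (3 * q ^ 3 + 1) :=
        Nat.mul_pos (pow_pos (by omega) 2) (Nat.succ_pos _)
      omega
    omega

theorem card_points : Nat.card D.Pt = q ^ 3 + 1 := by
  have h := D.card_points_mul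
  rw [D.card_J, mul_comm] at h
  exact Nat.eq_of_mul_eq_mul_left (pow_pos (by have := D.q_ge; omega) 2) h

theorem card_B' : Nat.card D.B = q ^ 3 * Nat.card D.H := by rw [D.card_B, D.card_J]; ring

/-- Every other point is in the orbit of `zero` and is fixed by an involution of `B`. -/
theorem exists_mem_B {y : D.Pt} (hy : y ≠ D.oo) :
    ∃ b ∈ D.B, b • D.zero = y := by
  obtain ⟨φ, hφ, hprop⟩ := D.exists_phi
  have hbij : Function.Bijective φ := (Nat.bijective_iff_injective_and_card φ).2 ⟨hφ, by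
    rw [Nat.card_prod, card_trace_zero D.hF, D.card_ne_oo, D.card_points, D.card_J]
    rw [Nat.add_sub_cancel]; ring⟩
  obtain ⟨a, ha⟩ := hbij.2 ⟨y, hy⟩
  obtain ⟨-, b, hb, h⟩ := hprop a
  exact ⟨b, hb, by rw [h, ha]⟩

/-- The two-point stabiliser is the torus. -/
theorem stab_two {g : G} (h1 : g • D.oo = D.oo) (h2 : g • D.zero = D.zero) : g ∈ D.H := by
  have hg : g * D.t * g⁻¹ = D.t := by
    refine D.fix_base (by rw [Involution.orderOf_conj, D.orderOf_t]) ?_ ?_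
    · rw [mul_smul, mul_smul, inv_smul_eq_iff.2 h1.symm, D.t_fix_oo, h1]
    · rw [mul_smul, mul_smul, inv_smul_eq_iff.2 h2.symm, D.fix_t.2 (Or.inr ⟨0, skew_zero D.hF,
        by rw [uu_zero, map_one, one_smul]⟩), h2]
  have hNB : g ∈ D.NB := by
    rw [← D.B_inf_C]
    exact ⟨D.smul_oo_iff.1 h1, mem_centralizer_singleton_iff.2 (mul_inv_eq_iff_eq_mul.1 hg)⟩
  obtain ⟨c, hc, α, rfl⟩ := D.mem_NB.1 hNB
  rw [mul_smul, D.dd_zero] at h2
  have h3 : D.π (uu D.hF c hc) • D.zero = D.π (uu D.hF 0 (skew_zero D.hF)) • D.zero := by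
    rw [h2, uu_zero, map_one, one_smul]
  obtain rfl := D.uu_zero_inj h3
  rw [uu_zero, map_one, one_mul]
  exact D.dd_mem α

/-- The regular normal subgroup. -/
theorem exists_P : ∃ P : Subgroup G, D.P0 ≤ P ∧ P ≤ D.CP ∧ D.B ≤ normalizer (P : Set G) ∧
    Nat.card P = q ^ 3 := by
  obtain ⟨p, n, hp, -, hqp, hn⟩ := exists_prime_pow D.hF
  haveI := Fact.mk hp
  obtain ⟨Q, hQ, hQ0, hQCP, hQc⟩ := D.exists_large hp hqp hn
  have hQc' : Nat.card Q = q ^ 3 := le_antisymm (D.card_le_cube hp hqp hn hQ) hQc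
  have hcop : (Nat.card Q).Coprime (Nat.card D.H) := by
    obtain ⟨k, hk⟩ := hQ.exists_card_eq
    rw [hk]; exact (D.coprime_p_H hp hqp hn).pow_left k
  -- `CP` has order `q ^ 3 |ZC|`
  have hcpz : Nat.card D.CP = q ^ 3 * Nat.card D.ZC := by
    have hinj : Function.Injective (fun x : Q =>
        (⟨(x : G) • D.zero, fun h => D.zero_ne_oo (MulAction.injective (x : G) (h.trans
          (D.smul_oo_iff.2 (D.CP_le_B (hQCP x.2))).symm))⟩ : {y : D.Pt // y ≠ D.oo})) := by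
      intro a b h
      have h : (a : G) • D.zero = (b : G) • D.zero := congrArg Subtype.val h
      have hh : (b : G)⁻¹ * a ∈ D.H := D.stab_two
        (D.smul_oo_iff.2 (D.CP_le_B (hQCP (Q.mul_mem (Q.inv_mem b.2) a.2))))
        (by rw [mul_smul, h, inv_smul_smul])
      refine Subtype.ext (inv_mul_eq_one.1 (orderOf_eq_one_iff.1
        (Nat.eq_one_of_dvd_coprimes hcop ?_ ?_))).symm
      · rw [← Subgroup.orderOf_mk _ (Q.mul_mem (Q.inv_mem b.2) a.2)]; exact orderOf_dvd_natCard _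
      · rw [← Subgroup.orderOf_mk _ hh]; exact orderOf_dvd_natCard _
    have hsurj := ((Nat.bijective_iff_injective_and_card _).2 ⟨hinj, by
      rw [D.card_ne_oo, D.card_points, hQc', Nat.add_sub_cancel]⟩).2
    rw [← hQc', ← Nat.card_prod]
    refine (Nat.card_congr (Equiv.ofBijective (fun x : Q × D.ZC =>
      (⟨x.1 * x.2, D.CP.mul_mem (hQCP x.1.2) (D.ZC_le_CP x.2.2)⟩ : D.CP))
      ⟨fun a b h => ?_, fun x => ?_⟩)).symm
    · have h' : (a.1 : G) * a.2 = b.1 * b.2 := congrArg Subtype.val h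
      have e1 : a.1 = b.1 := hinj (Subtype.ext (by
        show (a.1 : G) • D.zero = (b.1 : G) • D.zero
        calc (a.1 : G) • D.zero = ((a.1 : G) * a.2) • D.zero := by
              rw [mul_smul, D.H_zero (D.ZC_le_H a.2.2)]
          _ = _ := by rw [h', mul_smul, D.H_zero (D.ZC_le_H b.2.2)]))
      rw [e1] at h'
      exact Prod.ext e1 (Subtype.ext (mul_left_cancel h'))
    · obtain ⟨y, hy⟩ := hsurj ⟨(x : G) • D.zero, fun h => D.zero_ne_oo (MulAction.injective (x : G)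
        (h.trans (D.smul_oo_iff.2 (D.CP_le_B x.2)).symm))⟩
      have hy' : (y : G) • D.zero = (x : G) • D.zero := congrArg Subtype.val hy
      have hCP : (y : G)⁻¹ * x ∈ D.CP := D.CP.mul_mem (D.CP.inv_mem (hQCP y.2)) x.2
      have hh : (y : G)⁻¹ * x ∈ D.H := D.stab_two (D.smul_oo_iff.2 (D.CP_le_B hCP))
        (by rw [mul_smul, ← hy', inv_smul_smul])
      obtain ⟨u, hu, z, hz, he⟩ := D.CP_inf_C hCP (D.H_le_C hh)
      have hu1 : u = 1 := D.P0_inter_H hu (by
        rw [show u = (y : G)⁻¹ * x * z⁻¹ by rw [he, mul_inv_cancel_right]]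
        exact D.H.mul_mem hh (D.H.inv_mem (D.ZC_le_H hz)))
      rw [hu1, one_mul] at he
      exact ⟨(y, ⟨z, hz⟩), Subtype.ext (show (y : G) * z = x by rw [← he, mul_inv_cancel_left])⟩
  have hcopz : (q ^ 3).Coprime (Nat.card D.ZC) := by
    rw [← hQc']
    exact hcop.coprime_dvd_right (Subgroup.card_dvd_of_le D.ZC_le_H)
  -- the complement
  obtain ⟨N, hN, hNc⟩ := Transfer.exists_normal_complement_of_normalizer_le_centralizer
    (D.ZC.subgroupOf D.CP) (by
      have hidx := (D.ZC.subgroupOf D.CP).card_mul_index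
      rw [Nat.card_congr (subgroupOfEquivOfLe D.ZC_le_CP).toEquiv, hcpz, mul_comm (q ^ 3)] at hidx
      rw [Nat.card_congr (subgroupOfEquivOfLe D.ZC_le_CP).toEquiv,
        Nat.eq_of_mul_eq_mul_left Nat.card_pos hidx]
      exact hcopz.symm) (by
      intro x hx
      have hxt : (x : G) * D.t * (x : G)⁻¹ = D.t := by
        refine eq_of_cyclic ((subgroupOfEquivOfLe D.ZC_le_H).isCyclic.1
          (haveI := D.H_cyclic; inferInstance)) (by rw [Involution.orderOf_conj, D.orderOf_t])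
          D.orderOf_t ?_ D.t_mem_ZC
        exact (mem_normalizer_iff.1 hx ⟨D.t, D.ZC_le_CP D.t_mem_ZC⟩).1 D.t_mem_ZC
      obtain ⟨u, hu, z, hz, he⟩ := D.CP_inf_C x.2
        (mem_centralizer_singleton_iff.2 (mul_inv_eq_iff_eq_mul.1 hxt))
      refine mem_centralizer_iff.2 fun y hy => Subtype.ext ?_
      show (y : G) * x = x * y
      have h1 : Commute (y : G) u := D.mem_CP.1 (D.ZC_le_CP hy) u hu
      have h2 : Commute (y : G) z := congrArg Subtype.val
        ((D.H_cyclic.isMulCommutative).is_comm.comm ⟨(y : G), D.ZC_le_H hy⟩ ⟨z, D.ZC_le_H hz⟩)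
      rw [he]
      exact (h1.mul_right h2).eq)
  have hNcard : Nat.card N = q ^ 3 := by
    have h := hNc.card_mul_card
    rw [Nat.card_congr (subgroupOfEquivOfLe D.ZC_le_CP).toEquiv, hcpz] at h
    exact Nat.eq_of_mul_eq_mul_right Nat.card_pos h
  have hmem : ∀ x : D.CP, x ^ q ^ 3 = 1 → x ∈ N := by
    intro x hx
    haveI := hN
    rw [← QuotientGroup.eq_one_iff, ← orderOf_eq_one_iff]
    refine Nat.eq_one_of_dvd_coprimes hcopz
      ((orderOf_map_dvd (QuotientGroup.mk' N) x).trans (orderOf_dvd_of_pow_eq_one hx)) ?_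
    rw [← Nat.card_congr (subgroupOfEquivOfLe D.ZC_le_CP).toEquiv, ← hNc.symm.index_eq_card,
      index_eq_card]
    exact orderOf_dvd_natCard _
  refine ⟨N.map D.CP.subtype, fun x hx => ⟨⟨x, D.P0_le_CP hx⟩, hmem _ (Subtype.ext ?_), rfl⟩,
    map_subtype_le _, fun b hb => ?_, by rw [card_map_of_injective D.CP.subtype_injective, hNcard]⟩
  · show x ^ q ^ 3 = 1
    rw [← orderOf_dvd_iff_pow_eq_one]
    refine Dvd.dvd.trans ?_ (dvd_pow_self q three_ne_zero)
    refine Dvd.dvd.trans ?_ (dvd_of_eq D.card_P0)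
    rw [← Subgroup.orderOf_mk x hx]
    exact orderOf_dvd_natCard _
  · have key : ∀ c ∈ D.B, ∀ x ∈ N.map D.CP.subtype, c * x * c⁻¹ ∈ N.map D.CP.subtype := by
      rintro c hc _ ⟨x, hx, rfl⟩
      have hCP : c * (x : G) * c⁻¹ ∈ D.CP := by
        refine D.mem_CP.2 fun y hy => ?_
        have h1 : c⁻¹ * y * c ∈ D.P0 := by simpa using D.conj_mem_of_mem_B (D.B.inv_mem hc) hy
        calc c * (x : G) * c⁻¹ * y = c * (x * (c⁻¹ * y * c)) * c⁻¹ := by group
          _ = c * (c⁻¹ * y * c * x) * c⁻¹ := by rw [D.mem_CP.1 x.2 _ h1]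
          _ = y * (c * x * c⁻¹) := by group
      refine ⟨⟨_, hCP⟩, hmem _ (Subtype.ext ?_), rfl⟩
      show (c * (x : G) * c⁻¹) ^ q ^ 3 = 1
      rw [conj_pow, ← Subgroup.coe_pow, ← hNcard]
      have : (⟨x, hx⟩ : N) ^ Nat.card N = 1 := pow_card_eq_one'
      have h2 : x ^ Nat.card N = 1 := congrArg Subtype.val this
      rw [h2, OneMemClass.coe_one, mul_one, mul_inv_cancel]
    refine mem_normalizer_iff.2 fun x => ⟨key b hb x, fun hx => ?_⟩
    simpa [mul_assoc] using key b⁻¹ (D.B.inv_mem hb) _ hx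

end Data

end Cfsg.Agent.U3Recog
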