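import Cfsg.Agent.Lib.U3Recog.Law
import Cfsg.Agent.Lib.Unitary.Simple

/-!
# Identification with `PSU₃(q)` (owner: helper40)

* `mkSU` : elements of `SU₃` given in the basis `R, S, E` (`R, S` isotropic, `h(R, S) = 1`)
* `Chart.line` : the points correspond to the isotropic lines
* `iso_PSU` : a simple group with the data is isomorphic to `PSU₃(q)`
-/

set_option autoImplicit false
set_option linter.unusedSectionVars false
set_option linter.style.haveILetI false

namespace Cfsg.Agent.U3Recog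

open Subgroup Cfsg.Agent.Unitary
open scoped Matrix

variable {F : Type*} [Field F] {q : ℕ}

/-- The columns `R = (1, ε, 0)`, `S = (1/2, -ε/2, 0)`, `E = (0, 0, 1)`. -/
def pm (ε : F) : Matrix (Fin 3) (Fin 3) F := !![1, 1 / 2, 0; ε, -ε / 2, 0; 0, 0, 1]

/-- The inverse of `pm`. -/
def pmi (ε : F) : Matrix (Fin 3) (Fin 3) F := !![1 / 2, 1 / (2 * ε), 0; 1, -1 / ε, 0; 0, 0, 1]

/-- The form in the new basis. -/
def iso3 (q : ℕ) (x y : Fin 3 → F) : F := x 0 * y 1 ^ q + x 1 * y 0 ^ q + x 2 * y 2 ^ q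

variable [Fintype F] (hF : Fintype.card F = q ^ 2) (h2 : (2 : F) ≠ 0) {ε : F}
  (hε : ε ^ q * ε = -1)
include hF h2 hε

theorem eps_ne : ε ≠ 0 := fun h => by simp [h] at hε

theorem pmi_mul : pmi ε * pm ε = 1 := by
  have := eps_ne hF h2 hε
  ext i j
  fin_cases i <;> fin_cases j <;>
    simp [pm, pmi, Matrix.mul_apply, Fin.sum_univ_three] <;> field_simp <;> ring

theorem pm_mul : pm ε * pmi ε = 1 := mul_eq_one_comm.1 (pmi_mul hF h2 hε)

theorem herm_pm (x y : Fin 3 → F) :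
    Cfsg.hermForm 3 F q (pm ε *ᵥ x) (pm ε *ᵥ y) = iso3 q x y := by
  simp [pm, Cfsg.hermForm, iso3, Matrix.mulVec, dotProduct, Fin.sum_univ_three, add_pow_q hF,
    mul_pow, div_pow, neg_pow_q hF, zero_pow_q hF, two_pow_q hF]
  field_simp
  linear_combination (2 * x 0 - x 1) * (2 * y 0 ^ q - y 1 ^ q) * hε

theorem pm_pmi (x : Fin 3 → F) : pm ε *ᵥ (pmi ε *ᵥ x) = x := by
  rw [Matrix.mulVec_mulVec, pm_mul hF h2 hε, Matrix.one_mulVec]

theorem pm_injective {x y : Fin 3 → F} (h : pm ε *ᵥ x = pm ε *ᵥ y) : x = y := by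
  have := congrArg (fun z => pmi ε *ᵥ z) h
  simpa [Matrix.mulVec_mulVec, pmi_mul hF h2 hε] using this

theorem conj_unitary {U : Matrix (Fin 3) (Fin 3) F}
    (hU : ∀ x y, iso3 q (U *ᵥ x) (U *ᵥ y) = iso3 q x y) : IsUnitary q (pm ε * U * pmi ε) := by
  intro x y
  conv_rhs => rw [← pm_pmi hF h2 hε x, ← pm_pmi hF h2 hε y, herm_pm hF h2 hε]
  rw [← Matrix.mulVec_mulVec, ← Matrix.mulVec_mulVec, ← Matrix.mulVec_mulVec,
    ← Matrix.mulVec_mulVec, herm_pm hF h2 hε, hU]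

theorem conj_det {U : Matrix (Fin 3) (Fin 3) F} (hd : U.det = 1) :
    (pm ε * U * pmi ε).det = 1 := by
  rw [Matrix.det_mul, Matrix.det_mul, hd, mul_one, ← Matrix.det_mul, pm_mul hF h2 hε,
    Matrix.det_one]

/-- An element of `SU₃` given in the new basis. -/
noncomputable def mkSU (U : Matrix (Fin 3) (Fin 3) F)
    (hU : ∀ x y, iso3 q (U *ᵥ x) (U *ᵥ y) = iso3 q x y) (hd : U.det = 1) : Cfsg.SU 3 F q :=
  suOfUnitary _ (conj_unitary hF h2 hε hU) (conj_det hF h2 hε hd)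

theorem mkSU_act (U : Matrix (Fin 3) (Fin 3) F)
    (hU : ∀ x y, iso3 q (U *ᵥ x) (U *ᵥ y) = iso3 q x y) (hd : U.det = 1) (x : Fin 3 → F) :
    suAct (mkSU hF h2 hε U hU hd) (pm ε *ᵥ x) = pm ε *ᵥ (U *ᵥ x) := by
  show (pm ε * U * pmi ε) *ᵥ (pm ε *ᵥ x) = _
  rw [Matrix.mulVec_mulVec, mul_assoc, pmi_mul hF h2 hε, mul_one, Matrix.mulVec_mulVec]

theorem iso_of {x : Fin 3 → F} (h : iso3 q x x = 0) :
    Cfsg.hermForm 3 F q (pm ε *ᵥ x) (pm ε *ᵥ x) = 0 := by
  rw [herm_pm hF h2 hε, h]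

theorem ne_of {x : Fin 3 → F} (h : x ≠ 0) : pm ε *ᵥ x ≠ 0 := fun e =>
  h (pm_injective hF h2 hε (e.trans (Matrix.mulVec_zero _).symm))

/-- The isotropic line of a vector in the new basis. -/
noncomputable def lineOf (x : Fin 3 → F) (hx : x ≠ 0) (h : iso3 q x x = 0) : IsoLine 3 F q :=
  IsoLine.mk (pm ε *ᵥ x) (ne_of hF h2 hε hx) (iso_of hF h2 hε h)

theorem lineOf_eq {x y : Fin 3 → F} {hx : x ≠ 0} {hy : y ≠ 0} {h : iso3 q x x = 0}
    {h' : iso3 q y y = 0} :
    lineOf hF h2 hε x hx h = lineOf hF h2 hε y hy h' ↔ ∃ c : F, c • y = x := by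
  rw [lineOf, lineOf, IsoLine.mk_eq_iff]
  refine exists_congr fun c => ?_
  rw [← Matrix.mulVec_smul]
  exact ⟨fun e => pm_injective hF h2 hε e, fun e => by rw [e]⟩

theorem mkSU_line (U : Matrix (Fin 3) (Fin 3) F)
    (hU : ∀ x y, iso3 q (U *ᵥ x) (U *ᵥ y) = iso3 q x y) (hd : U.det = 1) {x y : Fin 3 → F}
    {hx : x ≠ 0} {hy : y ≠ 0} {h : iso3 q x x = 0} {h' : iso3 q y y = 0}
    (c : F) (hc : c • y = U *ᵥ x) :
    mkSU hF h2 hε U hU hd • lineOf hF h2 hε x hx h = lineOf hF h2 hε y hy h' := by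
  rw [lineOf, lineOf, IsoLine.smul_mk, IsoLine.mk_eq_iff]
  exact ⟨c, by rw [← Matrix.mulVec_smul, hc, mkSU_act]⟩

variable {κ : F} (hκ : κ ^ q * κ = -2)
include hκ

theorem kappa_ne : κ ≠ 0 := fun h => h2 (by rw [h] at hκ; simpa using hκ.symm)

theorem iso_pt {a b : F} (h : Ok q a b) : iso3 q ![b, 1, κ * a] ![b, 1, κ * a] = 0 := by
  rw [Ok] at h
  simp [iso3, mul_pow]
  linear_combination h + a ^ q * a * hκ

omit hκ in
theorem iso_inf : iso3 q (![1, 0, 0] : Fin 3 → F) ![1, 0, 0] = 0 := by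
  simp [iso3, zero_pow_q hF]

omit hF h2 hε hκ in
theorem pt_ne {a b : F} : (![b, 1, κ * a] : Fin 3 → F) ≠ 0 := fun h => by
  simpa using congrFun h 1

omit hF h2 hε hκ in
theorem inf_ne : (![1, 0, 0] : Fin 3 → F) ≠ 0 := fun h => by
  simpa using congrFun h 0

omit hκ in
theorem exists_coord (p : IsoLine 3 F q) : ∃ (x : Fin 3 → F) (hx : x ≠ 0) (h : iso3 q x x = 0),
    p = lineOf hF h2 hε x hx h := by
  obtain ⟨v, hv, hv0, rfl⟩ := p.exists_mk
  refine ⟨pmi ε *ᵥ v, fun e => hv ?_, ?_, ?_⟩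
  · rw [← pm_pmi hF h2 hε v, e, Matrix.mulVec_zero]
  · rw [← herm_pm hF h2 hε, pm_pmi hF h2 hε, hv0]
  · simp only [lineOf, pm_pmi hF h2 hε]

variable {G : Type*} [Group G] [Finite G] (C : Chart G F q) [IsSimpleGroup G]

/-- The lines of the points. -/
noncomputable def lineMap : Option {p : F × F // Ok q p.1 p.2} → IsoLine 3 F q
  | none => lineOf hF h2 hε ![1, 0, 0] inf_ne (iso_inf hF h2 hε)
  | some p => lineOf hF h2 hε ![p.1.2, 1, κ * p.1.1] pt_ne (iso_pt hF h2 hε hκ p.2)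

omit [IsSimpleGroup G] in
theorem lineMap_bijective : Function.Bijective (lineMap hF h2 hε hκ) := by
  have hk := kappa_ne hF h2 hε hκ
  constructor
  · rintro (_ | ⟨⟨a, b⟩, hp⟩) (_ | ⟨⟨a', b'⟩, hp'⟩) h
    · rfl
    · simp only [lineMap, lineOf_eq] at h
      obtain ⟨c, hc⟩ := h
      have h0 := congrFun hc 0
      have h1 := congrFun hc 1
      simp at h0 h1
      simp [h1] at h0
    · simp only [lineMap, lineOf_eq] at h
      obtain ⟨c, hc⟩ := h
      have h1 := congrFun hc 1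
      simp at h1
    · simp only [lineMap, lineOf_eq] at h
      obtain ⟨c, hc⟩ := h
      have h0 := congrFun hc 0
      have h1 := congrFun hc 1
      have h2' := congrFun hc 2
      simp at h0 h1 h2'
      subst h1
      simp [hk] at h0 h2'
      subst h0 h2'
      rfl
  · intro p
    obtain ⟨x, hx, h, rfl⟩ := exists_coord hF h2 hε p
    have h' := h
    simp only [iso3] at h'
    by_cases hs : x 1 = 0
    · refine ⟨none, (lineOf_eq hF h2 hε (hx := inf_ne) (h := iso_inf hF h2 hε)).2 ?_⟩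
      rw [hs, zero_pow_q hF, mul_zero, zero_mul, zero_add, zero_add] at h'
      have hw : x 2 = 0 := by
        rcases mul_eq_zero.1 h' with e | e
        · exact e
        · exact (pow_q_eq_zero hF).1 e
      have hu : x 0 ≠ 0 := fun e => hx (by funext i; fin_cases i <;> simp [e, hs, hw])
      exact ⟨(x 0)⁻¹, by funext i; fin_cases i <;> simp [hs, hw, hu]⟩
    · have hok : Ok q (x 2 / (κ * x 1)) (x 0 / x 1) := by
        have := pow_ne_zero q hs
        have := pow_ne_zero q hk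
        rw [Ok, div_pow, div_pow, mul_pow]
        field_simp
        linear_combination κ ^ q * κ * h' - x 2 * x 2 ^ q * hκ
      refine ⟨some ⟨(x 2 / (κ * x 1), x 0 / x 1), hok⟩,
        (lineOf_eq hF h2 hε (hx := pt_ne) (h := iso_pt hF h2 hε hκ hok)).2 ⟨(x 1)⁻¹, ?_⟩⟩
      funext i
      fin_cases i <;> simp [hs] <;> field_simp

omit h2 hε hκ in
/-- The points in coordinates. -/
theorem ptMap_bijective : Function.Bijective (fun o : Option {p : F × F // Ok q p.1 p.2} =>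
    o.elim C.oo fun p => C.pp p.1.1 p.1.2) := by
  constructor
  · rintro (_ | ⟨⟨a, b⟩, hp⟩) (_ | ⟨⟨a', b'⟩, hp'⟩) h
    · rfl
    · exact absurd (Eq.symm h) (C.pp_ne_oo hp')
    · exact absurd h (C.pp_ne_oo hp)
    · obtain ⟨rfl, rfl⟩ := C.pp_inj hp hp' h
      rfl
  · intro y
    by_cases hy : y = C.oo
    · exact ⟨none, hy.symm⟩
    · obtain ⟨a, b, h, e⟩ := C.pp_surj hy
      exact ⟨some ⟨(a, b), h⟩, e⟩

/-- The points correspond to the isotropic lines. -/
noncomputable def line : C.Pt ≃ IsoLine 3 F q :=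
  (Equiv.ofBijective _ (ptMap_bijective hF C)).symm.trans
    (Equiv.ofBijective _ (lineMap_bijective hF h2 hε hκ))

theorem line_oo : line hF h2 hε hκ C C.oo =
    lineOf hF h2 hε ![1, 0, 0] inf_ne (iso_inf hF h2 hε) := by
  have : (Equiv.ofBijective _ (ptMap_bijective hF C)).symm C.oo = none :=
    (Equiv.symm_apply_eq _).2 rfl
  simp [line, this, lineMap]

theorem line_pp {a b : F} (h : Ok q a b) : line hF h2 hε hκ C (C.pp a b) =
    lineOf hF h2 hε ![b, 1, κ * a] pt_ne (iso_pt hF h2 hε hκ h) := by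
  have : (Equiv.ofBijective _ (ptMap_bijective hF C)).symm (C.pp a b) = some ⟨(a, b), h⟩ :=
    (Equiv.symm_apply_eq _).2 rfl
  simp [line, this, lineMap]

/-- The translation. -/
theorem exists_translation {a b : F} (h : Ok q a b) : ∃ A : Cfsg.SU 3 F q,
    (∀ x : Fin 3 → F, suAct A (pm ε *ᵥ x) =
      pm ε *ᵥ (!![1, b, -(κ ^ q * a ^ q); 0, 1, 0; 0, κ * a, 1] *ᵥ x)) ∧
    ∀ y, A • line hF h2 hε hκ C y = line hF h2 hε hκ C (C.el a b • y) := by
  set U : Matrix (Fin 3) (Fin 3) F := !![1, b, -(κ ^ q * a ^ q); 0, 1, 0; 0, κ * a, 1] with hU'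
  have hU : ∀ x y, iso3 q (U *ᵥ x) (U *ᵥ y) = iso3 q x y := by
    intro x y
    rw [Ok] at h
    simp [hU', iso3, Matrix.mulVec, dotProduct, Fin.sum_univ_three, add_pow_q hF, mul_pow,
      neg_pow_q hF, pow_q_pow_q hF]
    linear_combination x 1 * y 1 ^ q * h + a ^ q * a * x 1 * y 1 ^ q * hκ
  have hd : U.det = 1 := by simp [hU', Matrix.det_fin_three]
  refine ⟨mkSU hF h2 hε U hU hd, mkSU_act hF h2 hε U hU hd, fun y => ?_⟩
  by_cases hy : y = C.oo
  · subst hy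
    rw [C.P_oo (C.el_mem h), line_oo]
    refine mkSU_line hF h2 hε U hU hd 1 ?_
    rw [one_smul]
    funext i
    fin_cases i <;> simp [hU', Matrix.mulVec, dotProduct, Fin.sum_univ_three]
  · obtain ⟨a', b', h', rfl⟩ := C.pp_surj hy
    have e : C.el a b • C.pp a' b' = C.pp (a + a') (b + b' + 2 * (a ^ q * a')) := by
      rw [← C.el_zero h', ← mul_smul, C.law h h', C.el_zero (h.mul hF h')]
    rw [e, line_pp hF h2 hε hκ C h', line_pp hF h2 hε hκ C (h.mul hF h')]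
    refine mkSU_line hF h2 hε U hU hd 1 ?_
    rw [one_smul]
    funext i
    fin_cases i <;> simp [hU', Matrix.mulVec, dotProduct, Fin.sum_univ_three]
    · linear_combination a ^ q * a' * hκ
    · ring

/-- The swap. -/
theorem exists_swap : ∃ A : Cfsg.SU 3 F q,
    ∀ y, A • line hF h2 hε hκ C y = line hF h2 hε hκ C (C.w • y) := by
  set U : Matrix (Fin 3) (Fin 3) F := !![0, -1, 0; -1, 0, 0; 0, 0, -1] with hU'
  have hU : ∀ x y, iso3 q (U *ᵥ x) (U *ᵥ y) = iso3 q x y := by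
    intro x y
    simp [hU', iso3, Matrix.mulVec, dotProduct, Fin.sum_univ_three, neg_pow_q hF]
    ring
  have hd : U.det = 1 := by simp [hU', Matrix.det_fin_three]
  refine ⟨mkSU hF h2 hε U hU hd, fun y => ?_⟩
  have h00 : Ok q (0 : F) 0 := (ok_zero hF).2 (skew_zero hF)
  by_cases hy : y = C.oo
  · subst hy
    rw [← Data.zero, line_oo, ← C.pp_zero, line_pp hF h2 hε hκ C h00]
    refine mkSU_line hF h2 hε U hU hd (-1) ?_
    funext i
    fin_cases i <;> simp [hU', Matrix.mulVec, dotProduct, Fin.sum_univ_three]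
  obtain ⟨a, b, h, rfl⟩ := C.pp_surj hy
  rcases eq_or_ne b 0 with rfl | hb
  · have ha : a = 0 := by
      by_contra ha
      exact h.ne_zero hF h2 ha rfl
    subst ha
    rw [C.pp_zero, C.w_zero, line_oo, ← C.pp_zero, line_pp hF h2 hε hκ C h00]
    refine mkSU_line hF h2 hε U hU hd (-1) ?_
    funext i
    fin_cases i <;> simp [hU', Matrix.mulVec, dotProduct, Fin.sum_univ_three]
  obtain ⟨h', e⟩ : ∃ _h' : Ok q (a / b) b⁻¹, C.w • C.pp a b = C.pp (a / b) b⁻¹ := by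
    rcases eq_or_ne a 0 with rfl | ha
    · have hb' := (ok_zero hF).1 h
      rw [zero_div]
      exact ⟨(ok_zero hF).2 (skew_inv hF hb'), C.pp_w_line hb' hb⟩
    · exact ⟨h.inv hF h2 ha, C.pp_w ha h⟩
  rw [e, line_pp hF h2 hε hκ C h, line_pp hF h2 hε hκ C h']
  refine mkSU_line hF h2 hε U hU hd (-b) ?_
  funext i
  fin_cases i <;> simp [hU', Matrix.mulVec, dotProduct, Fin.sum_univ_three, hb]
  field_simp

end Cfsg.Agent.U3Recog
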